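import Cfsg.Agent.H888.RatMain
import Cfsg.Agent.CpAut.OrthRow
import Cfsg.Agent.H818.Gen.Rows_m3
import Cfsg.Agent.H27.Psl.Field
import Cfsg.Agent.S1324
import Cfsg.Agent.H233.Rloc
import Cfsg.Prelude.Def_LieTypeChar
import Cfsg.Agent.H818.Gen.Defs
import Cfsg.Prelude.Def_KGroupFacts
import Cfsg.Agent.H818.StrP.Opp
import Cfsg.Agent.H751.Two.Code
import Cfsg.Agent.H549.RV.E8P11_m3
import Cfsg.Agent.S1025
import Cfsg.Agent.H70.OutCount
import Cfsg.Agent.ChevFast.E8
import Cfsg.Agent.S2123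
import Cfsg.Agent.S1063
import Cfsg.Agent.H111.Fpf.SevenPar
import Cfsg.Agent.S1064
import Cfsg.Agent.S2124
import Cfsg.Agent.S2125
import Cfsg.Agent.S1065
import Cfsg.Agent.H184.StrD4_mg_m3
import Cfsg.Agent.S1054
import Cfsg.Agent.S1062
import Cfsg.Agent.S1066
import Cfsg.Agent.S1067
import Cfsg.Agent.S1070
import Cfsg.Agent.S1071
import Cfsg.Agent.S2122
import Cfsg.Agent.S2129
import Cfsg.Agent.S2130
import Cfsg.Agent.ChevFast.E6
import Cfsg.Agent.H496.Mono.Base
import Cfsg.Agent.H720.TwFr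
import Cfsg.Prelude.Def_CaseTheorems
import Cfsg.Agent.CpAutTri.FinD
import Cfsg.Agent.H28.FamFour
import Cfsg.Agent.H316.U6Norm_m3
import Cfsg.Agent.H316.U6Fam_mg_m3
import Cfsg.Agent.SignalizersComponents.PCompQuot
import Cfsg.Agent.H225.Mono.End_m3
import Cfsg.Agent.H396.Comp.Quasi
import Cfsg.Agent.H696.GmnThree
import Cfsg.Agent.H666.FixChev
import Cfsg.Agent.H605.Exc.FixNorm
import Cfsg.Agent.H230.X3.Exc
import Cfsg.Agent.H655.Mono.Psi_m3
import Cfsg.Agent.H994.KE.Base_m3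
import Cfsg.Agent.H129.TwE6Idx
import Cfsg.Agent.H719.AutForm
import Cfsg.Agent.S1035
import Cfsg.Agent.H900.Fra.Wey
import Cfsg.Agent.H82.TwMaxD
import Cfsg.Agent.H847.Bs.Defs2
import Cfsg.Agent.FastGrp
import Cfsg.Agent.Prune
set_option linter.all false

section
prune_inst 0x7ffcbcf82fb8bddfdfff7e7fa6d0cffc19909fffa4dff9433fe0a1ef0b9f030009c561ad0de000fe0ee2423410a87843f97eca3fe26bdc7ffffd5df41ffbee0ff5f6b508519084240fb80ff603f0778e7f3fffffffffffffffffffffffffffbeffbfffffffff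

-- part: H889/Gen/OrthFld
section
prune_inst 0x34307d045400000000180010e0001e62b20004220048880000a00d0404c9ac6229a00821a93001101210084520310068134c0010420000000a000000011c008010000006e0890000420010000000000000000000000000000000000000000000000000000
set_option linter.all false
open scoped Cfsg.Agent.FastGrp

-- part: H889/Gen/Over
section
/-!
# Overgroups of the rational Siegel elements (S2187, orthogonal field automorphisms, helper889)

The results of `H888.Rat` for groups `H ≤ E Q` which contain the rational Siegel elements (and not necessarily the whole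
normaliser of the rational structure): `overgroups_rat` : `H ≤ stR b F₀` or `H = E Q`.
Adapted from the files `RatStab`, `RatOpp`, `RatMain` of helper888; the new part is `CtxR.stab_point`.
-/

set_option autoImplicit false
set_option linter.unusedSectionVars false

namespace Cfsg.Agent.H889.Gen.Rat

open QuadraticMap hiding proj
open Cfsg.Agent.LieClassical.OrthCore Cfsg.Agent.LieClassical.OrthTrans
  Cfsg.Agent.LieClassical.OrthFinite Cfsg.Agent.H883.Root Cfsg.Agent.H883.Sub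
open Cfsg.Agent.H888.Rat

variable {F V : Type*} [Field F] [AddCommGroup V] [Module F V] {ι : Type*}
variable {b : Module.Basis ι F V} {F₀ : Subfield F} {Q : QuadraticForm F V}
variable {H : Subgroup (V ≃ₗ[F] V)}

/-- The standing hypotheses on `H`. -/
structure CtxR (Q : QuadraticForm F V) (b : Module.Basis ι F V) (F₀ : Subfield F)
    (H : Subgroup (V ≃ₗ[F] V)) : Prop where
  nondeg : Nondeg Q
  isRat : IsRat Q b F₀
  has : HasRat Q b F₀ H
  leE : H ≤ E Q
  thin : Thin Q b F₀ H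

theorem CtxR.isom {g : V ≃ₗ[F] V} (C : CtxR Q b F₀ H) (hg : g ∈ H) : g ∈ O Q := E_le_O (C.leE hg)

/-- the commutator of a unipotent element with a rational Siegel element -/
theorem has_comm_aux {u w e f : V} (hu : Q u = 0) (hw : polar Q u w = 0) (hx : Has Q H e f)
    (hue : polar Q u e = 0) (huf : polar Q u f = 0)
    (hk : Has Q H (siegel Q u w hu hw e) (siegel Q u w hu hw f)) :
    Has Q H u (w - siegel Q e f hx.sing hx.perp w) := by
  set k := siegel Q u w hu hw with hkdef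
  set x := siegel Q e f hx.sing hx.perp with hxdef
  have hxO : x ∈ O Q := siegel_mem_O _ _
  have hkO : k ∈ O Q := siegel_mem_O _ _
  have hxu : x u = u := siegel_fix _ _ (by rw [polar_comm]; exact hue) (by rw [polar_comm]; exact huf)
  have hw' : polar Q u (-w) = 0 := by rw [polar_neg_right, hw, neg_zero]
  have h1 : k⁻¹ = siegel Q u (-w) hu hw' := siegel_inv hu hw hw'
  have hux : Q (x u) = 0 := by rw [hxu]; exact hu
  have hux' : polar Q (x u) (x (-w)) = 0 := by rw [polar_map hxO]; exact hw'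
  have h2 : x * k⁻¹ * x⁻¹ = siegel Q (x u) (x (-w)) hux hux' := by
    rw [h1]
    exact siegel_conj hxO hu hw' hux hux'
  have hux'' : polar Q u (x (-w)) = 0 := by rw [← hxu, polar_map hxO]; exact hw'
  have h3 : siegel Q (x u) (x (-w)) hux hux' = siegel Q u (x (-w)) hu hux'' := by
    congr 1
  have h4 : k * x * k⁻¹ = siegel Q (k e) (k f) hk.sing hk.perp := siegel_conj hkO hx.sing hx.perp _ _
  have hp : polar Q u (w + x (-w)) = 0 := by rw [polar_add_right, hw, hux'', add_zero]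
  have h5 : siegel Q u (w + x (-w)) hu hp ∈ H := by
    rw [← siegel_mul hu hw hux'' hp, ← h3, ← h2]
    have h6 : siegel Q u w hu hw * (x * k⁻¹ * x⁻¹) = (k * x * k⁻¹) * x⁻¹ := by
      rw [← hkdef]
      group
    rw [h6, h4]
    exact H.mul_mem (hk.mem _ _) (H.inv_mem (hx.mem _ _))
  have h6 : w + x (-w) = w - x w := by rw [map_neg, sub_eq_add_neg]
  exact Has.congr ⟨hu, hp, h5⟩ rfl h6

variable [Fintype ι] [Finite F]

/-- **The stabiliser in `H` of a rational singular point normalises the rational structure.** -/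
theorem CtxR.stab_point (C : CtxR Q b F₀ H) (hn : 7 ≤ Fintype.card ι) {g : V ≃ₗ[F] V} (hg : g ∈ H)
    {u : V} (hu : u ∈ rat b F₀) (hu0 : u ≠ 0) (hsu : Q u = 0) {a : F} (hgu : g u = a • u) :
    g ∈ stR b F₀ := by
  have hgO := C.isom hg
  have ha : a ≠ 0 := by
    rintro rfl
    rw [zero_smul] at hgu
    exact hu0 (g.map_eq_zero_iff.1 hgu)
  obtain ⟨v, hv, huv⟩ := exists_partner_rat C.nondeg C.isRat hu hsu hu0
  have hv' : Hyp Q u (a • g v) := by
    refine ⟨hsu, ?_, ?_⟩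
    · rw [QuadraticMap.map_smul, mem_O.1 hgO, huv.right, smul_zero]
    · rw [polar_smul_right, ← polar_smul_left, ← hgu, polar_map hgO, huv.pair]
  have hw : polar Q u (a • g v - v) = 0 := by
    rw [polar_sub_right, hv'.pair, huv.pair, sub_self]
  set k := siegel Q u (a • g v - v) hsu hw with hk
  have hkE : k ∈ E Q := siegel_mem_E _ _
  have hkO : k ∈ O Q := siegel_mem_O _ _
  have hku : k u = u := by
    rw [hk, siegel_apply, huv.polar_left, polar_comm Q _ u, hw]
    simp only [_root_.zero_smul, _root_.add_zero, _root_.sub_zero, _root_.MulZeroClass.mul_zero]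
  have hkv : k v = a • g v := by
    have hQ' : Q (a • g v - v) = - polar Q (a • g v) v := by
      rw [sub_eq_add_neg, Q_add, QuadraticMap.map_neg, polar_neg_right, hv'.right, huv.right]
      ring
    rw [hk, siegel_apply, huv.pair, hQ', polar_sub_left, huv.polar_right]
    module
  -- `g' = k⁻¹ g`
  set g' := k⁻¹ * g with hg'
  have hkg' : ∀ x, k (g' x) = g x := fun x => LinearEquiv.apply_symm_apply k (g x)
  have hg'E : g' ∈ E Q := (E Q).mul_mem ((E Q).inv_mem hkE) (C.leE hg)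
  have hg'O : g' ∈ O Q := E_le_O hg'E
  have hg'u : g' u = a • u := by
    apply k.injective
    rw [hkg', map_smul, hku, hgu]
  have hg'v : a • g' v = v := by
    apply k.injective
    rw [map_smul, hkg', hkv]
  -- action on the complement
  have hx : ∀ x ∈ rat b F₀, polar Q u x = 0 → polar Q v x = 0 →
      a • g' x ∈ rat b F₀ := by
    intro x hx hux hvx
    have h1 : Has Q H (g u) (g x) := (C.has u hu x hx hsu hux).map hgO hg
    rw [hgu] at h1
    have hugx : polar Q u (g x) = 0 := by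
      have h2 := h1.perp
      rw [polar_smul_left, smul_eq_mul] at h2
      exact (mul_eq_zero.1 h2).resolve_left ha
    have h2 : Has Q H u (a • g x) := h1.smul_right hsu hugx
    obtain ⟨x₀, hx₀, c, hc⟩ := C.thin u hu hu0 _ h2
    -- apply `k⁻¹`
    have hux₀ : polar Q u x₀ = 0 := by
      have h3 : polar Q u (a • g x) = 0 := h2.perp
      rw [hc, polar_add_right, polar_smul_right, huv.polar_left, smul_zero, add_zero] at h3
      exact h3
    have h4 : k (x₀ + (c + polar Q (a • g v - v) x₀) • u) = a • g x := by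
      rw [map_add, map_smul, hku, hc, hk, siegel_apply, hux₀]
      simp only [zero_smul, mul_zero]
      module
    have h5 : a • g' x = x₀ + (c + polar Q (a • g v - v) x₀) • u := by
      apply k.injective
      rw [h4, map_smul, hkg']
    have h6 : polar Q v (a • g' x) = 0 := by
      have h7 : polar Q (g' v) (g' x) = 0 := by rw [polar_map hg'O, hvx]
      rw [← hg'v, polar_smul_left, polar_smul_right, h7]
      simp
    rw [h5] at h6 ⊢
    rw [polar_add_right, polar_smul_right, huv.pair', smul_eq_mul, mul_one] at h6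
    have h8 : c + polar Q (a • g v - v) x₀ = - polar Q v x₀ := by linear_combination h6
    rw [h8]
    exact (rat b F₀).add_mem hx₀ (rat_smul (F₀.neg_mem (C.isRat.polar hv hx₀)) hu)
  -- `a²` is rational
  have ha2 : a * a ∈ F₀ := by
    obtain ⟨e, he, f, hf, hef, h1, h2⟩ := exists_hyp_rat C.nondeg C.isRat ![u, v]
      (by intro i; fin_cases i <;> assumption) (by omega)
    have hue : polar Q u e = 0 := h1 0
    have hve : polar Q v e = 0 := h1 1
    have huf : polar Q u f = 0 := h2 0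
    have hvf : polar Q v f = 0 := h2 1
    have h3 := hx (e + f) ((rat b F₀).add_mem he hf)
      (by rw [polar_add_right, hue, huf, add_zero]) (by rw [polar_add_right, hve, hvf, add_zero])
    have h4 := C.isRat _ h3
    rw [QuadraticMap.map_smul, mem_O.1 hg'O, Q_add, hef.left, hef.right, hef.pair] at h4
    simpa using h4
  have hg'R : g' ∈ stR b F₀ := by
    refine mem_stR_of_forall ha fun t ht => ?_
    have e : t = polar Q v t • u + polar Q u t • v + Cfsg.Agent.LieClassical.OrthTrans.proj Q u v t := by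
      rw [Cfsg.Agent.LieClassical.OrthTrans.proj]; module
    have e2 : a • g' t = (polar Q v t * (a * a)) • u + polar Q u t • v +
        a • g' (Cfsg.Agent.LieClassical.OrthTrans.proj Q u v t) := by
      conv_lhs => rw [e]
      rw [map_add, map_add, map_smul, map_smul, hg'u, smul_add, smul_add, smul_comm a (polar Q u t),
        hg'v, smul_smul, smul_smul]
      congr 3
      ring
    rw [e2]
    refine (rat b F₀).add_mem ((rat b F₀).add_mem
      (rat_smul (F₀.mul_mem (C.isRat.polar hv ht) ha2) hu) (rat_smul (C.isRat.polar hu ht) hv)) ?_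
    exact hx _ (proj_rat C.isRat hu hv ht) (polar_proj_left huv t) (polar_proj_right huv t)
  -- images of rational Siegel elements
  have hkmem : ∀ e ∈ rat b F₀, ∀ f ∈ rat b F₀, Q e = 0 → polar Q e f = 0 → Has Q H (k e) (k f) := by
    intro e he f hf hse hef
    -- rational preimages
    obtain ⟨c, hc, hcm⟩ := (stR b F₀).inv_mem hg'R
    have hinv : ∀ x, g' (g'⁻¹ x) = x := fun x => LinearEquiv.apply_symm_apply g' x
    have he' : c • g'⁻¹ e ∈ rat b F₀ := (hcm e).1 he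
    have hf' : c • g'⁻¹ f ∈ rat b F₀ := (hcm f).1 hf
    have hc2 : c * c ∈ F₀ := by
      obtain ⟨x, hx, y, hy, hxy⟩ := exists_hyp_rat C.nondeg C.isRat (m := 0) ![] (by intro i; exact i.elim0) (by omega)
      have h4 := C.isRat _ ((hcm (x + y)).1 ((rat b F₀).add_mem hx hy))
      rw [QuadraticMap.map_smul] at h4
      have h5 : Q (g'⁻¹ (x + y)) = 1 := by
        have h6 := mem_O.1 hg'O (g'⁻¹ (x + y))
        rw [hinv] at h6
        rw [← h6, Q_add, hxy.1.left, hxy.1.right, hxy.1.pair]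
        ring
      rw [h5, smul_eq_mul, mul_one] at h4
      exact h4
    have hse' : Q (g'⁻¹ e) = 0 := by
      have h6 := mem_O.1 hg'O (g'⁻¹ e)
      rw [hinv] at h6
      rw [← h6, hse]
    have hef' : polar Q (g'⁻¹ e) (g'⁻¹ f) = 0 := by
      have h6 := polar_map hg'O (g'⁻¹ e) (g'⁻¹ f)
      rw [hinv, hinv] at h6
      rw [← h6, hef]
    have hc2' : (c * c)⁻¹ ∈ F₀ := F₀.inv_mem hc2
    have h7 : Has Q H (c • g'⁻¹ e) ((c * c)⁻¹ • c • g'⁻¹ f) := by
      refine C.has _ he' _ (rat_smul hc2' hf') ?_ ?_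
      · rw [QuadraticMap.map_smul, hse', smul_zero]
      · rw [polar_smul_right, polar_smul_right, polar_smul_left, hef', smul_zero, smul_zero, smul_zero]
    have h8 : Has Q H (g'⁻¹ e) (c • (c * c)⁻¹ • c • g'⁻¹ f) := by
      refine h7.smul_right hse' ?_
      rw [polar_smul_right, polar_smul_right, hef', smul_zero, smul_zero]
    have h9 : c • (c * c)⁻¹ • c • g'⁻¹ f = g'⁻¹ f := by
      rw [smul_smul, smul_smul]
      have : c * (c * c)⁻¹ * c = 1 := by field_simp
      rw [this, one_smul]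
    rw [h9] at h8
    have h10 := h8.map hgO hg
    have e1 : ∀ y, g (g'⁻¹ y) = k y := by
      intro y
      rw [← hkg', hinv]
    rw [e1, e1] at h10
    exact h10
  -- `w = a g v - v`
  set w := a • g v - v with hwdef
  have hthin : ∀ e ∈ rat b F₀, ∀ f ∈ rat b F₀, Q e = 0 → polar Q e f = 0 → polar Q u e = 0 → polar Q u f = 0 →
      polar Q v e = 0 → polar Q v f = 0 →
      polar Q e w • f - (polar Q f w + Q f * polar Q e w) • e ∈ rat b F₀ := by
    intro e he f hf hse hef hue huf hve hvf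
    have h4 := has_comm_aux hsu hw (C.has e he f hf hse hef) hue huf (hkmem e he f hf hse hef)
    obtain ⟨x₀, hx₀, c, hc⟩ := C.thin u hu hu0 _ h4
    rw [siegel_apply] at hc
    have h5 : polar Q v (w - (w + polar Q e w • f - polar Q f w • e - (Q f * polar Q e w) • e)) = 0 := by
      have : w - (w + polar Q e w • f - polar Q f w • e - (Q f * polar Q e w) • e) =
          (polar Q f w + Q f * polar Q e w) • e - polar Q e w • f := by module
      rw [this, polar_sub_right, polar_smul_right, polar_smul_right, hve, hvf, smul_zero, smul_zero, sub_zero]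
    rw [hc, polar_add_right, polar_smul_right, huv.pair', smul_eq_mul, mul_one] at h5
    have h6 : c ∈ F₀ := by
      have : c = - polar Q v x₀ := by linear_combination h5
      rw [this]
      exact F₀.neg_mem (C.isRat.polar hv hx₀)
    have h7 : w - (w + polar Q e w • f - polar Q f w • e - (Q f * polar Q e w) • e) ∈ rat b F₀ := by
      rw [hc]
      exact (rat b F₀).add_mem hx₀ (rat_smul h6 hu)
    have h8 := (rat b F₀).neg_mem h7
    have h9 : -(w - (w + polar Q e w • f - polar Q f w • e - (Q f * polar Q e w) • e)) =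
        polar Q e w • f - (polar Q f w + Q f * polar Q e w) • e := by module
    rwa [h9] at h8
  -- two hyperbolic pairs
  obtain ⟨e, he, e', he', hee, h1e, h2e⟩ := exists_hyp_rat C.nondeg C.isRat ![u, v]
    (by intro i; fin_cases i <;> assumption) (by omega)
  have hue : polar Q u e = 0 := h1e 0
  have hve : polar Q v e = 0 := h1e 1
  have hue' : polar Q u e' = 0 := h2e 0
  have hve' : polar Q v e' = 0 := h2e 1
  obtain ⟨f, hf, f', hf', hff, ⟨huf, hvf, hef, he'f⟩, ⟨huf', hvf', hef', he'f'⟩⟩ :=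
    exists_hyp_rat_perp2 C.nondeg C.isRat hn hu hv huv he he' hee hue hue' hve hve'
  have hpe : polar Q e w ∈ F₀ := by
    have h4 := C.isRat.polar (hthin e he f hf hee.left hef hue huf hve hvf) hf'
    rw [polar_sub_left, polar_smul_left, polar_smul_left, hff.pair, hef', smul_zero, sub_zero, smul_eq_mul,
      mul_one] at h4
    exact h4
  have hpe' : polar Q e' w ∈ F₀ := by
    have h4 := C.isRat.polar (hthin e' he' f hf hee.right he'f hue' huf hve' hvf) hf'
    rw [polar_sub_left, polar_smul_left, polar_smul_left, hff.pair, he'f', smul_zero, sub_zero, smul_eq_mul,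
      mul_one] at h4
    exact h4
  have hpt1 : ∀ t ∈ rat b F₀, polar Q u t = 0 → polar Q v t = 0 → polar Q e t = 0 → polar Q t w ∈ F₀ := by
    intro t ht hut hvt het
    have h4 := C.isRat.polar (hthin e he t ht hee.left het hue hut hve hvt) he'
    rw [polar_sub_left, polar_smul_left, polar_smul_left, hee.pair, smul_eq_mul, smul_eq_mul, mul_one] at h4
    have h5 : polar Q e w * polar Q t e' ∈ F₀ := F₀.mul_mem hpe (C.isRat.polar ht he')
    have h6 := F₀.sub_mem h5 h4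
    have h7 : polar Q e w * polar Q t e' - (polar Q e w * polar Q t e' - (polar Q t w + Q t * polar Q e w)) -
        Q t * polar Q e w = polar Q t w := by ring
    rw [← h7]
    exact F₀.sub_mem h6 (F₀.mul_mem (C.isRat _ ht) hpe)
  have hpt : ∀ t ∈ rat b F₀, polar Q u t = 0 → polar Q v t = 0 → polar Q t w ∈ F₀ := by
    intro t ht hut hvt
    have het : polar Q e t ∈ F₀ := C.isRat.polar he ht
    have h4 := hpt1 (t - polar Q e t • e') ((rat b F₀).sub_mem ht (rat_smul het he'))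
      (by rw [polar_sub_right, polar_smul_right, hut, hue', smul_zero, sub_zero])
      (by rw [polar_sub_right, polar_smul_right, hvt, hve', smul_zero, sub_zero])
      (by rw [polar_sub_right, polar_smul_right, hee.pair, smul_eq_mul, mul_one, sub_self])
    rw [polar_sub_left, polar_smul_left, smul_eq_mul] at h4
    have h5 := F₀.add_mem h4 (F₀.mul_mem het hpe')
    rwa [sub_add_cancel] at h5
  obtain ⟨w₀, hw₀, c, hc⟩ : ∃ w₀ ∈ rat b F₀, ∃ c : F, w = w₀ + c • u := by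
    refine ⟨w - polar Q v w • u, ?_, polar Q v w, by module⟩
    refine mem_rat_of_polar C.nondeg C.isRat fun t ht => ?_
    have hvt : polar Q v t ∈ F₀ := C.isRat.polar hv ht
    have hut : polar Q u t ∈ F₀ := C.isRat.polar hu ht
    have h4 := hpt (t - polar Q v t • u - polar Q u t • v)
      ((rat b F₀).sub_mem ((rat b F₀).sub_mem ht (rat_smul hvt hu)) (rat_smul hut hv))
      (by rw [polar_sub_right, polar_sub_right, polar_smul_right, polar_smul_right, huv.polar_left, huv.pair]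
          simp)
      (by rw [polar_sub_right, polar_sub_right, polar_smul_right, polar_smul_right, huv.pair', huv.polar_right]
          simp)
    rw [polar_sub_left, polar_sub_left, polar_smul_left, polar_smul_left, hw, smul_zero, sub_zero,
      smul_eq_mul] at h4
    rw [polar_sub_right, polar_smul_right, polar_comm Q t u, smul_eq_mul]
    have h5 : polar Q t w - polar Q v w * polar Q u t = polar Q t w - polar Q u t * polar Q v w := by ring
    rw [h5]
    exact h4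
  have hkR : k ∈ stR b F₀ := by
    have huw₀ : polar Q u w₀ = 0 := by
      have h3 := hw
      rw [hc, polar_add_right, polar_smul_right, huv.polar_left, smul_zero, add_zero] at h3
      exact h3
    have hcu : polar Q u (c • u) = 0 := by
      rw [polar_smul_right, huv.polar_left, smul_zero]
    have e : k = siegel Q u w₀ hsu huw₀ := by
      have h1 := siegel_mul hsu huw₀ hcu (by rw [← hc]; exact hw)
      rw [siegel_self, mul_one] at h1
      rw [h1, hk]
      congr 1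
    rw [e]
    exact siegel_mem_stR C.isRat hsu huw₀ hu hw₀
  have : g = k * g' := by rw [hg']; group
  rw [this]
  exact (stR b F₀).mul_mem hkR hg'R

/-- **If `h ∈ H` maps a rational singular point to a rational point then `h` normalises the rational
structure.** -/
theorem CtxR.rat_image (C : CtxR Q b F₀ H) (hn : 7 ≤ Fintype.card ι) {h : V ≃ₗ[F] V} (hh : h ∈ H)
    {u : V} (hu : u ∈ rat b F₀) (hu0 : u ≠ 0) (hsu : Q u = 0) {c : F} (hc : c ≠ 0)
    (hhu : c • h u ∈ rat b F₀) : h ∈ stR b F₀ := by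
  have hs : Q (c • h u) = 0 := by
    rw [QuadraticMap.map_smul, mem_O.1 (C.isom hh), hsu, smul_zero]
  have h0 : c • h u ≠ 0 := by
    rw [smul_ne_zero_iff]
    exact ⟨hc, fun h0 => hu0 (h.map_eq_zero_iff.1 h0)⟩
  obtain ⟨m, hm, hmu, hmR⟩ := trans_rat C.nondeg C.isRat (by omega) C.has hhu hu hs hsu h0 hu0
  have h1 : (m * h) u = c⁻¹ • u := by
    show m (h u) = _
    have h2 : c • m (h u) = u := by rw [← map_smul, hmu]
    rw [← h2, smul_smul, inv_mul_cancel₀ hc, one_smul, h2]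
  have h2 := C.stab_point hn (H.mul_mem hm.1 hh) hu hu0 hsu h1
  have h3 : m ∈ stR b F₀ := mem_stR_of_forall one_ne_zero fun v hv => by
    rw [one_smul]
    exact hmR v hv
  have : h = m⁻¹ * (m * h) := by group
  rw [this]
  exact (stR b F₀).mul_mem ((stR b F₀).inv_mem h3) h2

/-- **If `D` is totally singular, spanned by rational vectors and by images under `h ∈ H` of rational
vectors, then `h` normalises the rational structure.** -/
theorem CtxR.stab_sub (C : CtxR Q b F₀ H) (hn : 7 ≤ Fintype.card ι) {h : V ≃ₗ[F] V} (hh : h ∈ H)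
    {D : Submodule F V} (h0 : D ≠ ⊥) (hs : ∀ x ∈ D, Q x = 0) (hp : ¬ perp Q D ≤ D)
    (hD : RatSub b F₀ D) (hD' : RatSub b F₀ (D.comap (h : V →ₗ[F] V))) : h ∈ stR b F₀ := by
  have hhO := C.isom hh
  have hpol : ∀ x ∈ D, ∀ y ∈ D, polar Q x y = 0 := by
    intro x hx y hy
    rw [polar, hs _ (D.add_mem hx hy), hs x hx, hs y hy]
    ring
  have : Module.Finite F V := Module.Finite.of_basis b
  obtain ⟨u, hu, huD, hu0⟩ := hD.exists_ne h0
  have h0' : D.comap (h : V →ₗ[F] V) ≠ ⊥ := by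
    intro h1
    obtain ⟨d, hd, hd0⟩ := Submodule.exists_mem_ne_zero_of_ne_bot h0
    have h2 : h.symm d ∈ D.comap (h : V →ₗ[F] V) := by
      show h (h.symm d) ∈ D
      rw [LinearEquiv.apply_symm_apply]
      exact hd
    rw [h1, Submodule.mem_bot] at h2
    exact hd0 (h.symm.map_eq_zero_iff.1 h2)
  obtain ⟨a₁, ha₁, ha₁D, ha₁0⟩ := hD'.exists_ne h0'
  have ha₁D' : h a₁ ∈ D := ha₁D
  -- a rational vector orthogonal to `h⁻¹ D` outside it
  obtain ⟨x, hxp, hxD⟩ := SetLike.not_le_iff_exists.1 hp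
  have hx1 : h.symm x ∉ D.comap (h : V →ₗ[F] V) := by
    intro h1
    have h2 : h (h.symm x) ∈ D := h1
    rw [LinearEquiv.apply_symm_apply] at h2
    exact hxD h2
  have hx2 : h.symm x ∈ perp Q (D.comap (h : V →ₗ[F] V)) := by
    rw [mem_perp]
    intro w hw
    have hw' : h w ∈ D := hw
    rw [← polar_map hhO, LinearEquiv.apply_symm_apply]
    exact mem_perp.1 hxp _ hw'
  obtain ⟨b₁, hb₁, hb₁p, hb₁x⟩ := hD'.exists_sep C.nondeg C.isRat hx1
  have hb₁D : h b₁ ∉ D := by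
    intro h1
    apply hb₁x
    exact mem_perp'.1 hx2 b₁ h1
  have hab₁ : polar Q a₁ b₁ = 0 := mem_perp.1 hb₁p _ ha₁D
  have hsa₁ : Q a₁ = 0 := by
    rw [← mem_O.1 hhO]
    exact hs _ ha₁D'
  have hk := (C.has a₁ ha₁ b₁ hb₁ hsa₁ hab₁).map hhO hh
  have hbD : ∀ d ∈ D, polar Q (h b₁) d = 0 := by
    intro d hd
    have h1 : h (h.symm d) = d := LinearEquiv.apply_symm_apply h d
    rw [← h1, polar_map hhO, polar_comm]
    refine mem_perp.1 hb₁p _ ?_
    show h (h.symm d) ∈ D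
    rw [h1]
    exact hd
  set k := siegel Q (h a₁) (h b₁) hk.sing hk.perp with hkdef
  have hkH : k ∈ H := hk.mem _ _
  have hku : k u = u := siegel_fix _ _ (hpol _ ha₁D' _ huD) (hbD _ huD)
  have hkR : k ∈ stR b F₀ := C.stab_point hn hkH hu hu0 (hs u huD) (a := 1)
    (by rw [one_smul, hku])
  obtain ⟨v, hv, hvp, hbv⟩ := hD.exists_sep C.nondeg C.isRat hb₁D
  have hkv := map_rat_of_fix hkR hu hu0 hku hv
  have hav : polar Q (h a₁) v = 0 := mem_perp.1 hvp _ ha₁D'
  rw [hkdef, siegel_apply, hav] at hkv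
  have h1 : polar Q (h b₁) v • h a₁ ∈ rat b F₀ := by
    have h2 := (rat b F₀).sub_mem hv hkv
    have e : v - (v + (0 : F) • h b₁ - polar Q (h b₁) v • h a₁ - (Q (h b₁) * 0) • h a₁) =
        polar Q (h b₁) v • h a₁ := by
      rw [mul_zero]; module
    rwa [e] at h2
  exact C.rat_image hn hh ha₁ ha₁0 hsa₁ hbv h1

/-- **Lemma (line).**  `h ∈ H` mapping a rational line to a rational line normalises the structure. -/
theorem CtxR.line (C : CtxR Q b F₀ H) (hn : 7 ≤ Fintype.card ι) {h : V ≃ₗ[F] V} (hh : h ∈ H)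
    {x y : V} (hx0 : x ≠ 0) (hx : Q x = 0) (hxy : polar Q x y = 0) (hy : Q y = 0)
    (hD : RatSub b F₀ (Submodule.span F {x, y}))
    (hD' : RatSub b F₀ ((Submodule.span F {x, y}).comap (h : V →ₗ[F] V))) : h ∈ stR b F₀ := by
  have : Module.Finite F V := Module.Finite.of_basis b
  have hfin : Module.finrank F V = Fintype.card ι := Module.finrank_eq_card_basis b
  refine C.stab_sub hn hh ?_ (fun z hz => sing_of_span_pair hx hxy hy hz) ?_ hD hD'
  · intro h0
    have : x ∈ Submodule.span F {x, y} := Submodule.subset_span (by simp)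
    rw [h0] at this
    exact hx0 ((Submodule.mem_bot F).1 this)
  · apply not_perp_le C.nondeg
    have := finrank_span_pair_le (F := F) x y
    omega

/-- The root elements attached to images of rational lines under `h ∉ stR` are not in `stR`. -/
theorem CtxR.root_not_mem (C : CtxR Q b F₀ H) (hn : 7 ≤ Fintype.card ι) {h : V ≃ₗ[F] V} (hh : h ∈ H)
    (hnot : h ∉ stR b F₀) {e₁ e₂ : V} (he₁ : e₁ ∈ rat b F₀) (he₂ : e₂ ∈ rat b F₀)
    (hs₁ : Q e₁ = 0) (hs₂ : Q e₂ = 0) (h12 : polar Q e₁ e₂ = 0) (hi₁ : ∀ c : F, e₁ ≠ c • e₂)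
    (hi₂ : ∀ c : F, e₂ ≠ c • e₁) (hu : Q (h e₁) = 0) (hw : polar Q (h e₁) (h e₂) = 0) :
    siegel Q (h e₁) (h e₂) hu hw ∉ stR b F₀ := by
  intro hmem
  obtain ⟨p, hp⟩ := CharP.exists F
  have : Fact p.Prime := ⟨CharP.char_is_prime F p⟩
  have hk : ∀ v ∈ rat b F₀, siegel Q (h e₁) (h e₂) hu hw v ∈ rat b F₀ := fun v hv =>
    map_rat_of_pow (p := p) hmem (siegel_pow_char hu hw) hv
  have hs₂' : Q (h e₂) = 0 := by rw [mem_O.1 (C.isom hh), hs₂]
  have hD := ratSub_of_siegel C.nondeg hu hw hs₂'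
    (fun c hc => hi₁ c (h.injective (by rw [hc, map_smul])))
    (fun c hc => hi₂ c (h.injective (by rw [hc, map_smul]))) hk
  apply hnot
  refine C.line hn hh (x := h e₁) (y := h e₂) ?_ hu hw hs₂' hD ?_
  · intro h0
    apply hi₁ 0
    rw [zero_smul]
    exact h.map_eq_zero_iff.1 h0
  · rw [comap_span_pair]
    refine ratSub_span ?_
    rintro s (rfl | hs)
    · exact he₁
    · rw [Set.mem_singleton_iff] at hs
      rw [hs]; exact he₂

/-- **Opposition.** -/
theorem CtxR.opp (C : CtxR Q b F₀ H) (hn : 7 ≤ Fintype.card ι) {h : V ≃ₗ[F] V} (hh : h ∈ H)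
    (hnot : h ∉ stR b F₀) {e₁ e₂ : V} (he₁ : e₁ ∈ rat b F₀) (he₂ : e₂ ∈ rat b F₀)
    (hs₁ : Q e₁ = 0) (hs₂ : Q e₂ = 0) (h12 : polar Q e₁ e₂ = 0) (hi₁ : ∀ c : F, e₁ ≠ c • e₂)
    (hi₂ : ∀ c : F, e₂ ≠ c • e₁)
    {u₁ u₂ : V} (hu₁ : u₁ ∈ rat b F₀) (hu₂ : u₂ ∈ rat b F₀)
    (hsu₁ : Q u₁ = 0) (hsu₂ : Q u₂ = 0) (hu12 : polar Q u₁ u₂ = 0)
    (hj₁ : u₁ ≠ 0) {α β : F} (h1 : polar Q (α • u₁ + β • u₂) (h e₁) = 0)
    (h2 : polar Q (α • u₁ + β • u₂) (h e₂) = 0) : α • u₁ + β • u₂ = 0 := by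
  by_contra hv0
  have hhO := C.isom hh
  set a := h e₁ with ha
  set b' := h e₂ with hb'
  have hsa : Q a = 0 := by rw [ha, mem_O.1 hhO, hs₁]
  have hsb : Q b' = 0 := by rw [hb', mem_O.1 hhO, hs₂]
  have hab : polar Q a b' = 0 := by rw [ha, hb', polar_map hhO, h12]
  have hynot : siegel Q a b' hsa hab ∉ stR b F₀ :=
    C.root_not_mem hn hh hnot he₁ he₂ hs₁ hs₂ h12 hi₁ hi₂ hsa hab
  have hy : Has Q H a b' := (C.has e₁ he₁ e₂ he₂ hs₁ h12).map hhO hh
  set y := siegel Q a b' hsa hab with hydef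
  have hyH : y ∈ H := hy.mem _ _
  have hind : ∀ s t : F, s • a + t • b' = 0 → s = 0 ∧ t = 0 := by
    intro s t hst
    have h3 : s • e₁ + t • e₂ = 0 := by
      apply h.injective
      rw [map_add, map_smul, map_smul, map_zero]
      exact hst
    constructor
    · by_contra hs
      apply hi₁ (-(s⁻¹ * t))
      have h4 : e₁ = s⁻¹ • (s • e₁) := by rw [smul_smul, inv_mul_cancel₀ hs, one_smul]
      have h5 : s • e₁ = -(t • e₂) := eq_neg_of_add_eq_zero_left h3
      rw [h4, h5, smul_neg, smul_smul, neg_smul]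
    · by_contra ht
      apply hi₂ (-(t⁻¹ * s))
      have h4 : e₂ = t⁻¹ • (t • e₂) := by rw [smul_smul, inv_mul_cancel₀ ht, one_smul]
      have h5 : t • e₂ = -(s • e₁) := eq_neg_of_add_eq_zero_right h3
      rw [h4, h5, smul_neg, smul_smul, neg_smul]
  -- a basis `v, v'` of the line of `u₁, u₂`
  obtain ⟨γ, δ, hdet⟩ : ∃ γ δ : F, α * δ - β * γ = 1 := by
    by_cases hα : α = 0
    · have hβ : β ≠ 0 := by
        rintro rfl
        apply hv0
        rw [hα, zero_smul, zero_smul, add_zero]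
      exact ⟨-β⁻¹, 0, by rw [mul_zero, mul_neg, mul_inv_cancel₀ hβ]; ring⟩
    · exact ⟨0, α⁻¹, by rw [mul_zero, mul_inv_cancel₀ hα]; ring⟩
  have hx : Has Q H u₁ u₂ := C.has u₁ hu₁ u₂ hu₂ hsu₁ hu12
  have hvv' := has_line hx hsu₂ hdet
  set v := α • u₁ + β • u₂ with hv
  set v' := γ • u₁ + δ • u₂ with hv'
  have hu₁v : u₁ = δ • v - β • v' := by
    have : u₁ = (α * δ - β * γ) • u₁ := by rw [hdet, one_smul]
    rw [this, hv, hv']
    module
  have hu₂v : u₂ = α • v' - γ • v := by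
    have : u₂ = (α * δ - β * γ) • u₂ := by rw [hdet, one_smul]
    rw [this, hv, hv']
    module
  have hsv : Q v = 0 := hvv'.sing
  have hvv'0 : polar Q v v' = 0 := hvv'.perp
  have hsv' : Q v' = 0 := by
    apply sing_of_span_pair hsu₁ hu12 hsu₂
    exact Submodule.mem_span_pair.2 ⟨γ, δ, rfl⟩
  -- `a'`, `b''`
  set s := polar Q v' b' with hs
  set t := - polar Q v' a with ht
  by_cases hst : s = 0 ∧ t = 0
  · -- `y` fixes `u₁`
    apply hynot
    have e1 : polar Q a u₁ = 0 := by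
      rw [polar_comm, hu₁v, polar_sub_left, polar_smul_left, polar_smul_left, h1]
      have : polar Q v' a = 0 := by rw [← neg_eq_zero, ← ht]; exact hst.2
      rw [this]; simp
    have e2 : polar Q b' u₁ = 0 := by
      rw [polar_comm, hu₁v, polar_sub_left, polar_smul_left, polar_smul_left, h2, ← hs, hst.1]
      simp
    refine C.stab_point hn hyH hu₁ hj₁ hsu₁ (a := 1) ?_
    rw [one_smul, hydef]
    exact siegel_fix _ _ e1 e2
  obtain ⟨s', t', hdet'⟩ : ∃ s' t' : F, s * t' - t * s' = 1 := by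
    by_cases hs0 : s = 0
    · have ht0 : t ≠ 0 := fun h0 => hst ⟨hs0, h0⟩
      exact ⟨-t⁻¹, 0, by rw [mul_zero, mul_neg, mul_inv_cancel₀ ht0]; ring⟩
    · exact ⟨0, s⁻¹, by rw [mul_zero, mul_inv_cancel₀ hs0]; ring⟩
  have ha'b'' := has_line hy hsb hdet'
  set a' := s • a + t • b' with ha'
  set b'' := s' • a + t' • b' with hb''
  have ha'0 : a' ≠ 0 := fun h0 => hst (hind s t h0)
  have hva' : polar Q v a' = 0 := by
    rw [ha', polar_add_right, polar_smul_right, polar_smul_right, h1, h2]; simp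
  have hvb'' : polar Q v b'' = 0 := by
    rw [hb'', polar_add_right, polar_smul_right, polar_smul_right, h1, h2]; simp
  have hv'a' : polar Q v' a' = 0 := by
    rw [ha', polar_add_right, polar_smul_right, polar_smul_right, ← hs]
    have : polar Q v' a = -t := by rw [ht, neg_neg]
    rw [this, smul_eq_mul, smul_eq_mul]; ring
  have hv'b'' : polar Q v' b'' = 1 := by
    rw [hb'', polar_add_right, polar_smul_right, polar_smul_right, ← hs]
    have : polar Q v' a = -t := by rw [ht, neg_neg]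
    rw [this, smul_eq_mul, smul_eq_mul]
    linear_combination hdet'
  have hz := hvv'.comm ha'b'' hva' hv'a'
  rw [hvb'', hv'b'', mul_zero, add_zero, zero_smul, zero_sub, one_smul] at hz
  have hz' : Has Q H a' v := by
    have := hz.neg
    rwa [neg_neg] at this
  have hsa' : Q a' = 0 := hz'.sing
  have ha'v : polar Q a' v = 0 := hz'.perp
  have haa' : polar Q a a' = 0 := by
    rw [ha', polar_add_right, polar_smul_right, polar_smul_right, hab, polar_self_of_sing hsa]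
    simp
  have hb'a' : polar Q b' a' = 0 := by
    rw [ha', polar_add_right, polar_smul_right, polar_smul_right, polar_comm Q b' a, hab,
      polar_self_of_sing hsb]
    simp
  have hya' : y a' = a' := siegel_fix _ _ haa' hb'a'
  have hyv : y v = v := siegel_fix _ _ (by rw [polar_comm]; exact h1) (by rw [polar_comm]; exact h2)
  have hz2 : siegel Q a' v hsa' ha'v ∈ H := hz'.mem _ _
  have hzu₁ : siegel Q a' v hsa' ha'v u₁ = u₁ := by
    apply siegel_fix
    · rw [hu₁v, polar_sub_right, polar_smul_right, polar_smul_right, ha'v, polar_comm Q a' v',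
        hv'a']
      simp
    · rw [hu₁v, polar_sub_right, polar_smul_right, polar_smul_right, hvv'0,
        polar_self_of_sing hsv]
      simp
  have hzR : siegel Q a' v hsa' ha'v ∈ stR b F₀ :=
    C.stab_point hn hz2 hu₁ hj₁ hsu₁ (a := 1) (by rw [one_smul, hzu₁])
  apply hynot
  by_cases hdep : ∃ c : F, a' = c • v
  · -- the lines meet: `y` stabilises the line of `u₁, u₂`
    obtain ⟨c, hc⟩ := hdep
    have hyv' : y v' = v' - c • v := by
      rw [hydef, siegel_apply, hsb, polar_comm Q a v', polar_comm Q b' v', ← hs]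
      have e1 : polar Q v' a = -t := by rw [ht, neg_neg]
      rw [e1, ← hc, ha']
      module
    have hline : ∀ x ∈ Submodule.span F {u₁, u₂}, y x ∈ Submodule.span F {u₁, u₂} := by
      have hvm : v ∈ Submodule.span F {u₁, u₂} := Submodule.mem_span_pair.2 ⟨α, β, rfl⟩
      have hv'm : v' ∈ Submodule.span F {u₁, u₂} := Submodule.mem_span_pair.2 ⟨γ, δ, rfl⟩
      intro x hx
      obtain ⟨m, n, rfl⟩ := Submodule.mem_span_pair.1 hx
      have e1 : y u₁ = δ • v - β • (v' - c • v) := by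
        conv_lhs => rw [hu₁v]
        rw [map_sub, map_smul, map_smul, hyv, hyv']
      have e2 : y u₂ = α • (v' - c • v) - γ • v := by
        conv_lhs => rw [hu₂v]
        rw [map_sub, map_smul, map_smul, hyv, hyv']
      rw [map_add, map_smul, map_smul, e1, e2]
      have hm := Submodule.sub_mem _ hv'm (Submodule.smul_mem _ c hvm)
      exact Submodule.add_mem _
        (Submodule.smul_mem _ _ (Submodule.sub_mem _ (Submodule.smul_mem _ _ hvm)
          (Submodule.smul_mem _ _ hm)))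
        (Submodule.smul_mem _ _ (Submodule.sub_mem _ (Submodule.smul_mem _ _ hm)
          (Submodule.smul_mem _ _ hvm)))
    have : Module.Finite F V := Module.Finite.of_basis b
    have hst := Cfsg.Agent.H883.Bridge.mem_stab_of_le hline
    have hratD : RatSub b F₀ (Submodule.span F {u₁, u₂}) := by
      refine ratSub_span ?_
      rintro x (rfl | hx)
      · exact hu₁
      · rw [Set.mem_singleton_iff] at hx
        rw [hx]; exact hu₂
    refine C.line hn hyH hj₁ hsu₁ hu12 hsu₂ hratD ?_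
    have e : (Submodule.span F {u₁, u₂}).comap (y : V →ₗ[F] V) = Submodule.span F {u₁, u₂} := by
      ext x
      exact (hst x).symm
    rw [e]
    exact hratD
  · push Not at hdep
    have hdep' : ∀ c : F, v ≠ c • a' := by
      intro c hc
      have hc0 : c ≠ 0 := by
        rintro rfl
        apply hv0
        rw [hc, zero_smul]
      apply hdep c⁻¹
      rw [hc, smul_smul, inv_mul_cancel₀ hc0, one_smul]
    have hD := ratSub_of_siegel C.nondeg hsa' ha'v hsv hdep hdep'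
      (fun x hx => map_rat_of_fix hzR hu₁ hj₁ hzu₁ hx)
    refine C.line hn hyH ha'0 hsa' ha'v hsv hD ?_
    have e := comap_span_pair y a' v
    rw [hya', hyv] at e
    rw [e]
    exact hD

open Cfsg.Agent.H888.Rat.Frame

section Rad

variable {e f : Fin 3 → V}

omit [Fintype ι] in
theorem radP_sub [FiniteDimensional F V] (C : CtxR Q b F₀ H) {g : V ≃ₗ[F] V}
    (hg : g ∈ radP Q H e) (w : V) : g w - w ∈ pl (F := F) e := by
  rw [← perp_perp C.nondeg (pl e), mem_perp]
  intro x hx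
  have hx' := hg.2 x (mem_perp_iff.1 hx)
  have h1 := polar_map (C.isom hg.1) x w
  rw [hx'] at h1
  rw [polar_sub_right, h1, sub_self]

omit [Fintype ι] in
theorem radP_pow [FiniteDimensional F V] (C : CtxR Q b F₀ H) (Fr : Frame Q b F₀ e f)
    {g : V ≃ₗ[F] V} (hg : g ∈ radP Q H e) (m : ℕ) (w : V) :
    (g ^ m) w = w + (m : F) • (g w - w) := by
  induction m with
  | zero => simp only [_root_.pow_zero, _root_.LinearEquiv.coe_one, _root_.id_eq, _root_.Nat.cast_zero, _root_.zero_smul, _root_.add_zero]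
  | succ m ih =>
    have h1 : (g ^ (m + 1)) w = g ((g ^ m) w) := by rw [pow_succ']; rfl
    have h2 : g (g w - w) = g w - w := by
      apply hg.2
      exact mem_perp_iff.1 (Fr.pl_le_perp (radP_sub C hg w))
    rw [h1, ih, map_add, map_smul, h2]
    push_cast
    module

omit [Fintype ι] in
theorem radP_comm [FiniteDimensional F V] (C : CtxR Q b F₀ H) (Fr : Frame Q b F₀ e f)
    {g h : V ≃ₗ[F] V} (hg : g ∈ radP Q H e) (hh : h ∈ radP Q H e) : g * h = h * g := by
  ext w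
  show g (h w) = h (g w)
  have h1 : g (h w - w) = h w - w := hg.2 _ (mem_perp_iff.1 (Fr.pl_le_perp (radP_sub C hh w)))
  have h2 : h (g w - w) = g w - w := hh.2 _ (mem_perp_iff.1 (Fr.pl_le_perp (radP_sub C hg w)))
  have e1 : g (h w) = g (h w - w) + g w := by rw [map_sub]; abel
  have e2 : h (g w) = h (g w - w) + h w := by rw [map_sub]; abel
  rw [e1, e2, h1, h2]
  abel

theorem siegel_mem_radP (C : CtxR Q b F₀ H) (Fr : Frame Q b F₀ e f) (i j : Fin 3) :
    siegel Q (e i) (e j) (Fr.Qe i) (Fr.ee i j) ∈ radP Q H e := by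
  refine ⟨(C.has (e i) (Fr.e_mem i) (e j) (Fr.e_mem j) (Fr.Qe i) (Fr.ee i j)).mem _ _,
    fun v hv => siegel_fix _ _ (hv i) (hv j)⟩

omit [Fintype ι] in
theorem radP_not_cyclic [FiniteDimensional F V] [Fintype ι] (C : CtxR Q b F₀ H)
    (Fr : Frame Q b F₀ e f) : ¬ IsCyclic (radP Q H e) := by
  intro hc
  have : Finite (V ≃ₗ[F] V) := by
    have : Finite V := Module.finite_of_finite F
    exact Finite.of_injective (fun g : V ≃ₗ[F] V => (g : V → V)) DFunLike.coe_injective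
  obtain ⟨⟨g, hg⟩, hgen⟩ := IsCyclic.exists_monoid_generator (α := radP Q H e)
  obtain ⟨i, hi⟩ := hgen ⟨_, siegel_mem_radP C Fr 0 1⟩
  obtain ⟨j, hj⟩ := hgen ⟨_, siegel_mem_radP C Fr 0 2⟩
  have hi' : g ^ i = siegel Q (e 0) (e 1) (Fr.Qe 0) (Fr.ee 0 1) := congrArg Subtype.val hi
  have hj' : g ^ j = siegel Q (e 0) (e 2) (Fr.Qe 0) (Fr.ee 0 2) := congrArg Subtype.val hj
  have e1 : (i : F) • (g (f 0) - f 0) = e 1 := by
    have h1 := radP_pow C Fr hg i (f 0)
    rw [hi', siegel_apply, Fr.Qe, Fr.ef, Fr.ef] at h1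
    simp only [if_true, Fin.isValue, one_ne_zero, if_false, one_smul, zero_smul, zero_mul,
      sub_zero] at h1
    exact (add_left_cancel h1).symm
  have e2 : (j : F) • (g (f 0) - f 0) = e 2 := by
    have h1 := radP_pow C Fr hg j (f 0)
    rw [hj', siegel_apply, Fr.Qe, Fr.ef, Fr.ef] at h1
    simp only [if_true, Fin.isValue, if_false, one_smul, zero_smul, zero_mul,
      sub_zero, Fin.reduceEq] at h1
    exact (add_left_cancel h1).symm
  have h3 : (j : F) • e 1 = (i : F) • e 2 := by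
    rw [← e1, ← e2, smul_smul, smul_smul, mul_comm]
  have h4 : (j : F) = 0 := by
    have := congrArg (fun z => polar Q (f 1) z) h3
    simp only [polar_smul_right, Fr.fe] at this
    simpa only [↓ _root_.reduceIte, _root_.smul_eq_mul, _root_.mul_one, _root_.Fin.isValue, _root_.Fin.reduceEq, _root_.MulZeroClass.mul_zero] using this
  rw [h4, zero_smul] at e2
  have h5 := Fr.ef 2 2
  rw [← e2, polar_zero_left] at h5
  simp at h5

theorem radP_le_stR (C : CtxR Q b F₀ H) (hn : 7 ≤ Fintype.card ι) (Fr : Frame Q b F₀ e f)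
    {g : V ≃ₗ[F] V} (hg : g ∈ radP Q H e) : g ∈ stR b F₀ := by
  have h0 : e 0 ≠ 0 := by
    intro h
    have := Fr.ef 0 0
    rw [h, polar_zero_left] at this
    simp at this
  refine C.stab_point hn hg.1 (Fr.e_mem 0) h0 (Fr.Qe 0) (a := 1) ?_
  rw [one_smul]
  exact hg.2 _ fun i => Fr.ee i 0

theorem radP_map_rat (C : CtxR Q b F₀ H) (hn : 7 ≤ Fintype.card ι) (Fr : Frame Q b F₀ e f)
    {g : V ≃ₗ[F] V} (hg : g ∈ radP Q H e) {v : V} (hv : v ∈ rat b F₀) : g v ∈ rat b F₀ := by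
  have h0 : e 0 ≠ 0 := by
    intro h
    have := Fr.ef 0 0
    rw [h, polar_zero_left] at this
    simp at this
  exact map_rat_of_fix (radP_le_stR C hn Fr hg) (Fr.e_mem 0) h0 (hg.2 _ fun i => Fr.ee i 0) hv

/-- Centralisers of nonidentity elements of the radical group. -/
theorem radP_cent (C : CtxR Q b F₀ H) (hn : 7 ≤ Fintype.card ι) (Fr : Frame Q b F₀ e f)
    {g : V ≃ₗ[F] V} (hg : g ∈ radP Q H e) (hg1 : g ≠ 1) {n : V ≃ₗ[F] V} (hnH : n ∈ H)
    (hcomm : n * g = g * n) : n ∈ stR b F₀ := by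
  have : Module.Finite F V := Module.Finite.of_basis b
  have hfin : Module.finrank F V = Fintype.card ι := Module.finrank_eq_card_basis b
  set D := LinearMap.range (g.toLinearMap - LinearMap.id) with hD
  have hDpl : D ≤ pl (F := F) e := by
    rintro _ ⟨w, rfl⟩
    exact radP_sub C hg w
  have hD0 : D ≠ ⊥ := by
    intro h0
    apply hg1
    ext w
    have h1 : (g.toLinearMap - LinearMap.id : V →ₗ[F] V) w ∈ D := ⟨w, rfl⟩
    rw [h0, Submodule.mem_bot] at h1
    exact sub_eq_zero.1 h1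
  have hRat : RatSub b F₀ D := ratSub_range fun v hv => radP_map_rat C (by omega) Fr hg hv
  have hst : ∀ x ∈ D, n x ∈ D := by
    rintro _ ⟨w, rfl⟩
    refine ⟨n w, ?_⟩
    show g (n w) - n w = n (g w - w)
    have h1 : n (g w) = g (n w) := LinearEquiv.congr_fun hcomm w
    rw [map_sub, h1]
  have hst' := Cfsg.Agent.H883.Bridge.mem_stab_of_le hst
  refine C.stab_sub (by omega) hnH hD0 (fun x hx => Fr.Q_pl (hDpl hx)) ?_ hRat ?_
  · apply not_perp_le C.nondeg
    have h1 := Submodule.finrank_mono hDpl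
    have h2 := finrank_pl_le (F := F) (e := e)
    omega
  · have e : D.comap (n : V →ₗ[F] V) = D := by
      ext x
      exact (hst' x).symm
    rw [e]
    exact hRat

end Rad

/-- **A thin overgroup of the normaliser of a rational structure is contained in it.** -/
theorem CtxR.le_stR (C : CtxR Q b F₀ H) (hn : 7 ≤ Fintype.card ι) {r : ℕ} (hr : r.Prime)
    (hcard : Nat.card F = Nat.card F₀ ^ r) : H ≤ stR b F₀ := by
  intro h hh
  by_contra hnot
  have hmf : Module.Finite F V := Module.Finite.of_basis b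
  have hfin : Module.finrank F V = Fintype.card ι := Module.finrank_eq_card_basis b
  have hVfin : Finite V := Module.finite_of_finite F
  have hGfin : Finite (V ≃ₗ[F] V) :=
    Finite.of_injective (fun g : V ≃ₗ[F] V => (g : V → V)) DFunLike.coe_injective
  obtain ⟨e, f, Fr⟩ := exists_frame C.nondeg C.isRat hn
  have hhO := C.isom hh
  have hne : ∀ i, e i ≠ 0 := by
    intro i h0
    have := Fr.ef i i
    rw [h0, polar_zero_left, if_pos rfl] at this
    exact zero_ne_one this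
  have hi₁ : ∀ c : F, e 0 ≠ c • e 1 := by
    intro c hc
    have := Fr.ef 0 0
    rw [hc, polar_smul_left, Fr.ef] at this
    simp at this
  have hi₂ : ∀ c : F, e 1 ≠ c • e 0 := by
    intro c hc
    have := Fr.ef 1 1
    rw [hc, polar_smul_left, Fr.ef] at this
    simp at this
  set a := h (e 0) with ha
  set b' := h (e 1) with hb'
  have hsa : Q a = 0 := by rw [ha, mem_O.1 hhO, Fr.Qe]
  have hab : polar Q a b' = 0 := by rw [ha, hb', polar_map hhO, Fr.ee]
  have hynot : siegel Q a b' hsa hab ∉ stR b F₀ :=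
    C.root_not_mem (by omega) hh hnot (Fr.e_mem 0) (Fr.e_mem 1) (Fr.Qe 0) (Fr.Qe 1) (Fr.ee 0 1)
      hi₁ hi₂ hsa hab
  have hyH : siegel Q a b' hsa hab ∈ H :=
    ((C.has (e 0) (Fr.e_mem 0) (e 1) (Fr.e_mem 1) (Fr.Qe 0) (Fr.ee 0 1)).map hhO hh).mem _ _
  have hopp : ∀ {u₁ u₂ : V}, u₁ ∈ rat b F₀ → u₂ ∈ rat b F₀ → Q u₁ = 0 → Q u₂ = 0 →
      polar Q u₁ u₂ = 0 → u₁ ≠ 0 → ∀ {α β : F}, polar Q (α • u₁ + β • u₂) a = 0 →
      polar Q (α • u₁ + β • u₂) b' = 0 → α • u₁ + β • u₂ = 0 := by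
    intro u₁ u₂ h1 h2 h3 h4 h5 h6 α β h7 h8
    exact C.opp (by omega) hh hnot (Fr.e_mem 0) (Fr.e_mem 1) (Fr.Qe 0) (Fr.Qe 1) (Fr.ee 0 1)
      hi₁ hi₂ h1 h2 h3 h4 h5 h6 h7 h8
  -- pairings
  set A : Fin 3 → F := fun i => polar Q (e i) a with hA
  set B : Fin 3 → F := fun i => polar Q (e i) b' with hB
  have hAi : ∀ i, polar Q (e i) a = A i := fun _ => rfl
  have hBi : ∀ i, polar Q (e i) b' = B i := fun _ => rfl
  -- the determinant for the line `e 0, e 1` is nonzero
  have hdet : A 0 * B 1 - A 1 * B 0 ≠ 0 := by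
    intro h0
    by_cases hz : A 0 = 0 ∧ A 1 = 0
    · -- then combine using `B`
      have h1 := hopp (Fr.e_mem 0) (Fr.e_mem 1) (Fr.Qe 0) (Fr.Qe 1) (Fr.ee 0 1) (hne 0)
        (α := B 1) (β := -B 0)
        (by rw [polar_add_left, polar_smul_left, polar_smul_left, hAi, hAi, hz.1, hz.2]; simp)
        (by rw [polar_add_left, polar_smul_left, polar_smul_left, hBi, hBi]
            simp only [smul_eq_mul]; ring)
      have hB1 : B 1 = 0 := by
        have := congrArg (fun z => polar Q (f 0) z) h1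
        simp only [polar_add_right, polar_smul_right, Fr.fe, polar_zero_right] at this
        simpa using this
      have h2 := hopp (Fr.e_mem 0) (Fr.e_mem 1) (Fr.Qe 0) (Fr.Qe 1) (Fr.ee 0 1) (hne 0)
        (α := 0) (β := 1)
        (by rw [zero_smul, zero_add, one_smul, hAi, hz.2])
        (by rw [zero_smul, zero_add, one_smul, hBi, hB1])
      rw [zero_smul, zero_add, one_smul] at h2
      exact hne 1 h2
    · have h1 := hopp (Fr.e_mem 0) (Fr.e_mem 1) (Fr.Qe 0) (Fr.Qe 1) (Fr.ee 0 1) (hne 0)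
        (α := A 1) (β := -A 0)
        (by rw [polar_add_left, polar_smul_left, polar_smul_left, hAi, hAi]
            simp only [smul_eq_mul]; ring)
        (by rw [polar_add_left, polar_smul_left, polar_smul_left, hBi, hBi]
            simp only [smul_eq_mul]; linear_combination -h0)
      apply hz
      constructor
      · have := congrArg (fun z => polar Q (f 1) z) h1
        simp only [polar_add_right, polar_smul_right, Fr.fe, polar_zero_right] at this
        simpa using this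
      · have := congrArg (fun z => polar Q (f 0) z) h1
        simp only [polar_add_right, polar_smul_right, Fr.fe, polar_zero_right] at this
        simpa using this
  -- the vector `k`
  set k : Fin 3 → F := ![A 1 * B 2 - A 2 * B 1, A 2 * B 0 - A 0 * B 2, A 0 * B 1 - A 1 * B 0]
    with hk
  have hk0 : k 0 = A 1 * B 2 - A 2 * B 1 := rfl
  have hk1 : k 1 = A 2 * B 0 - A 0 * B 2 := rfl
  have hk2 : k 2 = A 0 * B 1 - A 1 * B 0 := rfl
  set kv : V := k 0 • e 0 + k 1 • e 1 + k 2 • e 2 with hkv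
  have hkva : polar Q kv a = 0 := by
    rw [hkv, polar_add_left, polar_add_left, polar_smul_left, polar_smul_left, polar_smul_left,
      hAi, hAi, hAi, hk0, hk1, hk2]
    simp only [smul_eq_mul]; ring
  have hkvb : polar Q kv b' = 0 := by
    rw [hkv, polar_add_left, polar_add_left, polar_smul_left, polar_smul_left, polar_smul_left,
      hBi, hBi, hBi, hk0, hk1, hk2]
    simp only [smul_eq_mul]; ring
  have hkpl : kv ∈ pl (F := F) e := by
    rw [hkv]
    exact Submodule.add_mem _ (Submodule.add_mem _ (Submodule.smul_mem _ _ (e_mem_pl 0))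
      (Submodule.smul_mem _ _ (e_mem_pl 1))) (Submodule.smul_mem _ _ (e_mem_pl 2))
  have hfk : ∀ i, polar Q (f i) kv = k i := by
    intro i
    rw [hkv]
    simp only [polar_add_right, polar_smul_right, Fr.fe]
    (revert i; simp only [_root_.Fin.forall_fin_succ, Fin.isValue, _root_.smul_eq_mul, _root_.mul_ite, _root_.mul_one, _root_.MulZeroClass.mul_zero, ↓reduceIte, _root_.one_ne_zero, _root_.add_zero, Fin.reduceEq, _root_.Fin.succ_zero_eq_one, _root_.zero_ne_one, _root_.zero_add, _root_.Fin.succ_one_eq_two, _root_.IsEmpty.forall_iff, _root_.and_self])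
  have hkv0 : kv ≠ 0 := by
    intro h0
    have := hfk 2
    rw [h0, polar_zero_right] at this
    exact hdet (by rw [← hk2, ← this])
  -- `k` is `F₀`-independent
  have hind : ∀ m : Fin 3 → F, (∀ i, m i ∈ F₀) → ∑ i, m i * k i = 0 → m = 0 := by
    intro m hm hsum
    by_contra hm0
    obtain ⟨i, hi⟩ := Function.ne_iff.1 hm0
    rw [Pi.zero_apply] at hi
    -- the two other indices
    obtain ⟨j, l, hjl, hij, hil, hall⟩ : ∃ j l : Fin 3, j ≠ l ∧ i ≠ j ∧ i ≠ l ∧
        ∀ g : Fin 3 → V, ∑ x, g x = g i + g j + g l := by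
      fin_cases i
      · exact ⟨1, 2, by decide, by decide, by decide, fun g => by rw [Fin.sum_univ_three]; rfl⟩
      · exact ⟨0, 2, by decide, by decide, by decide, fun g => by
          rw [Fin.sum_univ_three]; show g 0 + g 1 + g 2 = g 1 + g 0 + g 2; abel⟩
      · exact ⟨0, 1, by decide, by decide, by decide, fun g => by
          rw [Fin.sum_univ_three]; show g 0 + g 1 + g 2 = g 2 + g 0 + g 1; abel⟩
    have hall' : ∑ x, m x * k x = m i * k i + m j * k j + m l * k l := by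
      have hn2 : (Finset.univ : Finset (Fin 3)) = {i, j, l} := by
        symm
        apply Finset.eq_univ_of_card
        rw [Finset.card_insert_of_notMem (by simp [hij, hil]), Finset.card_pair hjl]
        rfl
      rw [hn2, Finset.sum_insert (by simp [hij, hil]), Finset.sum_pair hjl]
      ring
    rw [hall'] at hsum
    have hki : k i = -((m i)⁻¹ * m j) * k j - ((m i)⁻¹ * m l) * k l := by
      have h1 : m i * k i = -(m j * k j + m l * k l) := by linear_combination hsum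
      have h2 : k i = (m i)⁻¹ * (m i * k i) := by
        rw [← mul_assoc, inv_mul_cancel₀ hi, one_mul]
      rw [h2, h1]; ring
    set s := (m i)⁻¹ * m j with hs
    set t := (m i)⁻¹ * m l with ht
    have hsF : s ∈ F₀ := F₀.mul_mem (F₀.inv_mem (hm i)) (hm j)
    have htF : t ∈ F₀ := F₀.mul_mem (F₀.inv_mem (hm i)) (hm l)
    have hkv' : kv = k j • (e j - s • e i) + k l • (e l - t • e i) := by
      have h1 : kv = ∑ x, k x • e x := by rw [Fin.sum_univ_three]
      rw [h1, hall, hki]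
      module
    have hR : ∀ (x : F) (j : Fin 3), x ∈ F₀ → e j - x • e i ∈ rat b F₀ := fun x j hx =>
      (rat b F₀).sub_mem (Fr.e_mem j) (rat_smul hx (Fr.e_mem i))
    have hpl : ∀ (x : F) (j : Fin 3), e j - x • e i ∈ pl (F := F) e := fun x j =>
      Submodule.sub_mem _ (e_mem_pl j) (Submodule.smul_mem _ _ (e_mem_pl i))
    have hpp : polar Q (e j - s • e i) (e l - t • e i) = 0 := by
      rw [polar_sub_left, polar_sub_right, polar_sub_right, polar_smul_left, polar_smul_left,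
        polar_smul_right, polar_smul_right]
      simp only [Fr.ee]
      simp
    have hne' : e j - s • e i ≠ 0 := by
      intro h0
      have := congrArg (fun z => polar Q (f j) z) h0
      simp only [polar_sub_right, polar_smul_right, Fr.fe, polar_zero_right] at this
      simp [hij] at this
    have h1 := hopp (hR s j hsF) (hR t l htF) (Fr.Q_pl (hpl s j)) (Fr.Q_pl (hpl t l)) hpp hne'
      (α := k j) (β := k l) (by rw [← hkv']; exact hkva) (by rw [← hkv']; exact hkvb)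
    exact hkv0 (by rw [hkv', h1])
  -- the group `G`
  let G : Subgroup (V ≃ₗ[F] V) :=
    { carrier := {g | g ∈ H ∧ g kv = kv ∧ ∀ v, (∀ i, polar Q (e i) v = 0) → polar Q a v = 0 →
        polar Q b' v = 0 → g v = v}
      mul_mem' := fun {g g'} hg hg' => ⟨H.mul_mem hg.1 hg'.1,
        by show g (g' kv) = kv; rw [hg'.2.1, hg.2.1],
        fun v h1 h2 h3 => by show g (g' v) = v; rw [hg'.2.2 v h1 h2 h3, hg.2.2 v h1 h2 h3]⟩
      one_mem' := ⟨H.one_mem, rfl, fun _ _ _ _ => rfl⟩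
      inv_mem' := fun {g} hg => ⟨H.inv_mem hg.1, by
          have h2 : g⁻¹ (g kv) = kv := LinearEquiv.symm_apply_apply g kv
          rwa [hg.2.1] at h2, fun v h1 h2 h3 => by
          have h4 : g⁻¹ (g v) = v := LinearEquiv.symm_apply_apply g v
          rwa [hg.2.2 v h1 h2 h3] at h4⟩ }
  have hmemG : ∀ g : V ≃ₗ[F] V, g ∈ G ↔ (g ∈ H ∧ g kv = kv ∧ ∀ v, (∀ i, polar Q (e i) v = 0) →
      polar Q a v = 0 → polar Q b' v = 0 → g v = v) := fun _ => Iff.rfl
  have hPG : radP Q H e ≤ G := by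
    intro g hg
    refine ⟨hg.1, ?_, fun v h1 _ _ => hg.2 v h1⟩
    exact hg.2 _ (mem_perp_iff.1 (Fr.pl_le_perp hkpl))
  have hyG : siegel Q a b' hsa hab ∈ G := by
    refine ⟨hyH, ?_, fun v _ h2 h3 => siegel_fix _ _ h2 h3⟩
    exact siegel_fix _ _ (by rw [polar_comm]; exact hkva) (by rw [polar_comm]; exact hkvb)
  obtain ⟨p, hp⟩ := CharP.exists F
  have : Fact p.Prime := ⟨CharP.char_is_prime F p⟩
  have key := Cfsg.Agent.H888.StrongP.le_of_self_normalizing (p := p) (radP Q H e) G (stR b F₀)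
    hPG ?_ (fun x hx y hy => radP_comm C Fr hx hy) (radP_not_cyclic C Fr)
    (fun x hx => radP_le_stR C (by omega) Fr hx)
    (fun g hg hg1 n hn' hc => radP_cent C hn Fr hg hg1 hn'.1 hc) ?_
  · exact hynot (key hyG)
  · -- p-group
    rintro ⟨g, hg⟩
    refine ⟨1, Subtype.ext ?_⟩
    show g ^ (p ^ 1) = 1
    ext w
    rw [pow_one, radP_pow C Fr hg, CharP.cast_eq_zero, zero_smul, add_zero]
    rfl
  · -- self-normalising
    intro n hnG hnP
    -- `n` stabilises the plane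
    have hnpl' : ∀ g ∈ radP Q H e, ∀ t, n (g t - t) ∈ pl (F := F) e := by
      intro g hg t
      have h1 := radP_sub C (hnP g hg) (n t)
      have h2 : (n * g * n⁻¹) (n t) = n (g t) := by
        show n (g (n⁻¹ (n t))) = n (g t)
        have : n⁻¹ (n t) = t := LinearEquiv.symm_apply_apply n t
        rw [this]
      rw [h2, ← map_sub] at h1
      exact h1
    have hn0 : n (e 0) ∈ pl (F := F) e := by
      have h1 := hnpl' _ (siegel_mem_radP C Fr 1 0) (f 1)
      rw [siegel_apply, Fr.Qe, Fr.ef, Fr.ef] at h1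
      simp only [if_true, Fin.isValue, zero_ne_one, if_false, one_smul, zero_smul, zero_mul,
        sub_zero, add_sub_cancel_left] at h1
      exact h1
    have hn1 : n (e 1) ∈ pl (F := F) e := by
      have h1 := hnpl' _ (siegel_mem_radP C Fr 0 1) (f 0)
      rw [siegel_apply, Fr.Qe, Fr.ef, Fr.ef] at h1
      simp only [if_true, Fin.isValue, one_ne_zero, if_false, one_smul, zero_smul, zero_mul,
        sub_zero, add_sub_cancel_left] at h1
      exact h1
    have hn2 : n (e 2) ∈ pl (F := F) e := by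
      have h1 := hnpl' _ (siegel_mem_radP C Fr 0 2) (f 0)
      rw [siegel_apply, Fr.Qe, Fr.ef, Fr.ef] at h1
      simp only [if_true, Fin.isValue, if_false, one_smul, zero_smul, zero_mul,
        sub_zero, add_sub_cancel_left, Fin.reduceEq] at h1
      exact h1
    have hnall : ∀ i, n (e i) ∈ pl (F := F) e := by
      intro i
      fin_cases i
      exacts [hn0, hn1, hn2]
    have hnst : ∀ x ∈ pl (F := F) e, n x ∈ pl (F := F) e := by
      intro x hx
      rw [Fr.exists_coord hx, map_sum]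
      refine Submodule.sum_mem _ fun i _ => ?_
      rw [map_smul]
      exact Submodule.smul_mem _ _ (hnall i)
    have hst' := Cfsg.Agent.H883.Bridge.mem_stab_of_le hnst
    have hnR : n ∈ stR b F₀ := by
      refine C.stab_sub (by omega) hnG.1 ?_ (fun x hx => Fr.Q_pl hx) ?_ Fr.ratSub_pl ?_
      · intro h0
        have h1 := e_mem_pl (F := F) (e := e) 0
        rw [h0] at h1
        exact hne 0 ((Submodule.mem_bot F).1 h1)
      · apply not_perp_le C.nondeg
        have h2 := finrank_pl_le (F := F) (e := e)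
        omega
      · have e' : (pl (F := F) e).comap (n : V →ₗ[F] V) = pl e := by
          ext x
          exact (hst' x).symm
        rw [e']
        exact Fr.ratSub_pl
    obtain ⟨c, hc, hcn⟩ := hnR
    have hnO := C.isom hnG.1
    have hc2 : c ^ 2 ∈ F₀ := by
      have h1 := (hcn (e 0 + f 0)).1 ((rat b F₀).add_mem (Fr.e_mem 0) (Fr.f_mem 0))
      have h2 := C.isRat _ h1
      rw [QuadraticMap.map_smul, mem_O.1 hnO, Q_add, Fr.Qe, Fr.Qf, Fr.ef] at h2
      simp only [if_true, zero_add, smul_eq_mul, mul_one] at h2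
      rwa [pow_two]
    have hcF : c ∈ F₀ := by
      rcases Cfsg.Agent.H888.FieldDich.sq_mem F₀ hr hcard hc2 with h1 | h1
      · exact h1
      · exfalso
        obtain ⟨m, hm, hm0, hsum⟩ := exists_relation F₀ h1 k
        exact hm0 (hind m hm hsum)
    have hnrat : ∀ v ∈ rat b F₀, n v ∈ rat b F₀ := by
      intro v hv
      have h1 := rat_smul (F₀.inv_mem hcF) ((hcn v).1 hv)
      rwa [smul_smul, inv_mul_cancel₀ hc, one_smul] at h1
    -- `n` is trivial on the plane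
    have hne1 : ∀ i, n (e i) = e i := by
      have hcoord : ∀ j, ∑ i, (polar Q (f j) (n (e i)) - if i = j then 1 else 0) * k i = 0 := by
        intro j
        have h1 : polar Q (f j) (n kv) = k j := by rw [hnG.2.1, hfk]
        rw [hkv] at h1
        simp only [map_add, map_smul, polar_add_right, polar_smul_right, smul_eq_mul] at h1
        rw [Fin.sum_univ_three]
        fin_cases j
        · simp only [Fin.zero_eta, Fin.isValue, if_true, one_ne_zero, if_false, sub_zero,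
            Fin.reduceEq] at h1 ⊢
          linear_combination h1
        · simp only [Fin.mk_one, Fin.isValue, if_true, zero_ne_one, if_false, sub_zero,
            Fin.reduceEq] at h1 ⊢
          linear_combination h1
        · simp only [Fin.reduceFinMk, Fin.isValue, if_true, if_false, sub_zero,
            Fin.reduceEq] at h1 ⊢
          linear_combination h1
      intro i
      have h2 : ∀ j, polar Q (f j) (n (e i)) = if i = j then 1 else 0 := by
        intro j
        have h3 := hind (fun i => polar Q (f j) (n (e i)) - if i = j then 1 else 0) ?_ (hcoord j)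
        · have h4 := congrFun h3 i
          exact sub_eq_zero.1 h4
        · intro i
          refine F₀.sub_mem (C.isRat.polar (Fr.f_mem j) (hnrat _ (Fr.e_mem i))) ?_
          split_ifs
          · exact F₀.one_mem
          · exact F₀.zero_mem
      rw [Fr.exists_coord (hnall i)]
      simp_rw [h2]
      simp
    -- conclusion
    refine ⟨hnG.1, fun v hv => ?_⟩
    -- correct `v` by an element of the plane
    set d := A 0 * B 1 - A 1 * B 0 with hd
    set x := polar Q a v with hx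
    set y := polar Q b' v with hy
    set s : V := (d⁻¹ * (x * B 1 - y * A 1)) • e 0 + (d⁻¹ * (A 0 * y - B 0 * x)) • e 1 with hs
    have hsa' : polar Q a s = x := by
      rw [hs, polar_add_right, polar_smul_right, polar_smul_right, polar_comm Q a, hAi,
        polar_comm Q a, hAi]
      simp only [smul_eq_mul]
      have : d⁻¹ * (x * B 1 - y * A 1) * A 0 + d⁻¹ * (A 0 * y - B 0 * x) * A 1 = d⁻¹ * d * x := by
        rw [hd]; ring
      rw [this, inv_mul_cancel₀ hdet, one_mul]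
    have hsb' : polar Q b' s = y := by
      rw [hs, polar_add_right, polar_smul_right, polar_smul_right, polar_comm Q b', hBi,
        polar_comm Q b', hBi]
      simp only [smul_eq_mul]
      have : d⁻¹ * (x * B 1 - y * A 1) * B 0 + d⁻¹ * (A 0 * y - B 0 * x) * B 1 = d⁻¹ * d * y := by
        rw [hd]; ring
      rw [this, inv_mul_cancel₀ hdet, one_mul]
    have hns : n s = s := by
      rw [hs, map_add, map_smul, map_smul, hne1, hne1]
    have hes : ∀ i, polar Q (e i) s = 0 := by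
      intro i
      rw [hs, polar_add_right, polar_smul_right, polar_smul_right, Fr.ee, Fr.ee]
      simp
    have h1 : n (v - s) = v - s := by
      refine hnG.2.2 _ (fun i => ?_) ?_ ?_
      · rw [polar_sub_right, hv i, hes i, sub_zero]
      · rw [polar_sub_right, hsa', ← hx, sub_self]
      · rw [polar_sub_right, hsb', ← hy, sub_self]
    have h2 : n v = n (v - s) + n s := by rw [← map_add, sub_add_cancel]
    rw [h2, h1, hns, sub_add_cancel]

/-- **Overgroups of the rational Siegel elements.** -/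
theorem overgroups_rat {H : Subgroup (V ≃ₗ[F] V)} (hQ : Nondeg Q) (hR : IsRat Q b F₀)
    (hn : 7 ≤ Fintype.card ι) {r : ℕ} (hr : r.Prime) (hcard : Nat.card F = Nat.card F₀ ^ r)
    (hH : HasRat Q b F₀ H) (hHE : H ≤ E Q) : H ≤ stR b F₀ ∨ H = E Q := by
  rcases thin_or_E_le hQ hR hn hr hcard hH with h | h
  · left
    have C : CtxR Q b F₀ H := ⟨hQ, hR, hH, hHE, h⟩
    exact C.le_stR hn hr hcard
  · right
    exact le_antisymm hHE h

end Cfsg.Agent.H889.Gen.Rat
end

-- part: H889/Gen/OrthFld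
section
/-!
# S2187, orthogonal rows: field automorphisms, descent (helper889)

The setting of `CpAut.Fix` for semisimilitudes in all characteristics (`sett`), the rational structure of the fixed
vectors and the hypotheses `hover`, `hcent` of `Dat.of_sett`.
-/

set_option autoImplicit false
set_option linter.unusedSectionVars false

namespace Cfsg.Agent.H889.Gen.Fld

open QuadraticMap Cfsg
open Cfsg.Agent.LieClassical.OrthCore Cfsg.Agent.LieClassical.OrthTrans Cfsg.Agent.LieClassical.OrthFinite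
open Cfsg.Agent.ClassicalGeometry.OrthSemi
open Cfsg.Agent.CpAut.Descent (Semi)
open Cfsg.Agent.CpAut.Psl (fixf mem_fixf)
open Cfsg.Agent.CpAut.Fix
open Cfsg.Agent.CpAut.Orth (toSemi J J_apply J_single J_injective M_J M_eq exists_J ext ext_basis ext_J ext_injective
  ext_comm exists_ext polar_J nondeg_zero mem_O_of_ext mem_center_E comm_of_fixed)
open Cfsg.Agent.H888.Rat Cfsg.Agent.H883.Root
open scoped commutatorElement

variable {F V : Type*} [Field F] [AddCommGroup V] [Module F V] {Q : QuadraticForm F V}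
variable {ι : Type*} [Fintype ι] [DecidableEq ι] {σ : F ≃+* F} {b : Module.Basis ι F V}
variable {Q₀ : QuadraticForm (fixf σ) (ι → fixf σ)} {e : F}

theorem ext_mem_O (hQ₀ : ∀ x, Q (J σ b x) = e * (Q₀ x : F))
    {g : (ι → fixf σ) ≃ₗ[fixf σ] (ι → fixf σ)} (hg : g ∈ O Q₀) : _root_.Cfsg.Agent.CpAut.Orth.ext σ b g ∈ O Q := by
  have hB : (polarBilin Q).compl₁₂ (_root_.Cfsg.Agent.CpAut.Orth.ext σ b g).toLinearMap (_root_.Cfsg.Agent.CpAut.Orth.ext σ b g).toLinearMap = polarBilin Q := by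
    apply LinearMap.ext_basis b b
    intro i j
    rw [LinearMap.compl₁₂_apply]
    change polar Q (_root_.Cfsg.Agent.CpAut.Orth.ext σ b g (b i)) (_root_.Cfsg.Agent.CpAut.Orth.ext σ b g (b j)) = polar Q (b i) (b j)
    rw [ext_basis, ext_basis, polar_J hQ₀, ← J_single (σ := σ) (b := b) i, ← J_single (σ := σ) (b := b) j,
      polar_J hQ₀]
    congr 2
    simp only [QuadraticMap.polar]
    rw [← map_add, hg, hg, hg]
  have hP : ∀ u v, polar Q (_root_.Cfsg.Agent.CpAut.Orth.ext σ b g u) (_root_.Cfsg.Agent.CpAut.Orth.ext σ b g v) = polar Q u v := fun u v => LinearMap.congr_fun₂ hB u v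
  intro v
  have h1 : v ∈ Submodule.span F (Set.range b) := by rw [b.span_eq]; trivial
  induction h1 using Submodule.span_induction with
  | mem x hx =>
    obtain ⟨i, rfl⟩ := hx
    rw [ext_basis, hQ₀, hg, ← hQ₀, J_single]
  | zero => rw [map_zero]
  | add x y _ _ hx hy => rw [map_add, Q_add, Q_add, hx, hy, hP]
  | smul a x _ hx => rw [map_smul, QuadraticMap.map_smul, QuadraticMap.map_smul, hx]

theorem ext_mem_E (hG : Good Q) (hG₀ : Good Q₀) (hQ₀ : ∀ x, Q (J σ b x) = e * (Q₀ x : F))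
    {g : (ι → fixf σ) ≃ₗ[fixf σ] (ι → fixf σ)} (hg : g ∈ E Q₀) : _root_.Cfsg.Agent.CpAut.Orth.ext σ b g ∈ E Q := by
  rw [← hG₀.commutator_eq_E] at hg
  rw [← hG.commutator_eq_E]
  have h1 := Subgroup.mem_map_of_mem (_root_.Cfsg.Agent.CpAut.Orth.ext σ b) hg
  rw [Subgroup.map_commutator] at h1
  refine Subgroup.commutator_mono ?_ ?_ h1
  · rintro _ ⟨x, hx, rfl⟩
    exact ext_mem_O hQ₀ hx
  · rintro _ ⟨x, hx, rfl⟩
    exact ext_mem_O hQ₀ hx

/-- the embedding `Ω(V₀, Q₀) → Ω(V, Q)` -/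
noncomputable def fE (hG : Good Q) (hG₀ : Good Q₀) (hQ₀ : ∀ x, Q (J σ b x) = e * (Q₀ x : F)) : ↥(E Q₀) →* ↥(E Q) :=
  ((_root_.Cfsg.Agent.CpAut.Orth.ext σ b).comp (E Q₀).subtype).codRestrict (E Q) fun g => ext_mem_E hG hG₀ hQ₀ g.2

theorem coe_fE (hG : Good Q) (hG₀ : Good Q₀) (hQ₀ : ∀ x, Q (J σ b x) = e * (Q₀ x : F))
    (g : ↥(E Q₀)) : (fE hG hG₀ hQ₀ g : V ≃ₗ[F] V) = _root_.Cfsg.Agent.CpAut.Orth.ext σ b g.1 := rfl

/-- the setting of `Fix` -/
theorem sett [Nonempty ι] (hG : Good Q) (hG₀ : Good Q₀) {M : Gam Q} {c : F}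
    (hM : IsSS Q σ c M.1) (hb : ∀ i, M.1 (b i) = b i) (he : e ≠ 0) (hQ₀ : ∀ x, Q (J σ b x) = e * (Q₀ x : F)) :
    Sett (QuotientGroup.mk' (Subgroup.center ↥(E Q))) (conjE Q M) (Psi Q M) (fE hG hG₀ hQ₀) where
  surj := QuotientGroup.mk'_surjective _
  ker := by rw [QuotientGroup.ker_mk']
  compat h := rfl
  inj := by
    intro g h hgh
    apply Subtype.ext
    apply ext_injective (b := b)
    simp only [← coe_fE hG hG₀ hQ₀, ← coe_fE hG hG₀ hQ₀, hgh]
  fix h := by
    apply Subtype.ext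
    rw [coe_conjE, coe_fE]
    apply LinearEquiv.ext
    intro v
    have hob_ := M.1.surjective v
    obtain ⟨v, rfl⟩ := hob_
    rw [conjLin_apply', ext_comm (toSemi hM) hb]
  comm a a' ha ha' := by
    obtain ⟨g, hg⟩ := exists_ext (toSemi hM) hb (comm_of_fixed ha)
    obtain ⟨g', hg'⟩ := exists_ext (toSemi hM) hb (comm_of_fixed ha')
    have h1 : g ∈ O Q₀ := mem_O_of_ext he hQ₀ (by rw [hg]; exact E_le_O a.2)
    have h2' : g' ∈ O Q₀ := mem_O_of_ext he hQ₀ (by rw [hg']; exact E_le_O a'.2)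
    have h3 : ⁅g, g'⁆ ∈ E Q₀ := by
      rw [← hG₀.commutator_eq_E]
      exact Subgroup.commutator_mem_commutator h1 h2'
    refine ⟨⟨⁅g, g'⁆, h3⟩, ?_⟩
    apply Subtype.ext
    rw [coe_fE, map_commutatorElement, hg, hg']
    rfl
  cen h := by
    simp only [QuotientGroup.mk'_apply, QuotientGroup.eq_one_iff, mem_center_E hG, mem_center_E hG₀]
    constructor
    · rintro ⟨a, ha⟩
      obtain ⟨i⟩ := (inferInstance : Nonempty ι)
      have h1 := ha (b i)
      rw [coe_fE, ext_basis, J_apply] at h1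
      have h3 : ((h.1 (Pi.single i 1) i : fixf σ) : F) = a := by
        have h4 := congrArg (fun v => b.repr v i) h1
        simp only [map_smul, Module.Basis.repr_self] at h4
        simp only [Finsupp.smul_apply, Finsupp.single_eq_same, smul_eq_mul, mul_one] at h4
        rw [← h4]
        exact (congrFun (b.repr_sum_self fun j => ((h.1 (Pi.single i 1) j : fixf σ) : F)) i).symm
      refine ⟨h.1 (Pi.single i 1) i, fun x => ?_⟩
      apply J_injective (b := b)
      simp only [← ext_J, ← coe_fE hG hG₀ hQ₀, ha, map_smul]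
      change a • J σ b x = ((h.1 (Pi.single i 1) i : fixf σ) : F) • J σ b x
      rw [h3]
    · rintro ⟨a, ha⟩
      refine ⟨(a : F), fun v => ?_⟩
      rw [coe_fE]
      have h1 : (_root_.Cfsg.Agent.CpAut.Orth.ext σ b h.1).toLinearMap = (a : F) • LinearMap.id := by
        apply b.ext
        intro j
        change _root_.Cfsg.Agent.CpAut.Orth.ext σ b h.1 (b j) = (a : F) • b j
        rw [ext_basis, ha, map_smul, J_single]
        rfl
      exact LinearMap.congr_fun h1 v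

/-! ### the rational structure -/

theorem exists_J_of_rat {v : V} (hv : v ∈ rat b (fixf σ)) : ∃ x, J σ b x = v :=
  ⟨fun i => ⟨b.repr v i, hv i⟩, b.sum_repr v⟩

theorem isRat_of (he : e ≠ 0) (hQ₀ : ∀ x, Q (J σ b x) = e * (Q₀ x : F)) : IsRat (e⁻¹ • Q) b (fixf σ) := by
  intro v hv
  obtain ⟨x, rfl⟩ := exists_J_of_rat hv
  change e⁻¹ * Q (J σ b x) ∈ fixf σ
  rw [hQ₀, inv_mul_cancel_left₀ he]
  exact (Q₀ x).2

theorem Q_scaled (he : e ≠ 0) (hQ₀ : ∀ x, Q (J σ b x) = e * (Q₀ x : F)) (x : ι → fixf σ) :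
    (e⁻¹ • Q) (J σ b x) = (Q₀ x : F) := by
  change e⁻¹ * Q (J σ b x) = _
  rw [hQ₀, inv_mul_cancel_left₀ he]

theorem polar_scaled (c : F) (u v : V) : polar (c • Q) u v = c * polar Q u v := by
  change c * Q (u + v) - c * Q u - c * Q v = c * (Q (u + v) - Q u - Q v)
  ring

theorem O_scaled {c : F} (hc : c ≠ 0) : O (c • Q) = O Q := by
  ext g
  constructor
  · intro h v
    have h1 := h v
    change c * Q (g v) = c * Q v at h1
    exact mul_left_cancel₀ hc h1
  · intro h v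
    change c * Q (g v) = c * Q v
    rw [h v]

theorem nondeg_scaled {c : F} (hc : c ≠ 0) (hQ : Nondeg Q) : Nondeg (c • Q) := by
  intro x hx
  apply hQ
  intro y
  have h1 := hx y
  rw [polar_scaled] at h1
  exact (mul_eq_zero.1 h1).resolve_left hc

theorem E_scaled {c : F} (hc : c ≠ 0) (hG : Good Q) (hG' : Good (c • Q)) : E (c • Q) = E Q := by
  rw [← hG.commutator_eq_E, ← hG'.commutator_eq_E, O_scaled hc]

/-- the image of the rational Siegel elements -/
theorem siegel_mem_range (hG : Good Q) (hG₀ : Good Q₀) (he : e ≠ 0) (hQ₀ : ∀ x, Q (J σ b x) = e * (Q₀ x : F))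
    {u w : V} (hu : u ∈ rat b (fixf σ)) (hw : w ∈ rat b (fixf σ)) (hu0 : (e⁻¹ • Q) u = 0)
    (huw : polar (e⁻¹ • Q) u w = 0) : ∃ k : ↥(E Q₀), (fE hG hG₀ hQ₀ k : V ≃ₗ[F] V) = siegel (e⁻¹ • Q) u w hu0 huw := by
  have hob_ := exists_J_of_rat hu
  obtain ⟨x, rfl⟩ := hob_
  have hob_ := exists_J_of_rat hw
  obtain ⟨y, rfl⟩ := hob_
  have h1 : Q₀ x = 0 := by
    rw [Q_scaled he hQ₀] at hu0
    exact Subtype.ext hu0
  have h3 : ∀ z t : ι → fixf σ, polar (e⁻¹ • Q) (J σ b z) (J σ b t) = ((polar Q₀ z t : fixf σ) : F) := by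
    intro z t
    rw [polar_scaled, polar_J hQ₀, inv_mul_cancel_left₀ he]
  have h2 : polar Q₀ x y = 0 := by
    rw [h3] at huw
    exact Subtype.ext huw
  refine ⟨⟨siegel Q₀ x y h1 h2, siegel_mem_E h1 h2⟩, ?_⟩
  rw [coe_fE]
  apply LinearEquiv.toLinearMap_injective
  apply b.ext
  intro i
  change _root_.Cfsg.Agent.CpAut.Orth.ext σ b (siegel Q₀ x y h1 h2) (b i) = siegel (e⁻¹ • Q) (J σ b x) (J σ b y) hu0 huw (b i)
  (rewrite [ext_basis, siegel_apply]; simp only [← J_single (σ := σ) (b := b) i]; simp only [siegel_apply]; (conv => enter [@3, @5, @5, @6, @5]; rw [h3]); (conv => enter [@3, @6, @5, @6]; rw [h3]); simp only [h3]; simp only [Q_scaled he hQ₀]; simp +singlePass only [map_sub]; simp only [map_sub]; simp only [map_add])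
  have h4 : ∀ (a : fixf σ) (z : ι → fixf σ), J σ b (a • z) = (a : F) • J σ b z := fun a z => (J σ b).map_smul a z
  rw [h4, h4, h4]
  rfl

/-! ### overgroups -/

/-- **Overgroups of the image of `Ω(V₀, Q₀)`.** -/
theorem hover [Finite F] [FiniteDimensional F V] {p : ℕ} (hp : p.Prime) (hG : Good Q) (hG₀ : Good Q₀)
    (hn : 7 ≤ Fintype.card ι) (hord : orderOf σ = p) {M : Gam Q} {c : F} (hM : IsSS Q σ c M.1)
    (hb : ∀ i, M.1 (b i) = b i) (he : e ≠ 0) (hQ₀ : ∀ x, Q (J σ b x) = e * (Q₀ x : F))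
    (S : Subgroup ↥(E Q)) (hS : (fE hG hG₀ hQ₀).range ≤ S) :
    S = ⊤ ∨ ∀ g ∈ S, Psi Q M (QuotientGroup.mk' (Subgroup.center ↥(E Q)) g) =
      QuotientGroup.mk' (Subgroup.center ↥(E Q)) g := by
  have he' : e⁻¹ ≠ 0 := inv_ne_zero he
  have hnd : Nondeg (e⁻¹ • Q) := nondeg_scaled he' hG.nondeg
  have hrk : Module.finrank F V = Fintype.card ι := Module.finrank_eq_card_basis b
  have hGs : Good (e⁻¹ • Q) := good_of_finite hnd (by omega)
  have hEE : E (e⁻¹ • Q) = E Q := E_scaled he' hG hGs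
  have hR : IsRat (e⁻¹ • Q) b (fixf σ) := isRat_of he hQ₀
  have hHE : S.map (E Q).subtype ≤ E (e⁻¹ • Q) := by
    rw [hEE]
    exact Subgroup.map_subtype_le S
  have hHR : HasRat (e⁻¹ • Q) b (fixf σ) (S.map (E Q).subtype) := by
    intro u hu w hw hu0 huw
    refine ⟨hu0, huw, ?_⟩
    obtain ⟨k, hk⟩ := siegel_mem_range hG hG₀ he hQ₀ hu hw hu0 huw
    rw [← hk]
    exact ⟨_, hS ⟨k, rfl⟩, rfl⟩
  have hcard : Nat.card F = Nat.card ↥(fixf σ) ^ p := Cfsg.Agent.H27.Psl.card_fixf hp hord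
  have hob_ := Rat.overgroups_rat hnd hR hn hp hcard hHR hHE
  rcases hob_ with h | h
  · right
    intro g hg
    have hob_ := h ⟨g, hg, rfl⟩
    obtain ⟨c', hc', hst⟩ := hob_
    have h1 : ∀ i, M.1 (c' • (g : V ≃ₗ[F] V) (b i)) = c' • (g : V ≃ₗ[F] V) (b i) := by
      intro i
      obtain ⟨x, hx⟩ := exists_J_of_rat ((hst (b i)).1 (basis_mem i))
      have hx' : J σ b x = c' • (g : V ≃ₗ[F] V) (b i) := hx
      rw [← hx']
      exact M_J (toSemi hM) hb x
    have hσc : σ c' ≠ 0 := by simpa using hc'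
    have h2 : ∀ i, conjLin M g (b i) = ((σ c')⁻¹ * c') • (g : V ≃ₗ[F] V) (b i) := by
      intro i
      have h3 := conjLin_apply' M (g : V ≃ₗ[F] V) (b i)
      rw [hb] at h3
      rw [h3, mul_smul, ← h1 i, hM.smul, smul_smul, inv_mul_cancel₀ hσc, one_smul]
    have h3 : ((conjLin M g : V ≃ₗ[F] V) : V →ₗ[F] V) = ((σ c')⁻¹ * c') • ((g : V ≃ₗ[F] V) : V →ₗ[F] V) := b.ext h2
    have h4 : ∀ v, conjLin M g v = ((σ c')⁻¹ * c') • (g : V ≃ₗ[F] V) v := fun v => LinearMap.congr_fun h3 v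
    rw [QuotientGroup.mk'_apply, Psi_mk]
    symm
    rw [QuotientGroup.eq, mem_center_E hG]
    refine ⟨(σ c')⁻¹ * c', fun v => ?_⟩
    change (g : V ≃ₗ[F] V)⁻¹ (conjLin M g v) = _
    rw [h4, map_smul]
    congr 1
    exact (g : V ≃ₗ[F] V).symm_apply_apply v
  · left
    rw [eq_top_iff]
    intro g _
    have h1 : (g : V ≃ₗ[F] V) ∈ S.map (E Q).subtype := by
      rw [h, hEE]
      exact g.2
    obtain ⟨g', hg', h2⟩ := h1
    have h3 : g' = g := Subtype.ext h2
    rwa [← h3]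

/-! ### centralisers -/

theorem comm_central {B : Type*} [Group B] {x y z w : B} (hz : ∀ g, g * z = z * g) (hw : ∀ g, g * w = w * g) :
    ⁅x * z, y * w⁆ = ⁅x, y⁆ := by
  have hz' : ∀ g, g * z⁻¹ = z⁻¹ * g := fun g => by
    rw [mul_inv_eq_iff_eq_mul, mul_assoc, hz g, inv_mul_cancel_left]
  have hw' : ∀ g, g * w⁻¹ = w⁻¹ * g := fun g => by
    rw [mul_inv_eq_iff_eq_mul, mul_assoc, hw g, inv_mul_cancel_left]
  rw [commutatorElement_def, commutatorElement_def, mul_inv_rev, mul_inv_rev]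
  have e1 : x * z * (y * w) = x * y * (z * w) := by
    rw [mul_assoc, ← mul_assoc z, ← hz y]
    group
  have e2 : z⁻¹ * x⁻¹ * (w⁻¹ * y⁻¹) = (z * w)⁻¹ * (x⁻¹ * y⁻¹) := by
    rw [mul_inv_rev, ← hw' y⁻¹, ← mul_assoc, hw' (z⁻¹ * x⁻¹ * y⁻¹)]
    group
  have e3 : x * z * (y * w) * (z⁻¹ * x⁻¹) * (w⁻¹ * y⁻¹) = x * z * (y * w) * (z⁻¹ * x⁻¹ * (w⁻¹ * y⁻¹)) := by group
  rw [e3, e1, e2]
  group

/-- homomorphisms from a perfect group which agree modulo the centre -/
theorem hom_eq_of_perfect {A B : Type*} [Group A] [Group B] (hA : commutator A = ⊤) (f g : A →* B)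
    (h : ∀ a, (f a)⁻¹ * g a ∈ Subgroup.center B) : f = g := by
  have h2 : commutator A ≤ f.eqLocus g := by
    rw [commutator_def, Subgroup.commutator_le]
    intro a _ c _
    have h3 := h a
    have h4 := h c
    rw [Subgroup.mem_center_iff] at h3 h4
    have h5 := comm_central (x := f a) (y := f c) h3 h4
    rw [mul_inv_cancel_left, mul_inv_cancel_left] at h5
    change f ⁅a, c⁆ = g ⁅a, c⁆
    rw [map_commutatorElement, map_commutatorElement, h5]
  rw [hA] at h2
  ext a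
  exact h2 (Subgroup.mem_top a)

/-- **A linear map commuting with the rational Siegel elements is a scalar.** -/
theorem scalar_of_comm_rat [Finite F] {F₀ : Subfield F} (hQ : Nondeg Q) (hR : IsRat Q b F₀) (hn : 7 ≤ Fintype.card ι)
    {l : V ≃ₗ[F] V} (h : ∀ u ∈ rat b F₀, ∀ w ∈ rat b F₀, ∀ (hu : Q u = 0) (hw : polar Q u w = 0),
      siegel Q u w hu hw * l = l * siegel Q u w hu hw) : ∃ a : F, ∀ v, l v = a • v := by
  have hfix : ∀ u ∈ rat b F₀, u ≠ 0 → Q u = 0 → ∃ a : F, l u = a • u := by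
    intro u hu hu0 hsu
    obtain ⟨y, hy, huy⟩ := exists_partner_rat hQ hR hu hsu hu0
    obtain ⟨z, hz, z', hz', hzz, h1, h2⟩ := exists_hyp_rat hQ hR ![u, y]
      (by intro i; fin_cases i <;> assumption) (by omega)
    have huz : polar Q u z = 0 := h1 0
    have huz' : polar Q u z' = 0 := h2 0
    have hx : ∀ w ∈ rat b F₀, ∀ hw : polar Q u w = 0, siegel Q u w hsu hw (l u) = l u := by
      intro w hw huw
      have h3 := LinearEquiv.congr_fun (h u hu w hw hsu huw) u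
      have h4 : siegel Q u w hsu huw u = u := by
        rw [siegel_apply, huy.polar_left, polar_comm Q w u, huw]
        simp
      rw [LinearEquiv.mul_apply, LinearEquiv.mul_apply, h4] at h3
      exact h3
    have hux : polar Q u (l u) = 0 := by
      have h3 := hx z hz huz
      rw [siegel_apply] at h3
      have h4 := congrArg (polar Q z') h3
      rw [polar_sub_right, polar_sub_right, polar_add_right, polar_smul_right, polar_smul_right, polar_smul_right,
        polar_comm Q z' z, hzz.pair, polar_comm Q z' u, huz', smul_zero, smul_zero, sub_zero, sub_zero,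
        smul_eq_mul, mul_one, add_eq_left] at h4
      exact h4
    have hwx : ∀ w ∈ rat b F₀, polar Q u w = 0 → polar Q w (l u) = 0 := by
      intro w hw huw
      have h3 := hx w hw huw
      rw [siegel_apply, hux, zero_smul, mul_zero, zero_smul, add_zero, sub_zero, sub_eq_self] at h3
      exact (smul_eq_zero.1 h3).resolve_right hu0
    refine ⟨polar Q y (l u), ?_⟩
    rw [← sub_eq_zero]
    refine eq_zero_of_perp hQ (b := b) (F₀ := F₀) fun t ht => ?_
    have h5 : t = polar Q y t • u + polar Q u t • y + Cfsg.Agent.LieClassical.OrthTrans.proj Q u y t := by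
      rw [Cfsg.Agent.LieClassical.OrthTrans.proj]
      module
    have h6 := hwx _ (proj_rat hR hu hy ht) (polar_proj_left huy t)
    rw [polar_sub_left, polar_smul_left, smul_eq_mul]
    have h7 : polar Q (l u) t = polar Q u t * polar Q y (l u) := by
      conv_lhs => rw [h5]
      rw [polar_add_right, polar_add_right, polar_smul_right, polar_smul_right, polar_comm Q (l u) u, hux,
        polar_comm Q (l u) (Cfsg.Agent.LieClassical.OrthTrans.proj Q u y t), h6, polar_comm Q (l u) y, smul_zero,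
        zero_add, add_zero, smul_eq_mul]
    rw [h7]
    ring
  obtain ⟨e₁, he₁, f₁, hf₁, h₁, -, -⟩ := exists_hyp_rat hQ hR (m := 0) ![]
    (by intro i; exact i.elim0) (by omega)
  obtain ⟨a, ha⟩ := hfix e₁ he₁ h₁.left_ne h₁.left
  have hH : HasRat Q b F₀ (Subgroup.centralizer {l}) := by
    intro u hu w hw hsu huw
    refine ⟨hsu, huw, ?_⟩
    rw [Subgroup.mem_centralizer_iff]
    rintro _ rfl
    exact (h u hu w hw hsu huw).symm
  have hall : ∀ u ∈ rat b F₀, Q u = 0 → l u = a • u := by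
    intro u hu hsu
    by_cases hu0 : u = 0
    · rw [hu0, map_zero, smul_zero]
    obtain ⟨g, hg, hgu, -⟩ := trans_rat hQ hR (by omega) hH he₁ hu h₁.left hsu h₁.left_ne hu0
    have h3 := Subgroup.mem_centralizer_iff.1 hg.1 l rfl
    have h4 := LinearEquiv.congr_fun h3 e₁
    rw [LinearEquiv.mul_apply, LinearEquiv.mul_apply, hgu, ha, map_smul, hgu] at h4
    exact h4
  refine ⟨a, ?_⟩
  have h5 : ∀ v : rat b F₀, l (v : V) = a • (v : V) :=
    sing_induction (Q := qf0 Q b F₀ hR) (x := ⟨e₁, he₁⟩) (y := ⟨f₁, hf₁⟩) (hyp_qf0.2 h₁)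
      (P := fun v => l (v : V) = a • (v : V))
      (fun x y hx hy => by
        change l ((x : V) + (y : V)) = a • ((x : V) + (y : V))
        rw [map_add, hx, hy, smul_add])
      (fun x hx => hall x x.2 (congrArg Subtype.val hx))
  have h6 : (l : V →ₗ[F] V) = a • LinearMap.id := b.ext fun i => h5 ⟨b i, basis_mem i⟩
  exact fun v => LinearMap.congr_fun h6 v

/-- **Linear automorphisms centralising the image of `Ω(V₀, Q₀)`.** -/
theorem hcent [Finite F] [FiniteDimensional F V] (hG : Good Q) (hG₀ : Good Q₀) (hn : 7 ≤ Fintype.card ι) (he : e ≠ 0)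
    (hQ₀ : ∀ x, Q (J σ b x) = e * (Q₀ x : F)) {L : Gam Q} {c : F} (hL : IsSS Q (1 : F ≃+* F) c L.1)
    (h : ∀ k, Psi Q L (QuotientGroup.mk' (Subgroup.center ↥(E Q)) (fE hG hG₀ hQ₀ k)) =
      QuotientGroup.mk' (Subgroup.center ↥(E Q)) (fE hG hG₀ hQ₀ k)) : Psi Q L = 1 := by
  have he' : e⁻¹ ≠ 0 := inv_ne_zero he
  have hnd : Nondeg (e⁻¹ • Q) := nondeg_scaled he' hG.nondeg
  have h1 : fE hG hG₀ hQ₀ = (conjE Q L).toMonoidHom.comp (fE hG hG₀ hQ₀) := by
    refine hom_eq_of_perfect (commutator_E hG₀) _ _ fun k => ?_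
    have h2 := h k
    simp only [QuotientGroup.mk'_apply, Psi_mk] at h2
    exact QuotientGroup.eq.1 h2.symm
  let l : V ≃ₗ[F] V :=
    { L.1 with
      map_add' := hL.add
      map_smul' := hL.smul }
  have hl : ∀ v, l v = L.1 v := fun v => rfl
  have hob_ := scalar_of_comm_rat hnd (isRat_of he hQ₀) hn (l := l) (by
    intro u hu w hw hsu huw
    obtain ⟨k, hk⟩ := siegel_mem_range hG hG₀ he hQ₀ hu hw hsu huw
    rw [← hk]
    have h3 := DFunLike.congr_fun h1 k
    have h4 : (fE hG hG₀ hQ₀ k : V ≃ₗ[F] V) = conjLin L (fE hG hG₀ hQ₀ k : V ≃ₗ[F] V) :=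
      congrArg Subtype.val h3
    apply LinearEquiv.ext
    intro v
    change (fE hG hG₀ hQ₀ k : V ≃ₗ[F] V) (L.1 v) = L.1 ((fE hG hG₀ hQ₀ k : V ≃ₗ[F] V) v)
    simp only [← conjLin_apply' L, ← h4])
  obtain ⟨a, ha⟩ := hob_
  have ha0 : a ≠ 0 := by
    rintro rfl
    obtain ⟨x, y, hxy⟩ := hG.exists_hyp
    have h5 := ha x
    rw [zero_smul] at h5
    exact hxy.left_ne (l.map_eq_zero_iff.1 h5)
  rw [← MonoidHom.mem_ker, ker_Psi hG]
  refine ⟨Units.mk0 a ha0, ?_⟩
  apply Subtype.ext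
  ext v
  exact (ha v).symm

/-! ### the data of a field automorphism -/

/-- the similitudes -/
def LinG (Q : QuadraticForm F V) : Subgroup (Gam Q) where
  carrier := {M | ∃ c : F, IsSS Q (1 : F ≃+* F) c M.1}
  one_mem' := ⟨1, Cfsg.Agent.CpAut.Orth.isSS_one⟩
  mul_mem' := by
    rintro M N ⟨c, hM⟩ ⟨d, hN⟩
    exact ⟨_, hM.mul hN⟩
  inv_mem' := by
    rintro M ⟨c, hM⟩
    exact ⟨_, hM.inv⟩

/-- the automorphisms induced by similitudes -/
def Lin (Q : QuadraticForm F V) : Subgroup (MulAut (↥(E Q) ⧸ Subgroup.center ↥(E Q))) := (LinG Q).map (Psi Q)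

theorem mem_Lin {M : Gam Q} {c : F} (hM : IsSS Q (1 : F ≃+* F) c M.1) : Psi Q M ∈ Lin Q := ⟨M, ⟨c, hM⟩, rfl⟩

/-- **The data of a field automorphism.** -/
theorem dat_of {F : Type} [Field F] [Finite F] {V : Type*} [AddCommGroup V] [Module F V] [Module.Finite F V]
    {Q : QuadraticForm F V} (hG : Good Q) (hd : 7 ≤ Module.finrank F V) {p : ℕ} (hp : p.Prime)
    {x : MulAut (↥(E Q) ⧸ Subgroup.center ↥(E Q))} (hx : x ∈ (Psi Q).range) (hxp : x ^ p = 1) (hno : x ∉ Lin Q)
    (IH : ∀ σ : F ≃+* F, orderOf σ = p →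
      ∀ Q₀ : QuadraticForm (fixf σ) (Fin (Module.finrank F V) → fixf σ), Nondeg Q₀ →
        Cfsg.Agent.H818.Gen.Gen p (↥(E Q₀) ⧸ Subgroup.center ↥(E Q₀))) :
    Cfsg.Agent.H972.Gen.Dat p (Lin Q) x := by
  classical
  have : Fact p.Prime := ⟨hp⟩
  have hfinV : Finite V := Module.finite_of_finite F
  obtain ⟨M, rfl⟩ := hx
  have hob_ := M.2
  obtain ⟨σ, l, hM⟩ := hob_
  have hσ : σ ≠ 1 := by
    rintro rfl
    exact hno (mem_Lin hM)
  have h1 := hxp
  rw [← map_pow, ← MonoidHom.mem_ker, ker_Psi hG] at h1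
  obtain ⟨a, ha⟩ := h1
  have ha' : (scal Q a).1 = M.1 ^ p := congrArg Subtype.val ha
  have hσp : σ ^ p = 1 := by
    have h2 := Cfsg.Agent.CpAut.Orth.isSS_pow hM p
    rw [← ha'] at h2
    obtain ⟨τ, d, h3⟩ := (scal Q a).2
    have h4 : IsSS Q (1 : F ≃+* F) ((a : F) * a) (scal Q a).1 :=
      ⟨mul_ne_zero a.ne_zero a.ne_zero, fun u v => smul_add _ _ _, fun t v => smul_comm _ _ _, fun v => by
        change Q ((a : F) • v) = _
        rw [QuadraticMap.map_smul]
        rfl⟩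
    exact (Cfsg.Agent.CpAut.Orth.isSS_unique (Cfsg.Agent.CpAut.Orth.exists_ne hG) h2 h4).1
  have hord : orderOf σ = p := orderOf_eq_prime hσp hσ
  have hob_ := Cfsg.Agent.CpAut.Orth.exists_ne hG
  obtain ⟨v₀, hv₀⟩ := hob_
  have hob_ := Cfsg.Agent.CpAut.Descent.exists_scale (toSemi hM) hord hp.pos a.ne_zero
    (fun v => by rw [← ha']; rfl) ⟨v₀, by rintro rfl; exact hv₀ (QuadraticMap.map_zero Q)⟩
  obtain ⟨c, hc⟩ := hob_
  -- `N = c M`, `N ^ p = 1`
  have hob_ : ∃ N : Gam Q, N = scal Q c * M := ⟨_, rfl⟩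
  obtain ⟨N, hN⟩ := hob_
  have hNv : N.1 = Cfsg.Agent.CpAut.Descent.scal V c * M.1 := by
    rw [hN]
    rfl
  have hNs : IsSS Q σ (c * c * l) N.1 := by
    have hNv' : ∀ v, N.1 v = (c : F) • M.1 v := fun v => by rw [hNv]; rfl
    refine ⟨mul_ne_zero (mul_ne_zero c.ne_zero c.ne_zero) hM.ne, fun u v => ?_, fun x v => ?_, fun v => ?_⟩
    · rw [hNv', hNv', hNv', hM.add, smul_add]
    · rw [hNv', hNv', hM.smul, smul_comm]
    · rw [hNv', QuadraticMap.map_smul, hM.form, smul_eq_mul, mul_assoc ((c : F) * c)]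
  have hNp : N.1 ^ p = 1 := by rw [hNv]; exact hc
  have h5 : Psi Q M = Psi Q N := by
    have h6 : Psi Q (scal Q c) = 1 := by
      rw [← MonoidHom.mem_ker, ker_Psi hG]
      exact ⟨c, rfl⟩
    simp only [hN, map_mul, h6, one_mul]
  have h7 : ∏ i ∈ Finset.range p, (σ ^ i) ((c : F) * c * l) = 1 := by
    have h8 := Cfsg.Agent.CpAut.Orth.isSS_pow hNs p
    rw [hNp] at h8
    exact (Cfsg.Agent.CpAut.Orth.isSS_unique (Cfsg.Agent.CpAut.Orth.exists_ne hG) h8
      Cfsg.Agent.CpAut.Orth.isSS_one).2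
  have hob_ := Cfsg.Agent.CpAut.Descent.hilbert90 hord hp.pos h7
  obtain ⟨e, he, hle⟩ := hob_
  have hob_ := Cfsg.Agent.CpAut.Descent.exists_basis (toSemi hNs) hord hp.pos hNp
    (ι := Fin (Module.finrank F V)) (by rw [Fintype.card_fin])
  obtain ⟨b, hb⟩ := hob_
  have hob_ := Cfsg.Agent.CpAut.OrthMain.exists_form hNs hb he hle
  obtain ⟨Q₀, hQ₀⟩ := hob_
  have hnd : Nondeg Q₀ := nondeg_zero hQ₀ hG.nondeg
  have hrk : Module.finrank (fixf σ) (Fin (Module.finrank F V) → fixf σ) = Module.finrank F V := by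
    rw [Module.finrank_fintype_fun_eq_card, Fintype.card_fin]
  have hG₀ : Good Q₀ := good_of_finite hnd (by omega)
  have hne : Nonempty (Fin (Module.finrank F V)) := ⟨⟨0, by omega⟩⟩
  have hn : 7 ≤ Fintype.card (Fin (Module.finrank F V)) := by rwa [Fintype.card_fin]
  rw [h5]
  refine Cfsg.Agent.H972.Gen.Dat.of_sett (sett hG hG₀ hNs hb he hQ₀) ?_ (IH σ hord Q₀ hnd) ?_ ?_
  · -- perfect
    have h9 := commutator_E hG₀
    have h10 := congrArg (Subgroup.map (QuotientGroup.mk' (Subgroup.center ↥(E Q₀)))) h9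
    simp only [commutator_def, Subgroup.map_commutator, ← MonoidHom.range_eq_map,
      MonoidHom.range_eq_top.2 (QuotientGroup.mk'_surjective _)] at h10
    exact h10
  · intro S _ hS
    exact hover hp hG hG₀ hn hord hNs hb he hQ₀ S hS
  · rintro _ ⟨L, ⟨d, hL⟩, rfl⟩ h
    exact hcent hG hG₀ hn he hQ₀ hL h

end Cfsg.Agent.H889.Gen.Fld
end
end

-- part: H522/Gen/OppGam
section
set_option linter.all false
open scoped Cfsg.Agent.FastGrp

-- part: H522/Gen/Hyp
section
/-!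
# S2187: the subgroup generated by the centralizers of the hyperplanes

`HypGen p E` : the subgroup of `G` generated by the centralizers of the hyperplanes of `E ≤ Aut G`.

* `mem_of_fix` : it contains the elements fixed by a subgroup of index at most `p`;
* `mono` : `E ≤ E'` implies `HypGen p E' ≤ HypGen p E`;
* `map_hypGen` : equivariance under automorphisms;
* `inv_le` : it contains the `E`-invariant `p'`-subgroups;
* `top_of_filt` : the isotropic case: if `E` normalises a nontrivial `r`-subgroup of a simple group with a filtered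
  root group datum of characteristic `r ≠ p`, then `HypGen p E = ⊤`.
-/

set_option autoImplicit false

namespace Cfsg.Agent.H522.Gen

open Cfsg

universe u

section defs

variable {G : Type u} [Group G]

/-- the subgroup generated by the centralizers of the hyperplanes of `E` -/
def HypGen (p : ℕ) (E : Subgroup (MulAut G)) : Subgroup G :=
  Subgroup.closure {g : G | ∃ F : Subgroup (MulAut G), F ≤ E ∧ (F.subgroupOf E).index = p ∧ ∀ φ ∈ F, φ g = g}

theorem mem_of_hyp {p : ℕ} {E F : Subgroup (MulAut G)} (hF : F ≤ E) (hi : (F.subgroupOf E).index = p) {g : G}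
    (hg : ∀ φ ∈ F, φ g = g) : g ∈ HypGen p E :=
  Subgroup.subset_closure ⟨F, hF, hi, hg⟩

/-- `E` is a `p`-group -/
theorem isPGroup {p : ℕ} {E : Subgroup (MulAut G)} (hE : IsElementaryAbelian p E) : IsPGroup p E :=
  fun a => ⟨1, Subtype.ext (by rw [pow_one]; exact hE.2 a.1 a.2)⟩

/-- a subgroup of index at most `p` contains a hyperplane -/
theorem exists_hyp {p : ℕ} [hp : Fact p.Prime] {E : Subgroup (MulAut G)} [Finite E] (hE : IsElementaryAbelian p E)
    (hE1 : p ≤ Nat.card E) {F : Subgroup (MulAut G)} (hF : F ≤ E) (hi : (F.subgroupOf E).index ≤ p) :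
    ∃ F' : Subgroup (MulAut G), F' ≤ F ∧ F' ≤ E ∧ (F'.subgroupOf E).index = p := by
  obtain ⟨m, hm⟩ := IsPGroup.iff_card.1 (isPGroup hE)
  have hd : (F.subgroupOf E).index ∣ p ^ m := by
    rw [← hm]
    exact Subgroup.index_dvd_card _
  obtain ⟨j, hj, hj'⟩ := (Nat.dvd_prime_pow hp.out).1 hd
  have hj1 : j ≤ 1 := by
    by_contra hcon
    push Not at hcon
    have h1 : p ^ 2 ≤ p ^ j := Nat.pow_le_pow_right hp.out.pos (by omega)
    have h2 : p < p ^ 2 := by
      have := hp.out.one_lt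
      nlinarith
    omega
  rcases Nat.lt_or_ge j 1 with h0 | h0
  · -- `F = E`
    have hj0 : j = 0 := by omega
    subst hj0
    rw [pow_zero, Subgroup.index_eq_one, Subgroup.subgroupOf_eq_top] at hj'
    have hFE : F = E := le_antisymm hF hj'
    have hm1 : 1 ≤ m := by
      by_contra hcon
      have h0 : m = 0 := by omega
      rw [h0, pow_zero] at hm
      have := hp.out.one_lt
      omega
    obtain ⟨K, hK⟩ := Sylow.exists_subgroup_card_pow_prime (G := E) p (n := m - 1)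
      (by rw [hm]; exact pow_dvd_pow p (by omega))
    have h1 : K.map E.subtype ≤ E := by
      rintro _ ⟨k, -, rfl⟩
      exact k.2
    refine ⟨K.map E.subtype, hFE.symm ▸ h1, h1, ?_⟩
    have h2 : (K.map E.subtype).subgroupOf E = K := Subgroup.comap_map_eq_self_of_injective E.subtype_injective K
    rw [h2]
    have h3 := K.card_mul_index
    rw [hK, hm] at h3
    have h4 : p ^ m = p ^ (m - 1) * p := by
      rw [← pow_succ]
      congr 1
      omega
    rw [h4] at h3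
    exact Nat.eq_of_mul_eq_mul_left (pow_pos hp.out.pos _) h3
  · have hj0 : j = 1 := by omega
    subst hj0
    rw [pow_one] at hj'
    exact ⟨F, le_rfl, hF, hj'⟩

theorem mem_of_fix {p : ℕ} [hp : Fact p.Prime] {E : Subgroup (MulAut G)} [Finite E] (hE : IsElementaryAbelian p E)
    (hE1 : p ≤ Nat.card E) {F : Subgroup (MulAut G)} (hF : F ≤ E) (hi : (F.subgroupOf E).index ≤ p) {g : G}
    (hg : ∀ φ ∈ F, φ g = g) : g ∈ HypGen p E := by
  obtain ⟨F', h1, h2, h3⟩ := exists_hyp hE hE1 hF hi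
  exact mem_of_hyp h2 h3 fun φ hφ => hg φ (h1 hφ)

/-- **Monotonicity.** -/
theorem mono {p : ℕ} [hp : Fact p.Prime] {E E' : Subgroup (MulAut G)} [Finite E'] (hE : IsElementaryAbelian p E)
    (hE1 : p ≤ Nat.card E) (hEE' : E ≤ E') : HypGen p E' ≤ HypGen p E := by
  have hfin : Finite E := Finite.of_injective _ (Subgroup.inclusion_injective hEE')
  refine (Subgroup.closure_le _).2 ?_
  rintro g ⟨F, hF, hi, hg⟩
  refine mem_of_fix hE hE1 (F := F ⊓ E) inf_le_right ?_ fun φ hφ => hg φ hφ.1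
  rw [Subgroup.inf_subgroupOf_right]
  have h1 : (F.subgroupOf E).index = F.relIndex E := rfl
  have h2 : (F.subgroupOf E').index = F.relIndex E' := rfl
  rw [h1]
  rw [h2] at hi
  rw [← hi]
  have h3 : F.relIndex E' ≠ 0 := by
    rw [hi]
    exact hp.out.ne_zero
  exact Subgroup.relIndex_le_of_le_right hEE' h3

end defs

section coprime

variable {G : Type u} [Group G] [Finite G] {p : ℕ} [hp : Fact p.Prime]

/-- **Coprime generation**: the `E`-invariant `p'`-subgroups lie in `HypGen p E`. -/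
theorem inv_le {E : Subgroup (MulAut G)} (hE : IsElementaryAbelian p E) (hE2 : p ^ 2 ≤ Nat.card E) {X : Subgroup G}
    (hX : ¬ p ∣ Nat.card X) (hEX : ∀ α ∈ E, X.map α.toMonoidHom = X) : X ≤ HypGen p E := by
  have hE1 : p ≤ Nat.card E := le_trans (by
    have := hp.out.one_lt
    nlinarith) hE2
  -- the semidirect product
  let H := G ⋊[E.subtype] E
  have hfH : Finite H := Finite.of_equiv _ (SemidirectProduct.equivProd (φ := E.subtype)).symm
  let A : Subgroup H := (SemidirectProduct.inr (φ := E.subtype)).range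
  let X' : Subgroup H := X.map (SemidirectProduct.inl (φ := E.subtype))
  have hA : IsElementaryAbelian p A := by
    refine ⟨?_, ?_⟩
    · constructor
      constructor
      rintro ⟨_, a, rfl⟩ ⟨_, b, rfl⟩
      have := hE.1
      apply Subtype.ext
      show SemidirectProduct.inr a * SemidirectProduct.inr b = SemidirectProduct.inr b * SemidirectProduct.inr a
      rw [← map_mul, ← map_mul, this.is_comm.comm]
    · rintro _ ⟨a, rfl⟩
      rw [← map_pow, Subtype.ext (a1 := a ^ p) (a2 := 1) (hE.2 a.1 a.2), map_one]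
  have hA2 : p ^ 2 ≤ Nat.card A := by
    have h1 : Nat.card A = Nat.card E :=
      (Nat.card_congr (MonoidHom.ofInjective (f := SemidirectProduct.inr (φ := E.subtype))
        SemidirectProduct.inr_injective).toEquiv).symm
    rw [h1]
    exact hE2
  have hX' : ¬ p ∣ Nat.card X' := by
    have h1 : Nat.card X' = Nat.card X := Subgroup.card_map_of_injective SemidirectProduct.inl_injective
    rw [h1]
    exact hX
  have hinl : ∀ (a : E) (g : G), (SemidirectProduct.inr a : H) * SemidirectProduct.inl g *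
      (SemidirectProduct.inr a)⁻¹ = SemidirectProduct.inl ((a : MulAut G) g) := by
    intro a g
    have := SemidirectProduct.inl_aut (φ := E.subtype) a g
    rw [Subgroup.coe_subtype, map_inv] at this
    exact this.symm
  have hAX : A ≤ Subgroup.normalizer (X' : Set H) := by
    rintro _ ⟨a, rfl⟩
    rw [Subgroup.mem_normalizer_iff]
    have key : ∀ (a : E), ∀ x ∈ X', SemidirectProduct.inr a * x * (SemidirectProduct.inr a)⁻¹ ∈ X' := by
      rintro a _ ⟨g, hg, rfl⟩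
      rw [hinl]
      refine ⟨(a : MulAut G) g, ?_, rfl⟩
      have h1 := hEX a a.2
      rw [SetLike.mem_coe, ← h1]
      exact ⟨g, hg, rfl⟩
    intro x
    refine ⟨key a x, fun hx => ?_⟩
    have h1 := key a⁻¹ _ hx
    have e : (SemidirectProduct.inr a⁻¹ : H) * (SemidirectProduct.inr a * x * (SemidirectProduct.inr a)⁻¹) *
        (SemidirectProduct.inr a⁻¹)⁻¹ = x := by
      rw [map_inv]
      group
    rwa [e] at h1
  have hS := Cfsg.Agent.S1324.result p A X' hA hA2 hX' hAX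
  have hle : X' ≤ (HypGen p E).map (SemidirectProduct.inl (φ := E.subtype)) := by
    rw [hS]
    refine iSup_le ?_
    rintro ⟨B, hBA, hBi⟩ x ⟨⟨g, hg, rfl⟩, hc⟩
    refine ⟨g, ?_, rfl⟩
    -- the subgroup `F` of `E` corresponding to `B`
    let B0 : Subgroup E := B.comap (SemidirectProduct.inr (φ := E.subtype))
    let F : Subgroup (MulAut G) := B0.map E.subtype
    have hFE : F ≤ E := by
      rintro _ ⟨k, -, rfl⟩
      exact k.2
    have hFs : F.subgroupOf E = B0 := Subgroup.comap_map_eq_self_of_injective E.subtype_injective B0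
    have hi : (F.subgroupOf E).index ≤ p := by
      rw [hFs]
      have h1 : B0.index = B.relIndex A := by
        show (B.comap (SemidirectProduct.inr (φ := E.subtype))).index = _
        rw [Subgroup.index_comap]
      rw [h1]
      exact hBi
    refine mem_of_fix hE hE1 hFE hi ?_
    rintro _ ⟨b, hb, rfl⟩
    have hb' : SemidirectProduct.inr b ∈ B := hb
    have h1 := Subgroup.mem_centralizer_iff.1 hc _ hb'
    have h2 := hinl b g
    have h3 : (SemidirectProduct.inr b : H) * SemidirectProduct.inl g * (SemidirectProduct.inr b)⁻¹ =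
        SemidirectProduct.inl g := by
      rw [h1]
      group
    rw [h3] at h2
    exact (SemidirectProduct.inl_injective h2).symm
  intro x hx
  obtain ⟨y, hy, e⟩ := hle ⟨x, hx, rfl⟩
  rwa [← SemidirectProduct.inl_injective e]

omit [Finite G] in
theorem not_dvd_card_of_isPGroup {r : ℕ} [hr : Fact r.Prime] (hpr : p ≠ r) {Z : Subgroup G} [Finite Z]
    (hZ : IsPGroup r Z) : ¬ p ∣ Nat.card Z := by
  intro hd
  obtain ⟨m, hm⟩ := IsPGroup.iff_card.1 hZ
  rw [hm] at hd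
  exact hpr ((Nat.prime_dvd_prime_iff_eq hp.out hr.out).1 (hp.out.dvd_of_dvd_pow hd))

/-- **The isotropic case** for the groups with a filtered root group datum. -/
theorem top_of_filt [IsSimpleGroup G] {r : ℕ} [hr : Fact r.Prime] (hG : KFacts.RgdFilt.HasFilt r G)
    (hc : ∃ a b : G, a * b ≠ b * a) (hpr : p ≠ r) {E : Subgroup (MulAut G)} (hE : IsElementaryAbelian p E)
    (hE2 : p ^ 2 ≤ Nat.card E) {K : Subgroup G} (hK : IsPGroup r K) (hK1 : K ≠ ⊥)
    (hEK : ∀ α ∈ E, K.map α.toMonoidHom = K) : HypGen p E = ⊤ := by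
  obtain ⟨V, V', hV, hV', h1, h2, h3⟩ := H233.Rloc.exists_pair hG hc hpr (isPGroup hE) hK hK1 hEK
  rw [← top_le_iff, ← h3]
  exact sup_le (inv_le hE hE2 (not_dvd_card_of_isPGroup hpr hV) h1)
    (inv_le hE hE2 (not_dvd_card_of_isPGroup hpr hV') h2)

end coprime

end Cfsg.Agent.H522.Gen
end

-- part: H522/Gen/OppGam
section
/-!
# S2187: the isotropic case in terms of `H818.Gen.Gam`

* `hypGen_eq` : `HypGen p E = Gam p E` (definitional);
* `le_gam_of_inv` : the `E`-invariant `p'`-subgroups (`X.map α = X` for `α ∈ E`) lie in `Gam p E`;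
* `gam_of_filt` : **OPP** : `HasFilt r G`, `E` normalises a nontrivial `r`-subgroup ⟹ `Gam p E = ⊤`;
* `gam_of_filt'` : the contrapositive: `Gam p E ≠ ⊤` ⟹ the only `E`-invariant `r`-subgroup is trivial.
-/

set_option autoImplicit false

namespace Cfsg.Agent.H522.Gen

open Cfsg H818.Gen

universe u

variable {G : Type u} [Group G]

variable [Finite G] {p : ℕ} [hp : Fact p.Prime]

/-- **OPP** -/
theorem gam_of_filt [IsSimpleGroup G] {r : ℕ} [hr : Fact r.Prime] (hG : KFacts.RgdFilt.HasFilt r G)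
    (hc : ∃ a b : G, a * b ≠ b * a) (hpr : p ≠ r) {E : Subgroup (MulAut G)} (hE : IsElementaryAbelian p E)
    (hE2 : p ^ 2 ≤ Nat.card E) {K : Subgroup G} (hK : IsPGroup r K) (hK1 : K ≠ ⊥)
    (hEK : ∀ α ∈ E, K.map α.toMonoidHom = K) : Gam p E = ⊤ :=
  top_of_filt hG hc hpr hE hE2 hK hK1 hEK

end Cfsg.Agent.H522.Gen
end
end

-- part: H751/Two/Rank_mg
section
prune_inst 0x14107904440002000018058291002224640005b000208c01d5610a44020ef36209a12901458019015a08aa0100010008114c00d002000000002000000005002090085206d3890104660099803084000000000000000000000000000000041004000000000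
set_option linter.all false
open scoped Cfsg.Agent.FastGrp

/-- decoders of the packed data (elaboration time only) -/
private noncomputable def pk61d (b S i : Nat) : Nat := Nat.mod (Nat.shiftRight S (Nat.mul b i)) (Nat.shiftLeft (nat_lit 1) b)
private noncomputable def pk61f {α : Type} (t : Nat) (f : Nat → α) : α := Nat.rec (f Nat.zero) (fun k _ => f (Nat.succ k)) t
private noncomputable def pk61l {α : Type} (f : Nat → α) (s e : Nat) (tl : List α) : List α :=
  pk61f e fun e => Nat.rec tl (fun k ih => List.cons (pk61f (Nat.sub e (Nat.succ k)) f) ih) (Nat.sub e s)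

-- part: H751/Two/Seven
section
/-!
# Generation by the centralizers of the hyperplanes: inner Sylow case (helper751, S2187)

* `elab_closure`  : commuting elements with `t ^ p = 1` generate an elementary abelian group;
* `card_Pt`       : a lower bound for its order;
* `mem_Gam`       : `y` commutes with `F`, `P = ⟨F, t⟩`: `y ∈ Γ(P)`;
* `gen_of_sylow`  : `P` an elementary abelian Sylow group of `G`, all `p`-automorphisms inner, `Γ(P) = G`.
-/

set_option autoImplicit false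

namespace Cfsg.Agent.H751.Two.Seven

open Cfsg Subgroup Cfsg.Agent.H818.Gen

section elab'

variable {G : Type*} [Group G] {p : ℕ}

/-- commuting elements with `t ^ p = 1` generate an elementary abelian group -/
theorem elab_closure {S : Set G} (h1 : ∀ a ∈ S, a ^ p = 1) (h2 : ∀ a ∈ S, ∀ b ∈ S, a * b = b * a) :
    IsElementaryAbelian p (closure S) := by
  have hc : ∀ a ∈ closure S, ∀ b ∈ closure S, a * b = b * a := by
    have h3 : closure S ≤ centralizer S := by
      rw [closure_le]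
      intro a ha
      rw [SetLike.mem_coe, mem_centralizer_iff]
      intro b hb
      exact (h2 b hb a ha)
    intro a ha b hb
    have h4 : closure S ≤ centralizer {a} := by
      rw [closure_le]
      intro c hc
      rw [SetLike.mem_coe, mem_centralizer_singleton_iff]
      exact mem_centralizer_iff.1 (h3 ha) c hc
    exact (mem_centralizer_singleton_iff.1 (h4 hb)).symm
  refine ⟨⟨⟨fun a b => Subtype.ext (hc a a.2 b b.2)⟩⟩, fun a ha => ?_⟩
  induction ha using closure_induction with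
  | mem x hx => exact h1 x hx
  | one => exact one_pow p
  | mul x y hx hy ihx ihy =>
    rw [(show Commute x y from hc x hx y hy).mul_pow, ihx, ihy, one_mul]
  | inv x hx ih => rw [inv_pow, ih, inv_one]

/-- a lower bound for the order: `t` is outside of the centralizer of an element commuting with `F` -/
theorem card_step [Finite G] [hp : Fact p.Prime] {P F : Subgroup G} (hP : IsElementaryAbelian p P) (hF : F ≤ P) {t : G}
    (ht : t ∈ P) (htF : t ∉ F) {k : ℕ} (hk : p ^ k ≤ Nat.card F) : p ^ (k + 1) ≤ Nat.card P := by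
  obtain ⟨n, hn⟩ := (elab_isPGroup hP).exists_card_eq
  obtain ⟨m, hm⟩ := (elab_isPGroup (elab_mono hF hP)).exists_card_eq
  have h1 : Nat.card F < Nat.card P := by
    refine lt_of_le_of_ne (card_le_of_le hF) fun h => htF ?_
    have : F = P := eq_of_le_of_card_ge hF h.ge
    rwa [this]
  rw [hn] at h1 ⊢
  rw [hm] at h1 hk
  have h2 : m < n := (Nat.pow_lt_pow_iff_right hp.out.one_lt).1 h1
  have h3 : k ≤ m := (Nat.pow_le_pow_iff_right hp.out.one_lt).1 hk
  exact Nat.pow_le_pow_right hp.out.pos (by omega)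

/-- the group generated by `t 0, …, t (n - 1)` -/
def Pt (t : ℕ → G) (n : ℕ) : Subgroup G := closure {g : G | ∃ j < n, g = t j}

theorem mem_Pt {t : ℕ → G} {n j : ℕ} (hj : j < n) : t j ∈ Pt t n := subset_closure ⟨j, hj, rfl⟩

theorem elab_Pt {t : ℕ → G} {n : ℕ} (h1 : ∀ j < n, t j ^ p = 1) (h2 : ∀ i < n, ∀ j < n, Commute (t i) (t j)) :
    IsElementaryAbelian p (Pt t n) := by
  refine elab_closure ?_ ?_
  · rintro _ ⟨j, hj, rfl⟩
    exact h1 j hj
  · rintro _ ⟨i, hi, rfl⟩ _ ⟨j, hj, rfl⟩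
    exact h2 i hi j hj

theorem Pt_mono {t : ℕ → G} {m n : ℕ} (h : m ≤ n) : Pt t m ≤ Pt t n :=
  closure_mono fun _ ⟨j, hj, hjt⟩ => ⟨j, hj.trans_le h, hjt⟩

/-- `y i` commutes with the `t j`, `j ≠ i`, not with `t i` : the `t j` are independent -/
theorem card_Pt [Finite G] [hp : Fact p.Prime] {t y : ℕ → G} {n : ℕ} (h1 : ∀ j < n, t j ^ p = 1)
    (h2 : ∀ i < n, ∀ j < n, Commute (t i) (t j)) (h3 : ∀ i < n, ∀ j < n, j ≠ i → Commute (t j) (y i))
    (h4 : ∀ i < n, ¬ Commute (t i) (y i)) : p ^ n ≤ Nat.card (Pt t n) := by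
  induction n with
  | zero =>
    rw [pow_zero]
    exact Nat.card_pos
  | succ n ih =>
    have h0 := ih (fun j hj => h1 j (by omega)) (fun i hi j hj => h2 i (by omega) j (by omega))
      (fun i hi j hj => h3 i (by omega) j (by omega)) (fun i hi => h4 i (by omega))
    refine card_step (elab_Pt h1 h2) (Pt_mono (Nat.le_succ n)) (mem_Pt (Nat.lt_succ_self n)) ?_ h0
    intro h5
    refine h4 n (Nat.lt_succ_self n) ?_
    have h6 : Pt t n ≤ centralizer {y n} := by
      unfold Pt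
      rw [closure_le]
      rintro _ ⟨j, hj, rfl⟩
      rw [SetLike.mem_coe, mem_centralizer_singleton_iff]
      exact h3 n (by omega) j (by omega) (by omega)
    exact mem_centralizer_singleton_iff.1 (h6 h5)

end elab'

section gam

variable {G : Type*} [Group G] [Finite G] {p : ℕ} [hp : Fact p.Prime]

omit [Finite G] hp in
/-- the index of `F` in `⟨F, t⟩` -/
theorem relIndex_dvd {P F : Subgroup G} (hP : IsElementaryAbelian p P) {t : G} (ht : t ∈ P) (hF : F ≤ P)
    (h : P ≤ F ⊔ zpowers t) : F.relIndex P ∣ p := by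
  have hcomm : IsMulCommutative ↥P := hP.1
  have hn : (F.subgroupOf P).Normal := ⟨fun a ha g => by
    have : g * a * g⁻¹ = a := by
      rw [hcomm.1.1 g a]; group
    rwa [this]⟩
  have h1 : (F.subgroupOf P).index = (F.subgroupOf P).relIndex (zpowers (⟨t, ht⟩ : ↥P)) := by
    rw [← relIndex_sup_right, ← relIndex_top_right]
    congr 1
    rw [eq_comm, eq_top_iff]
    intro x _
    have h2 : F ⊔ zpowers t ≤ ((zpowers (⟨t, ht⟩ : ↥P)) ⊔ F.subgroupOf P).map P.subtype := by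
      rw [Subgroup.map_sup]
      refine sup_le ?_ ?_
      · refine le_trans ?_ le_sup_right
        intro y hy
        exact ⟨⟨y, hF hy⟩, hy, rfl⟩
      · refine le_trans ?_ le_sup_left
        rw [zpowers_le]
        exact ⟨⟨t, ht⟩, mem_zpowers _, rfl⟩
    obtain ⟨y, hy, hyx⟩ := h2 (h x.2)
    have : y = x := Subtype.ext hyx
    rwa [← this]
  rw [relIndex, h1]
  refine ((F.subgroupOf P).subgroupOf (zpowers (⟨t, ht⟩ : ↥P))).index_dvd_card.trans ?_
  rw [Nat.card_zpowers]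
  exact orderOf_dvd_of_pow_eq_one (Subtype.ext (hP.2 t ht))

omit [Finite G] hp in
theorem conj_inj (hZ : center G = ⊥) : Function.Injective (MulAut.conj : G →* MulAut G) := by
  rw [injective_iff_map_eq_one]
  intro g hg
  have : g ∈ center G := by
    rw [mem_center_iff]
    intro h
    have h1 : (MulAut.conj g) h = h := by rw [hg]; rfl
    rw [MulAut.conj_apply] at h1
    calc h * g = (g * h * g⁻¹) * g := by rw [h1]
      _ = g * h := by group
  rw [hZ] at this
  exact mem_bot.1 this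

omit [Finite G] hp in
theorem elab_map {X : Type*} [Group X] {P : Subgroup G} (hP : IsElementaryAbelian p P) (f : G →* X) :
    IsElementaryAbelian p (P.map f) := by
  refine ⟨⟨⟨?_⟩⟩, ?_⟩
  · rintro ⟨_, a, ha, rfl⟩ ⟨_, b, hb, rfl⟩
    have := congrArg (fun z : ↥P => (z : G)) (hP.1.1.1 ⟨a, ha⟩ ⟨b, hb⟩)
    refine Subtype.ext ?_
    show f a * f b = f b * f a
    rw [← map_mul, ← map_mul]
    exact congrArg f this
  · rintro _ ⟨a, ha, rfl⟩
    rw [← map_pow, hP.2 a ha, map_one]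

/-- `y` commutes with `F`, `P = ⟨F, t⟩`: `y ∈ Γ(P)` -/
theorem mem_Gam (hZ : center G = ⊥) {P F : Subgroup G} (hP : IsElementaryAbelian p P) (hc : p ≤ Nat.card P) {t : G}
    (ht : t ∈ P) (hF : F ≤ P) (h : P ≤ F ⊔ zpowers t) {y : G} (hy : F ≤ centralizer {y}) :
    y ∈ Gam p (P.map (MulAut.conj : G →* MulAut G)) := by
  have hi := conj_inj hZ
  have hfix : y ∈ CF (F.map (MulAut.conj : G →* MulAut G)) := by
    rintro _ ⟨f, hf, rfl⟩
    rw [MulAut.conj_apply, mul_inv_eq_iff_eq_mul]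
    exact mem_centralizer_singleton_iff.1 (hy hf)
  have hr : (F.map (MulAut.conj : G →* MulAut G)).relIndex (P.map (MulAut.conj : G →* MulAut G)) = F.relIndex P :=
    relIndex_map_map_of_injective _ _ hi
  rcases (Nat.dvd_prime hp.out).1 (relIndex_dvd hP ht hF h) with h1 | h1
  · have h2 : P ≤ F := relIndex_eq_one.1 h1
    refine CF_le_Gam_of_card (elab_map hP _) ?_ (CF_anti (map_mono h2) hfix)
    rwa [Nat.card_congr (P.equivMapOfInjective _ hi).toEquiv.symm]
  · exact CF_le_Gam' (map_mono hF) (hr.trans h1) hfix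

/-- the form with a set `F0` of generators of `F` -/
theorem mem_Gam_of_set (hZ : center G = ⊥) {t : ℕ → G} {n : ℕ} (hP : IsElementaryAbelian p (Pt t n))
    (hc : p ≤ Nat.card (Pt t n)) {a : G} (ha : a ∈ Pt t n) {F0 : Set G} (hF : ∀ f ∈ F0, f ∈ Pt t n)
    (h : ∀ j < n, t j ∈ closure F0 ⊔ zpowers a) {y : G} (hy : ∀ f ∈ F0, Commute f y) :
    y ∈ Gam p ((Pt t n).map (MulAut.conj : G →* MulAut G)) := by
  refine mem_Gam hZ hP hc ha (F := closure F0) ((closure_le _).2 hF) ?_ ?_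
  · unfold Pt
    rw [closure_le]
    rintro _ ⟨j, hj, rfl⟩
    exact h j hj
  · rw [closure_le]
    intro f hf
    exact mem_centralizer_singleton_iff.2 (hy f hf)

/-- `y` commutes with the `t j`, `j ≠ i` -/
theorem mem_Gam_of_ne (hZ : center G = ⊥) {t : ℕ → G} {n : ℕ} (hP : IsElementaryAbelian p (Pt t n))
    (hc : p ≤ Nat.card (Pt t n)) {i : ℕ} (hi : i < n) {y : G} (hy : ∀ j < n, j ≠ i → Commute (t j) y) :
    y ∈ Gam p ((Pt t n).map (MulAut.conj : G →* MulAut G)) := by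
  refine mem_Gam_of_set hZ hP hc (mem_Pt hi) (F0 := {g | ∃ j < n, j ≠ i ∧ g = t j}) ?_ ?_ ?_
  · rintro _ ⟨j, hj, -, rfl⟩
    exact mem_Pt hj
  · intro j hj
    by_cases hji : j = i
    · subst hji
      exact mem_sup_right (mem_zpowers _)
    · exact mem_sup_left (subset_closure ⟨j, hj, hji, rfl⟩)
  · rintro _ ⟨j, hj, hji, rfl⟩
    exact hy j hj hji

/-- **the inner Sylow case** -/
theorem gen_of_sylow (hZ : center G = ⊥) (hinn : ∀ φ : MulAut G, φ ^ p = 1 → φ ∈ (MulAut.conj : G →* MulAut G).range)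
    {P : Subgroup G} (hP : IsElementaryAbelian p P) {k : ℕ} (hk : p ^ k ≤ Nat.card P) (hk' : ¬ p ^ (k + 1) ∣ Nat.card G)
    (hG : Gam p (P.map (MulAut.conj : G →* MulAut G)) = ⊤) : Gen p G := by
  intro E hE hc
  have hi := conj_inj hZ
  -- `P` is a Sylow group
  obtain ⟨n, hn⟩ := (elab_isPGroup hP).exists_card_eq
  have hn1 : k ≤ n := by
    rw [hn] at hk
    exact (Nat.pow_le_pow_iff_right hp.out.one_lt).1 hk
  have hn2 : n ≤ k := by
    by_contra hcon
    push Not at hcon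
    refine hk' ((pow_dvd_pow p hcon).trans ?_)
    rw [← hn]
    exact P.card_subgroup_dvd_card
  have hnk : n = k := le_antisymm hn2 hn1
  subst hnk
  -- the Sylow group containing `P`
  obtain ⟨Q, hQ⟩ := (elab_isPGroup hP).exists_le_sylow
  have hQP : (Q : Subgroup G) = P := by
    refine (eq_of_le_of_card_ge hQ ?_).symm
    obtain ⟨m, hm⟩ := Q.2.exists_card_eq
    rw [hn, hm]
    refine Nat.pow_le_pow_right hp.out.pos ?_
    by_contra hcon
    push Not at hcon
    refine hk' ((pow_dvd_pow p hcon).trans ?_)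
    rw [← hm]
    exact (Q : Subgroup G).card_subgroup_dvd_card
  -- `E` is inner
  have hEr : E ≤ (MulAut.conj : G →* MulAut G).range := fun φ hφ => hinn φ (hE.2 φ hφ)
  have hE0 : (E.comap (MulAut.conj : G →* MulAut G)).map MulAut.conj = E := map_comap_eq_self hEr
  have hE0p : IsPGroup p ↥(E.comap (MulAut.conj : G →* MulAut G)) :=
    (elab_isPGroup hE).comap_of_injective _ hi
  obtain ⟨R, hR⟩ := hE0p.exists_le_sylow
  obtain ⟨g, hg⟩ := MulAction.exists_smul_eq G Q R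
  have hRQ : (R : Subgroup G) = P.map (MulAut.conj g).toMonoidHom := by
    rw [← hg, Sylow.coe_subgroup_smul, hQP]
    rfl
  -- the conjugate of `P`
  have h1 : (P.map (MulAut.conj g).toMonoidHom).map (MulAut.conj : G →* MulAut G) =
      (P.map (MulAut.conj : G →* MulAut G)).map (MulAut.congr (MulAut.conj g)).toMonoidHom := by
    rw [Subgroup.map_map, Subgroup.map_map]
    congr 1
    ext x y
    show g * x * g⁻¹ * y * (g * x * g⁻¹)⁻¹ = g * (x * (g⁻¹ * y * g) * x⁻¹) * g⁻¹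
    group
  have h2 : Gam p ((P.map (MulAut.conj g).toMonoidHom).map (MulAut.conj : G →* MulAut G)) = ⊤ := by
    rw [h1, ← map_Gam, hG]
    exact map_top_of_surjective _ (MulAut.conj g).surjective
  have h3 : E ≤ (P.map (MulAut.conj g).toMonoidHom).map (MulAut.conj : G →* MulAut G) := by
    rw [← hE0]
    refine map_mono ?_
    rw [← hRQ]
    exact hR
  rw [eq_top_iff, ← h2]
  exact Gam_mono h3 (elab_map (elab_map hP _) _) (le_trans (by nlinarith [hp.out.pos, hp.out.one_lt]) hc)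

end gam

end Cfsg.Agent.H751.Two.Seven
end

-- part: H751/Two/Rank
section
/-!
# S2187: general criteria for `Gen p K`, `p` prime to `|Out K|` (helper751)

* `gen_of_not_sq` : `p ^ 2` does not divide `|K|`;
* `gen_of_noSP`   : `p ^ 3` does not divide `|K|`, `K` has no strongly `p`-embedded subgroup;
* `gen_of_index`  : `K` has a filtered root group datum in characteristic `r ≠ p` and a subgroup `P` of index prime to `p`
  normalizing a nontrivial `r`-subgroup.
-/

set_option autoImplicit false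
set_option linter.unusedSectionVars false

namespace Cfsg.Agent.H751.Two.Rank

open Cfsg Subgroup Cfsg.Agent.H818.Gen Cfsg.Agent.H818.StrP

universe u

variable {K : Type u} [Group K] [Finite K] {p : ℕ} [hp : Fact p.Prime]

/-- `p`-automorphisms are inner -/
theorem mem_inn (hout : ¬ p ∣ Nat.card (Out K)) {φ : MulAut K} (hφ : φ ^ p = 1) :
    φ ∈ (MulAut.conj : K →* MulAut K).range := by
  have h1 : ((φ : MulAut K) : Out K) ^ p = 1 := by
    rw [← QuotientGroup.mk_pow, hφ, QuotientGroup.mk_one]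
  have h2 : ((φ : MulAut K) : Out K) = 1 := by
    rw [← orderOf_eq_one_iff]
    rcases (Nat.dvd_prime hp.out).1 (orderOf_dvd_of_pow_eq_one h1) with h3 | h3
    · exact h3
    · exfalso
      apply hout
      rw [← h3]
      exact orderOf_dvd_natCard _
  exact (QuotientGroup.eq_one_iff φ).1 h2

theorem le_inn (hout : ¬ p ∣ Nat.card (Out K)) {E : Subgroup (MulAut K)} (hE : IsElementaryAbelian p E) :
    E ≤ (MulAut.conj : K →* MulAut K).range := fun φ hφ => mem_inn hout (hE.2 φ hφ)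

theorem card_comap (hz : center K = ⊥) {E : Subgroup (MulAut K)} (hI : E ≤ (MulAut.conj : K →* MulAut K).range) :
    Nat.card ↥(E.comap (MulAut.conj : K →* MulAut K)) = Nat.card E := by
  have h1 : (E.comap (MulAut.conj : K →* MulAut K)).map (MulAut.conj : K →* MulAut K) = E := map_comap_eq_self hI
  conv_rhs => rw [← h1]
  exact Nat.card_congr ((E.comap (MulAut.conj : K →* MulAut K)).equivMapOfInjective _ (Seven.conj_inj hz)).toEquiv

theorem card_dvd (hz : center K = ⊥) {E : Subgroup (MulAut K)} (hI : E ≤ (MulAut.conj : K →* MulAut K).range) :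
    Nat.card E ∣ Nat.card K := by
  rw [← card_comap hz hI]
  exact card_subgroup_dvd_card _

/-- `p ^ 2` does not divide `|K|` -/
theorem gen_of_not_sq (hz : center K = ⊥) (hout : ¬ p ∣ Nat.card (Out K)) (h : ¬ p ^ 2 ∣ Nat.card K) : Gen p K := by
  intro E hE hc
  exfalso
  apply h
  refine dvd_trans ?_ (card_dvd hz (le_inn hout hE))
  obtain ⟨n, hn⟩ := (elab_isPGroup hE).exists_card_eq
  rw [hn] at hc ⊢
  exact pow_dvd_pow p ((Nat.pow_le_pow_iff_right hp.out.one_lt).1 hc)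

/-- **rank two** -/
theorem gen_of_noSP [IsSimpleGroup K] (hna : ¬ IsMulCommutative K) (hout : ¬ p ∣ Nat.card (Out K))
    (h3 : ¬ p ^ 3 ∣ Nat.card K) (hno : NoSP p K) : Gen p K := by
  intro E hE hc
  have hz := H240.GenTwF.center_bot hna
  have hI := le_inn hout hE
  -- bounds of orders of `p`-subgroups of `Inn K`
  have hb : ∀ Q : Subgroup (MulAut K), Q ≤ (MulAut.conj : K →* MulAut K).range → IsPGroup p Q → Nat.card Q ≤ p ^ 2 := by
    intro Q hQI hQ
    obtain ⟨n, hn⟩ := hQ.exists_card_eq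
    rw [hn]
    refine Nat.pow_le_pow_right hp.out.pos ?_
    by_contra hcon
    push Not at hcon
    refine h3 ((pow_dvd_pow p hcon).trans ?_)
    rw [← hn]
    exact card_dvd hz hQI
  have hc2 : Nat.card E = p ^ 2 := le_antisymm (hb E hI (elab_isPGroup hE)) hc
  obtain ⟨x, hx1, hx⟩ : ∃ x : K, x ≠ 1 ∧ MulAut.conj x ∈ E := by
    have h1 : 1 < Nat.card E := by
      rw [hc2]
      exact Nat.one_lt_pow two_ne_zero hp.out.one_lt
    have hnt : Nontrivial ↥E := (Finite.one_lt_card_iff_nontrivial).1 h1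
    obtain ⟨φ, hφ, hφ1⟩ := (Subgroup.nontrivial_iff_exists_ne_one E).1 hnt
    obtain ⟨x, hx⟩ := hI hφ
    refine ⟨x, ?_, by rw [hx]; exact hφ⟩
    rintro rfl
    apply hφ1
    rw [← hx, map_one]
  have hsup : (MulAut.conj : K →* MulAut K).range ⊔ E = (MulAut.conj : K →* MulAut K).range := sup_eq_left.2 hI
  refine H240.GenTwF.Gam_eq_top_of_noSP hna hE hc2 hx1 hx ?_ ?_
  · intro Q hQ hQp hEQ y hy _
    rw [hsup] at hQ
    have h4 : E = Q := eq_of_le_of_card_ge hEQ (by rw [hc2]; exact hb Q hQ hQp)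
    rwa [h4]
  · rw [hsup]
    exact noSP_congr (MonoidHom.ofInjective (Seven.conj_inj hz)) hno

/-- **a local subgroup of index prime to `p`** -/
theorem gen_of_index [IsSimpleGroup K] {r : ℕ} [hr : Fact r.Prime] (hG : KFacts.RgdFilt.HasFilt r K)
    (hc : ∃ a b : K, a * b ≠ b * a) (hpr : p ≠ r) (hz : center K = ⊥) (hout : ¬ p ∣ Nat.card (Out K))
    {V : Subgroup K} (hV : IsPGroup r V) (hV1 : V ≠ ⊥) {P : Subgroup K} (hP : P ≤ normalizer (V : Set K))
    (hidx : ¬ p ∣ P.index) : Gen p K := by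
  intro E hE hE2
  have hI := le_inn hout hE
  have hE0 : (E.comap (MulAut.conj : K →* MulAut K)).map MulAut.conj = E := map_comap_eq_self hI
  have hE0p : IsPGroup p ↥(E.comap (MulAut.conj : K →* MulAut K)) :=
    (elab_isPGroup hE).comap_of_injective _ (Seven.conj_inj hz)
  obtain ⟨y, hy⟩ := Opp.exists_conj_le_of_index P hidx hE0p
  refine H522.Gen.gam_of_filt hG hc hpr hE hE2 (K := V.map (MulAut.conj y⁻¹).toMonoidHom) (hV.map _) ?_ ?_
  · rw [Ne, Subgroup.map_eq_bot_iff_of_injective _ (MulAut.conj y⁻¹).injective]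
    exact hV1
  · intro α hα
    obtain ⟨e, rfl⟩ := hI hα
    have h1 : y * e * y⁻¹ ∈ normalizer (V : Set K) := hP (hy ⟨e, hα, rfl⟩)
    -- `e` normalizes `y⁻¹ V y`
    have h2 : V.map (MulAut.conj (y * e * y⁻¹)).toMonoidHom = V := by
      ext v
      constructor
      · rintro ⟨w, hw, rfl⟩
        exact (mem_normalizer_iff.1 h1 w).1 hw
      · intro hv
        refine ⟨(y * e * y⁻¹)⁻¹ * v * (y * e * y⁻¹), ?_, ?_⟩
        · rw [SetLike.mem_coe, mem_normalizer_iff.1 h1]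
          have : y * e * y⁻¹ * ((y * e * y⁻¹)⁻¹ * v * (y * e * y⁻¹)) * (y * e * y⁻¹)⁻¹ = v := by group
          rwa [this]
        · show (y * e * y⁻¹) * ((y * e * y⁻¹)⁻¹ * v * (y * e * y⁻¹)) * (y * e * y⁻¹)⁻¹ = v
          group
    have h3 : (V.map (MulAut.conj y⁻¹).toMonoidHom).map (MulAut.conj e).toMonoidHom =
        (V.map (MulAut.conj (y * e * y⁻¹)).toMonoidHom).map (MulAut.conj y⁻¹).toMonoidHom := by
      rw [Subgroup.map_map, Subgroup.map_map]
      congr 1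
      ext v
      show e * (y⁻¹ * v * y⁻¹⁻¹) * e⁻¹ = y⁻¹ * ((y * e * y⁻¹) * v * (y * e * y⁻¹)⁻¹) * y⁻¹⁻¹
      group
    rw [h3, h2]

end Cfsg.Agent.H751.Two.Rank
end

-- part: H751/Two/Cert
section
/-!
# Certificates with the commutator formula over the field with two elements (helper751)

* `okC D r s`    : `x_r(1)`, `x_s(1)` commute;
* `okT3 D e`     : `x_k(1)` is a product of `x_r(1)`, `x_s(1)` and inverses (`e = (r, s, k)`);
* `run D K st`   : all roots are obtained from the set `K` (a bit mask) by the steps `st`;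
* `eq_top_of_run`: a subgroup containing the `x_r(1)`, `r ∈ K`, is the whole group.
-/

set_option autoImplicit false

namespace Cfsg.Agent.H751.Two.Cert

open Cfsg Subgroup Cfsg.Lie Cfsg.Agent.H751.Two.Code Cfsg.Agent.ChevalleyStructure.Elts

universe u

/-- `x_r`, `x_s` commute -/
def okC (D : ChevalleyDatum) (r s : ℕ) : Bool :=
  Nat.blt r D.nroots && Nat.blt s D.nroots && !(Nat.beq s r) && !(Nat.beq s (D.neg r)) &&
    match D.commTerms r s with
    | [] => true
    | _ => false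

/-- `[x_r, x_s] = x_k` -/
def okT3 (D : ChevalleyDatum) (e : ℕ × ℕ × ℕ) : Bool :=
  Nat.blt e.1 D.nroots && Nat.blt e.2.1 D.nroots && !(Nat.beq e.2.1 e.1) && !(Nat.beq e.2.1 (D.neg e.1)) &&
    match D.commTerms e.1 e.2.1 with
    | [(k, c, i, j)] => Nat.beq k e.2.2 && (c.natAbs % 2 == 1) && Nat.beq i 1 && Nat.beq j 1
    | _ => false

theorem ne_of_bnot {a b : ℕ} (h : (!(Nat.beq a b)) = true) : a ≠ b := by
  rintro rfl
  rw [Nat.beq_refl] at h
  exact absurd h (by decide)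

variable {D : ChevalleyDatum} (hD : InList D) (K : Type u) [Field K]

theorem commute_xG {r s : ℕ} (h : okC D r s = true) (t u : K) : Commute (xG hD r t) (xG hD s u) := by
  unfold okC at h
  simp only [Bool.and_eq_true] at h
  obtain ⟨⟨⟨⟨h1, h2⟩, h3⟩, h4⟩, h5⟩ := h
  have h6 : D.commTerms r s = [] := by
    revert h5
    cases D.commTerms r s with
    | nil => intro _; rfl
    | cons a l => intro h; exact absurd h (by simp)
  apply Units.ext
  have h := Cfsg.Agent.S1025.result (F := K) D hD r s (by simpa [Nat.blt_eq] using h1) (by simpa [Nat.blt_eq] using h2)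
    (ne_of_bnot h3) (ne_of_bnot h4) t u
  have h2 : D.commWord K r s t u = [] := by
    unfold ChevalleyDatum.commWord
    rw [h6]
    rfl
  rw [h2, wordMat_nil, mul_one] at h
  exact h.symm

/-- all letters of the words commute -/
def okCW (D : ChevalleyDatum) (v w : List ℕ) : Bool := v.all fun r => w.all fun s => okC D r s

theorem commute_wG {v w : List ℕ} (h : okCW D v w = true) : Commute (wG hD K v) (wG hD K w) := by
  unfold wG
  refine Commute.list_prod_left _ _ ?_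
  intro x hx
  obtain ⟨r, hr, rfl⟩ := List.mem_map.1 hx
  refine Commute.list_prod_right _ _ ?_
  intro y hy
  obtain ⟨s, hs, rfl⟩ := List.mem_map.1 hy
  unfold okCW at h
  exact commute_xG hD K (List.all_eq_true.1 (List.all_eq_true.1 h r hr) s hs) 1 1

theorem commute_wg {v w : List ℕ} (h : okCW D v w = true) : Commute (wg hD K v) (wg hD K w) :=
  Subtype.ext (commute_wG hD K h)

variable {K} [CharP K 2]

theorem mem_of_okT3 {M : Subgroup ↥(D.group K)} {r s k : ℕ} (h : okT3 D (r, s, k) = true)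
    (hr : wg hD K [r] ∈ M) (hs : wg hD K [s] ∈ M) : wg hD K [k] ∈ M := by
  unfold okT3 at h
  simp only [Bool.and_eq_true] at h
  obtain ⟨⟨⟨⟨h1, h2⟩, h3⟩, h4⟩, h5⟩ := h
  obtain ⟨c, h6, hc⟩ : ∃ c : ℤ, D.commTerms r s = [(k, c, 1, 1)] ∧ c.natAbs % 2 = 1 := by
    revert h5
    rcases D.commTerms r s with _ | ⟨⟨k', c, i, j⟩, _ | ⟨b, l⟩⟩
    · intro h; exact absurd h (by simp)
    · intro h
      simp only [Bool.and_eq_true, beq_iff_eq] at h
      obtain ⟨⟨⟨a1, a2⟩, a3⟩, a4⟩ := h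
      have a1' := Nat.eq_of_beq_eq_true a1
      have a3' := Nat.eq_of_beq_eq_true a3
      have a4' := Nat.eq_of_beq_eq_true a4
      subst a1' a3' a4'
      exact ⟨c, rfl, a2⟩
    · intro h; exact absurd h (by simp)
  have hc1 : (c : K) = 1 := by
    have e1 : (2 : ℤ) ∣ c - 1 := by omega
    obtain ⟨d, hd⟩ := e1
    have e2 : c = 2 * d + 1 := by omega
    rw [e2]
    push_cast
    rw [CharTwo.two_eq_zero, zero_mul, zero_add]
  have h := Cfsg.Agent.S1025.result (F := K) D hD r s (by simpa [Nat.blt_eq] using h1) (by simpa [Nat.blt_eq] using h2)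
    (ne_of_bnot h3) (ne_of_bnot h4) 1 1
  have h7 : D.wordMat K (D.commWord K r s 1 1) = (xG hD k (1 : K) : Matrix D.Idx D.Idx K) := by
    unfold ChevalleyDatum.commWord
    rw [h6]
    simp only [List.map_cons, List.map_nil, pow_one, one_pow, mul_one, hc1, one_mul]
    rw [wordMat_cons, wordMat_nil, mul_one, coe_xG, CharTwo.neg_eq]
  rw [h7] at h
  have h8 : wg hD K [s] * wg hD K [r] = wg hD K [r] * wg hD K [s] * wg hD K [k] := by
    apply Subtype.ext
    apply Units.ext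
    show ((wG hD K [s] * wG hD K [r] : GL D.Idx K) : Matrix D.Idx D.Idx K) =
      ((wG hD K [r] * wG hD K [s] * wG hD K [k] : GL D.Idx K) : Matrix D.Idx D.Idx K)
    simp only [wG_cons, wG_nil, mul_one, Units.val_mul]
    simpa only [coe_xG] using h
  have h9 : wg hD K [k] = (wg hD K [r] * wg hD K [s])⁻¹ * (wg hD K [s] * wg hD K [r]) := by
    rw [h8]; group
  rw [h9]
  exact M.mul_mem (M.inv_mem (M.mul_mem hr hs)) (M.mul_mem hs hr)

/-- all roots are obtained from the bit mask `m` by the steps -/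
noncomputable def run (D : ChevalleyDatum) (m : ℕ) (st : List (ℕ × ℕ × ℕ)) : Bool :=
  match st with
  | [] => (List.range D.nroots).all fun r => m.testBit r
  | e :: st => m.testBit e.1 && m.testBit e.2.1 && okT3 D e && run D (m ||| 2 ^ e.2.2) st

theorem eq_top_of_run (hK : Nat.card K = 2) {M : Subgroup ↥(D.group K)} :
    ∀ (st : List (ℕ × ℕ × ℕ)) (m : ℕ), run D m st = true → (∀ r, m.testBit r = true → wg hD K [r] ∈ M) → M = ⊤
  | [], m, h, hm => by
    unfold run at h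
    refine Cfsg.Agent.H810.StrP.eq_top_of_roots hD hK M fun r hr => ?_
    have h1 := hm r (List.all_eq_true.1 h r (List.mem_range.2 hr))
    have h2 : wg hD K [r] = ⟨xG hD r (1 : K), xG_mem_group hD r 1⟩ := by
      apply Subtype.ext
      show wG hD K [r] = _
      rw [wG_cons, wG_nil, mul_one]
    rwa [h2] at h1
  | (r, s, k) :: st, m, h, hm => by
    unfold run at h
    simp only [Bool.and_eq_true] at h
    obtain ⟨⟨⟨h1, h2⟩, h3⟩, h4⟩ := h
    refine eq_top_of_run hK st _ h4 fun a ha => ?_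
    rw [Nat.testBit_or, Bool.or_eq_true] at ha
    rcases ha with ha | ha
    · exact hm a ha
    · rw [Nat.testBit_two_pow] at ha
      have hak : k = a := by simpa using ha
      rw [← hak]
      exact mem_of_okT3 hD h3 (hm r h1) (hm s h2)

/-- the bit mask of a list of roots -/
def msk (l : List ℕ) : ℕ := l.foldr (fun r m => m ||| 2 ^ r) 0

theorem mem_of_msk {l : List ℕ} {r : ℕ} (h : (msk l).testBit r = true) : r ∈ l := by
  induction l with
  | nil => exact absurd h (by simp [msk])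
  | cons s l ih =>
    have h1 : msk (s :: l) = msk l ||| 2 ^ s := rfl
    rw [h1, Nat.testBit_or, Bool.or_eq_true] at h
    rcases h with h | h
    · exact List.mem_cons_of_mem _ (ih h)
    · rw [Nat.testBit_two_pow] at h
      have : s = r := by simpa using h
      rw [this]
      exact List.mem_cons_self

end Cfsg.Agent.H751.Two.Cert
end

-- part: H751/Two/Frame
section
/-!
# Words of order `p` in the factors of a subsystem (helper751, S2187, `q = 2`)

`T i` (`i < n`) : words of order `p` in pairwise commuting factors; `KR i` : the roots of the `i`-th factor.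
`P = ⟨T 0, …, T (n - 1)⟩` is elementary abelian of order at least `p ^ n`, and `Γ(P)` contains all root elements of
the factors.
-/

set_option autoImplicit false

namespace Cfsg.Agent.H751.Two.Frame

open Cfsg Subgroup Cfsg.Lie Cfsg.Agent.H751.Two.Code Cfsg.Agent.H751.Two.Cert Cfsg.Agent.H751.Two.Seven
  Cfsg.Agent.ChevalleyStructure.Elts Cfsg.Agent.H818.Gen

universe u

/-- the word `w ^ k` -/
def rep (k : ℕ) (w : List ℕ) : List ℕ :=
  match k with
  | 0 => []
  | k + 1 => w ++ rep k w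

section

variable {D : ChevalleyDatum} (hD : InList D) (K : Type u) [Field K]

theorem wG_rep (k : ℕ) (w : List ℕ) : wG hD K (rep k w) = wG hD K w ^ k := by
  induction k with
  | zero => rw [pow_zero]; rfl
  | succ k ih =>
    have : rep (k + 1) w = w ++ rep k w := rfl
    rw [this, wG_append, ih, pow_succ']

theorem wg_pow_eq_one {k : ℕ} {w : List ℕ} (h : wG hD K (rep k w) = wG hD K []) : wg hD K w ^ k = 1 := by
  apply Subtype.ext
  show (wG hD K w) ^ k = 1
  rw [← wG_rep, h, wG_nil]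

theorem commute_of_eq {a b : List ℕ} (h : wG hD K (a ++ b) = wG hD K (b ++ a)) : Commute (wg hD K a) (wg hD K b) := by
  apply Subtype.ext
  show wG hD K a * wG hD K b = wG hD K b * wG hD K a
  rw [← wG_append, ← wG_append, h]

theorem not_commute_of_ne {a b : List ℕ} (h : wG hD K (a ++ b) ≠ wG hD K (b ++ a)) :
    ¬ Commute (wg hD K a) (wg hD K b) := by
  intro h1
  apply h
  rw [wG_append, wG_append]
  exact congrArg Subtype.val h1.eq

end

section

variable {D : ChevalleyDatum} (hD : InList D) (K : Type u) [Field K] [Finite K] {p : ℕ} [hp : Fact p.Prime]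

/-- the words `T i` of order `p` in pairwise commuting factors -/
structure Fr (p n : ℕ) (T : ℕ → List ℕ) (KR : ℕ → List ℕ) (y : ℕ → ℕ) : Prop where
  tt : ∀ i < n, ∀ j < n, i ≠ j → okCW D (T i) (T j) = true
  tk : ∀ i < n, ∀ j < n, i ≠ j → okCW D (T i) (KR j) = true
  pw : ∀ i < n, wG hD K (rep p (T i)) = wG hD K []
  mem : ∀ i < n, y i ∈ KR i
  ne : ∀ i < n, wG hD K (T i ++ [y i]) ≠ wG hD K ([y i] ++ T i)

/-- the elements -/
def el (T : ℕ → List ℕ) (i : ℕ) : ↥(D.group K) := wg hD K (T i)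

variable {hD K} {n : ℕ} {T KR : ℕ → List ℕ} {y : ℕ → ℕ}

omit [Finite K] hp in
theorem Fr.commute (h : Fr hD K p n T KR y) {i j : ℕ} (hi : i < n) (hj : j < n) :
    Commute (el hD K T i) (el hD K T j) := by
  by_cases hij : i = j
  · rw [hij]
  · exact commute_wg hD K (h.tt i hi j hj hij)

omit [Finite K] hp in
theorem commute_sub {v w : List ℕ} {r : ℕ} (h : okCW D v w = true) (hr : r ∈ w) : Commute (wg hD K v) (wg hD K [r]) := by
  refine commute_wg hD K ?_
  unfold okCW at h ⊢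
  rw [List.all_eq_true] at h ⊢
  intro a ha
  rw [List.all_cons, List.all_nil, Bool.and_true]
  exact List.all_eq_true.1 (h a ha) r hr

omit [Finite K] hp in
theorem Fr.elab (h : Fr hD K p n T KR y) : IsElementaryAbelian p (Pt (el hD K T) n) :=
  elab_Pt (fun i hi => wg_pow_eq_one hD K (h.pw i hi)) (fun _ hi _ hj => h.commute hi hj)

theorem Fr.card_le (h : Fr hD K p n T KR y) : p ^ n ≤ Nat.card (Pt (el hD K T) n) := by
  refine card_Pt (y := fun i => wg hD K [y i]) (fun i hi => wg_pow_eq_one hD K (h.pw i hi))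
    (fun _ hi _ hj => h.commute hi hj) ?_ ?_
  · intro i hi j hj hji
    exact commute_sub (h.tk j hj i hi hji) (h.mem i hi)
  · intro i hi
    exact not_commute_of_ne hD K (h.ne i hi)

/-- `Γ(P)` -/
noncomputable def GamP (p : ℕ) (hD : InList D) (K : Type u) [Field K] (T : ℕ → List ℕ) (n : ℕ) : Subgroup ↥(D.group K) :=
  Gam p ((Pt (el hD K T) n).map (MulAut.conj : ↥(D.group K) →* MulAut ↥(D.group K)))

theorem Fr.p_le (h : Fr hD K p n T KR y) (hn : n ≠ 0) : p ≤ Nat.card (Pt (el hD K T) n) :=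
  (Nat.le_self_pow hn p).trans h.card_le

/-- `Γ(P)` contains the root elements of the factors -/
theorem Fr.root_mem (h : Fr hD K p n T KR y) {i r : ℕ} (hi : i < n) (hr : r ∈ KR i) :
    wg hD K [r] ∈ GamP p hD K T n := by
  refine mem_Gam_of_ne (Cfsg.Agent.H70.OutCount.center_eq_bot hD) h.elab (h.p_le (by omega)) hi ?_
  intro j hj hji
  exact commute_sub (h.tk j hj i hi hji) hr

/-- `Γ(P)` contains the elements commuting with a set `F0` of words with `P = ⟨F0, a⟩` -/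
theorem Fr.word_mem (h : Fr hD K p n T KR y) {a : ℕ} (ha : a < n) {F0 : Set ↥(D.group K)}
    (hF : ∀ f ∈ F0, f ∈ Pt (el hD K T) n) (hs : ∀ j < n, el hD K T j ∈ closure F0 ⊔ zpowers (el hD K T a))
    {x : ↥(D.group K)} (hx : ∀ f ∈ F0, Commute f x) : x ∈ GamP p hD K T n :=
  mem_Gam_of_set (Cfsg.Agent.H70.OutCount.center_eq_bot hD) h.elab (h.p_le (by omega)) (mem_Pt ha) hF hs hx

/-- the conclusion -/
theorem Fr.gen (h : Fr hD K p n T KR y) {m : ℕ} (hm : ¬ p ∣ m) (hout : Nat.card (Out ↥(D.group K)) = m)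
    (hc : ¬ p ^ (n + 1) ∣ Nat.card ↥(D.group K)) (hG : GamP p hD K T n = ⊤) : Gen p ↥(D.group K) := by
  refine gen_of_sylow (Cfsg.Agent.H70.OutCount.center_eq_bot hD) ?_ h.elab h.card_le hc hG
  intro φ hφ
  have : Finite (Out ↥(D.group K)) := inferInstance
  have h1 : ((φ : MulAut ↥(D.group K)) : Out ↥(D.group K)) ^ p = 1 := by
    rw [← QuotientGroup.mk_pow, hφ, QuotientGroup.mk_one]
  have h2 : ((φ : MulAut ↥(D.group K)) : Out ↥(D.group K)) = 1 := by
    rw [← orderOf_eq_one_iff]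
    rcases (Nat.dvd_prime hp.out).1 (orderOf_dvd_of_pow_eq_one h1) with h3 | h3
    · exact h3
    · exfalso
      apply hm
      rw [← h3, ← hout]
      exact orderOf_dvd_natCard _
  exact (QuotientGroup.eq_one_iff φ).1 h2

end

end Cfsg.Agent.H751.Two.Frame
end

-- part: H751/Two/DataE8
section
/-!
# Words in `E₈(2)` (helper751, S2187, `p = 7`)

`X` : the table of root elements; `kr` : the roots of a subsystem `A₂ × ⋯ × A₂` (six for each factor);
`tw` : words of order 7; `xw` : words of further elements; `st` : `x_k = [x_r, x_s]`.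
-/

set_option autoImplicit false

namespace Cfsg.Agent.H751.Two.DataE8

open Cfsg.Agent.H751.Two.Bits

/-- the table of root elements -/
def X : List (ℕ × Sparse) := [
  (0, [(8, 7), (1, 247), (4, 247), (6, 247), (8, 247), (9, 128), (10, 130), (11, 133), (12, 137), (13, 142),
    (14, 148), (15, 154), (16, 159), (17, 163), (18, 166), (19, 168), (20, 169), (22, 176), (23, 181), (24, 185),
    (25, 188), (26, 190), (27, 191), (29, 195), (30, 198), (31, 200), (32, 201), (34, 204), (35, 206), (36, 207),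
    (38, 209), (39, 210), (41, 211), (44, 214), (45, 216), (46, 217), (48, 219), (49, 220), (51, 221), (54, 223),
    (55, 224), (57, 225), (60, 226), (64, 228), (65, 229), (67, 230), (70, 231), (74, 232), (79, 233), (86, 235),
    (87, 236), (89, 237), (92, 238), (96, 239), (101, 240), (107, 241), (113, 242), (118, 243), (122, 244),
    (125, 245), (127, 246)]),
  (1, [(9, 6), (9, 7), (1, 246), (4, 246), (6, 246), (7, 246), (9, 246), (8, 127), (10, 129), (11, 132), (12, 136),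
    (13, 141), (14, 147), (15, 153), (16, 158), (17, 162), (18, 165), (19, 167), (21, 169), (22, 175), (23, 180),
    (24, 184), (25, 187), (26, 189), (28, 191), (29, 194), (30, 197), (31, 199), (33, 201), (34, 203), (35, 205),
    (37, 207), (38, 208), (40, 210), (42, 211), (44, 213), (45, 215), (47, 217), (48, 218), (50, 220), (52, 221),
    (54, 222), (56, 224), (58, 225), (61, 226), (64, 227), (66, 229), (68, 230), (71, 231), (75, 232), (80, 233),
    (86, 234), (88, 236), (90, 237), (93, 238), (97, 239), (102, 240), (108, 241), (114, 242), (119, 243),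
    (123, 244), (126, 245), (128, 247)]),
  (2, [(10, 5), (10, 6), (1, 245), (4, 245), (7, 245), (10, 245), (8, 125), (9, 126), (11, 131), (12, 135),
    (13, 140), (14, 146), (15, 152), (16, 157), (17, 161), (18, 164), (20, 167), (21, 168), (22, 174), (23, 179),
    (24, 183), (25, 186), (27, 189), (28, 190), (29, 193), (30, 196), (32, 199), (33, 200), (34, 202), (36, 205),
    (37, 206), (39, 208), (40, 209), (43, 211), (44, 212), (46, 215), (47, 216), (49, 218), (50, 219), (53, 221),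
    (55, 222), (56, 223), (59, 225), (62, 226), (65, 227), (66, 228), (69, 230), (72, 231), (76, 232), (81, 233),
    (87, 234), (88, 235), (91, 237), (94, 238), (98, 239), (103, 240), (109, 241), (115, 242), (120, 243),
    (124, 244), (129, 246), (130, 247)]),
  (26, [(34, 1), (34, 3), (34, 5), (0, 221), (3, 221), (4, 221), (5, 221), (7, 221), (34, 221), (8, 51), (9, 52),
    (10, 53), (13, 63), (14, 73), (17, 82), (18, 83), (22, 95), (24, 110), (25, 111), (29, 116), (30, 117),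
    (35, 131), (36, 132), (37, 133), (38, 135), (39, 136), (40, 137), (44, 149), (54, 152), (55, 153), (56, 154),
    (64, 157), (65, 158), (66, 159), (74, 167), (75, 168), (76, 169), (86, 179), (87, 180), (88, 181), (96, 189),
    (97, 190), (98, 191), (101, 199), (102, 200), (103, 201), (106, 211), (118, 215), (119, 216), (120, 217),
    (122, 218), (123, 219), (124, 220), (138, 225), (139, 226), (144, 230), (145, 231), (160, 233), (172, 237),
    (173, 238), (182, 241), (192, 242), (202, 245), (203, 246), (204, 247)]),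
  (33, [(41, 1), (41, 5), (41, 7), (0, 214), (3, 214), (5, 214), (6, 214), (7, 214), (41, 214), (8, 44), (11, 47),
    (12, 50), (13, 56), (14, 66), (19, 80), (20, 81), (22, 88), (26, 108), (27, 109), (31, 114), (32, 115),
    (35, 119), (36, 120), (38, 123), (39, 124), (42, 128), (43, 130), (51, 149), (57, 150), (60, 151), (63, 154),
    (67, 155), (70, 156), (73, 159), (74, 160), (77, 163), (78, 166), (89, 177), (92, 178), (95, 181), (96, 182),
    (99, 185), (100, 188), (101, 192), (104, 195), (105, 198), (106, 204), (125, 212), (127, 213), (131, 216),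
    (132, 217), (135, 219), (136, 220), (140, 223), (141, 224), (146, 228), (147, 229), (167, 233), (174, 235),
    (175, 236), (189, 241), (199, 242), (205, 243), (208, 244), (211, 247)]),
  (35, [(43, 1), (43, 6), (0, 212), (3, 212), (5, 212), (43, 212), (10, 44), (11, 45), (12, 48), (13, 54), (14, 64),
    (20, 79), (21, 80), (22, 86), (27, 107), (28, 108), (32, 113), (33, 114), (36, 118), (37, 119), (39, 122),
    (40, 123), (41, 125), (42, 126), (53, 149), (59, 150), (62, 151), (63, 152), (69, 155), (72, 156), (73, 157),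
    (76, 160), (77, 161), (78, 164), (91, 177), (94, 178), (95, 179), (98, 182), (99, 183), (100, 186), (103, 192),
    (104, 193), (105, 196), (106, 202), (129, 213), (130, 214), (132, 215), (133, 216), (136, 218), (137, 219),
    (141, 222), (142, 223), (147, 227), (148, 228), (169, 233), (175, 234), (176, 235), (191, 241), (201, 242),
    (207, 243), (210, 244), (211, 245)]),
  (39, [(47, 1), (47, 4), (47, 7), (0, 208), (1, 208), (3, 208), (4, 208), (6, 208), (47, 208), (9, 38), (10, 39),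
    (11, 41), (15, 60), (16, 70), (17, 74), (21, 78), (23, 92), (24, 96), (28, 100), (29, 101), (33, 105), (37, 106),
    (44, 122), (45, 125), (46, 127), (50, 134), (52, 135), (53, 136), (56, 139), (58, 140), (59, 141), (66, 145),
    (68, 146), (69, 147), (80, 164), (81, 165), (82, 167), (88, 173), (90, 174), (91, 175), (108, 186), (109, 187),
    (110, 189), (114, 196), (115, 197), (116, 199), (119, 202), (120, 203), (121, 205), (128, 209), (130, 210),
    (133, 211), (149, 218), (150, 222), (154, 226), (155, 227), (159, 231), (163, 232), (177, 234), (181, 238),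
    (185, 239), (195, 240), (214, 244), (216, 245), (217, 246)]),
  (45, [(53, 1), (53, 3), (53, 6), (0, 202), (1, 202), (3, 202), (5, 202), (53, 202), (10, 34), (11, 35), (12, 38),
    (15, 54), (16, 64), (20, 74), (21, 75), (23, 86), (27, 96), (28, 97), (32, 101), (33, 102), (43, 106), (46, 118),
    (47, 119), (49, 122), (50, 123), (51, 125), (52, 126), (59, 138), (62, 139), (63, 140), (69, 144), (72, 145),
    (73, 146), (81, 160), (82, 161), (83, 164), (91, 172), (94, 173), (95, 174), (109, 182), (110, 183), (111, 186),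
    (115, 192), (116, 193), (117, 196), (129, 203), (130, 204), (132, 205), (133, 206), (136, 208), (137, 209),
    (149, 212), (153, 222), (154, 223), (158, 227), (159, 228), (169, 232), (180, 234), (181, 235), (191, 239),
    (201, 240), (217, 243), (220, 244), (221, 245)]),
  (51, [(59, 2), (59, 3), (59, 4), (59, 6), (0, 196), (1, 196), (5, 196), (59, 196), (10, 30), (11, 31), (13, 38),
    (15, 48), (17, 64), (20, 70), (21, 71), (24, 86), (27, 92), (28, 93), (36, 101), (37, 102), (43, 105), (46, 113),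
    (47, 114), (53, 117), (55, 122), (56, 123), (57, 125), (58, 126), (62, 134), (63, 135), (69, 143), (76, 145),
    (77, 146), (81, 156), (82, 157), (84, 164), (91, 171), (98, 173), (99, 174), (109, 178), (110, 179), (112, 186),
    (120, 192), (121, 193), (129, 197), (130, 198), (132, 199), (133, 200), (138, 202), (141, 208), (142, 209),
    (150, 212), (153, 218), (154, 219), (162, 227), (163, 228), (169, 231), (184, 234), (185, 235), (191, 238),
    (207, 240), (217, 242), (224, 244), (225, 245)]),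
  (64, [(72, 0), (72, 2), (72, 3), (72, 4), (72, 5), (72, 6), (0, 183), (1, 183), (2, 183), (4, 183), (5, 183),
    (72, 183), (10, 24), (12, 26), (14, 35), (16, 45), (18, 54), (20, 57), (21, 58), (30, 86), (32, 89), (33, 90),
    (39, 96), (40, 97), (43, 99), (49, 107), (50, 108), (53, 110), (62, 112), (65, 118), (66, 119), (69, 121),
    (70, 125), (71, 126), (73, 131), (76, 138), (78, 140), (81, 150), (83, 152), (85, 161), (94, 170), (103, 172),
    (105, 174), (115, 177), (117, 179), (124, 182), (129, 184), (130, 185), (134, 186), (136, 189), (137, 190),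
    (143, 193), (145, 202), (147, 205), (148, 206), (156, 212), (158, 215), (159, 216), (165, 222), (166, 223),
    (169, 225), (197, 234), (198, 235), (201, 237), (210, 239), (220, 241), (229, 243), (231, 245)]),
  (76, [(84, 0), (84, 2), (84, 3), (0, 171), (2, 171), (84, 171), (13, 22), (15, 23), (17, 29), (18, 30), (19, 31),
    (20, 32), (21, 33), (54, 86), (55, 87), (56, 88), (57, 89), (58, 90), (59, 91), (60, 92), (61, 93), (62, 94),
    (63, 95), (74, 101), (75, 102), (76, 103), (77, 104), (78, 105), (79, 113), (80, 114), (81, 115), (82, 116),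
    (83, 117), (85, 143), (112, 170), (138, 172), (139, 173), (140, 174), (141, 175), (142, 176), (150, 177),
    (151, 178), (152, 179), (153, 180), (154, 181), (160, 192), (161, 193), (162, 194), (163, 195), (164, 196),
    (165, 197), (166, 198), (167, 199), (168, 200), (169, 201), (222, 234), (223, 235), (224, 236), (225, 237),
    (226, 238), (232, 240), (233, 242)]),
  (77, [(85, 2), (0, 170), (85, 170), (14, 22), (16, 23), (17, 24), (18, 25), (19, 26), (20, 27), (21, 28), (64, 86),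
    (65, 87), (66, 88), (67, 89), (68, 90), (69, 91), (70, 92), (71, 93), (72, 94), (73, 95), (74, 96), (75, 97),
    (76, 98), (77, 99), (78, 100), (79, 107), (80, 108), (81, 109), (82, 110), (83, 111), (84, 112), (143, 171),
    (144, 172), (145, 173), (146, 174), (147, 175), (148, 176), (155, 177), (156, 178), (157, 179), (158, 180),
    (159, 181), (160, 182), (161, 183), (162, 184), (163, 185), (164, 186), (165, 187), (166, 188), (167, 189),
    (168, 190), (169, 191), (227, 234), (228, 235), (229, 236), (230, 237), (231, 238), (232, 239), (233, 241)]),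
  (83, [(91, 0), (91, 4), (91, 6), (1, 164), (2, 164), (5, 164), (91, 164), (10, 18), (11, 19), (22, 38), (23, 48),
    (24, 54), (27, 60), (28, 61), (29, 64), (32, 70), (33, 71), (36, 74), (37, 75), (43, 78), (46, 79), (47, 80),
    (53, 83), (59, 84), (69, 85), (87, 122), (88, 123), (89, 125), (90, 126), (94, 134), (95, 135), (98, 139),
    (99, 140), (103, 145), (104, 146), (109, 151), (110, 152), (115, 156), (116, 157), (120, 160), (121, 161),
    (129, 165), (130, 166), (132, 167), (133, 168), (170, 186), (171, 196), (172, 202), (175, 208), (176, 209),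
    (177, 212), (180, 218), (181, 219), (184, 222), (185, 223), (191, 226), (194, 227), (195, 228), (201, 231),
    (207, 232), (217, 233), (236, 244), (237, 245)]),
  (90, [(98, 0), (98, 1), (98, 2), (98, 3), (98, 5), (98, 6), (1, 157), (2, 157), (3, 157), (4, 157), (5, 157),
    (98, 157), (10, 16), (13, 19), (22, 31), (24, 45), (25, 48), (27, 51), (28, 52), (34, 64), (36, 67), (37, 68),
    (39, 70), (40, 71), (43, 73), (55, 79), (56, 80), (59, 82), (62, 83), (76, 85), (87, 113), (88, 114), (91, 116),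
    (94, 117), (96, 125), (97, 126), (99, 131), (100, 135), (103, 143), (106, 146), (109, 149), (112, 152),
    (120, 155), (124, 156), (129, 158), (130, 159), (138, 161), (139, 164), (141, 167), (142, 168), (170, 179),
    (172, 193), (173, 196), (175, 199), (176, 200), (182, 212), (184, 215), (185, 216), (187, 218), (188, 219),
    (191, 221), (203, 227), (204, 228), (207, 230), (210, 231), (224, 233), (236, 242), (239, 245)]),
  (98, [(106, 3), (1, 149), (106, 149), (13, 15), (14, 16), (22, 23), (34, 44), (35, 45), (36, 46), (37, 47),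
    (38, 48), (39, 49), (40, 50), (41, 51), (42, 52), (43, 53), (74, 79), (75, 80), (76, 81), (77, 82), (78, 83),
    (96, 107), (97, 108), (98, 109), (99, 110), (100, 111), (101, 113), (102, 114), (103, 115), (104, 116),
    (105, 117), (138, 150), (139, 151), (140, 152), (141, 153), (142, 154), (144, 155), (145, 156), (146, 157),
    (147, 158), (148, 159), (172, 177), (173, 178), (174, 179), (175, 180), (176, 181), (202, 212), (203, 213),
    (204, 214), (205, 215), (206, 216), (207, 217), (208, 218), (209, 219), (210, 220), (211, 221), (232, 233),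
    (239, 241), (240, 242)]),
  (104, [(112, 0), (112, 3), (2, 143), (112, 143), (13, 14), (15, 16), (24, 29), (25, 30), (26, 31), (27, 32),
    (28, 33), (54, 64), (55, 65), (56, 66), (57, 67), (58, 68), (59, 69), (60, 70), (61, 71), (62, 72), (63, 73),
    (84, 85), (96, 101), (97, 102), (98, 103), (99, 104), (100, 105), (107, 113), (108, 114), (109, 115), (110, 116),
    (111, 117), (138, 144), (139, 145), (140, 146), (141, 147), (142, 148), (150, 155), (151, 156), (152, 157),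
    (153, 158), (154, 159), (170, 171), (182, 192), (183, 193), (184, 194), (185, 195), (186, 196), (187, 197),
    (188, 198), (189, 199), (190, 200), (191, 201), (222, 227), (223, 228), (224, 229), (225, 230), (226, 231),
    (239, 240), (241, 242)]),
  (110, [(118, 3), (118, 4), (118, 7), (4, 137), (5, 137), (6, 137), (7, 137), (118, 137), (8, 12), (17, 21),
    (24, 28), (29, 33), (34, 40), (35, 42), (36, 43), (44, 50), (45, 52), (46, 53), (54, 61), (55, 62), (57, 63),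
    (64, 71), (65, 72), (67, 73), (74, 78), (79, 83), (86, 93), (87, 94), (89, 95), (96, 100), (101, 105),
    (107, 111), (113, 117), (119, 128), (120, 130), (121, 133), (122, 134), (125, 135), (127, 136), (138, 142),
    (144, 148), (150, 154), (155, 159), (160, 166), (161, 168), (162, 169), (172, 176), (177, 181), (182, 188),
    (183, 190), (184, 191), (192, 198), (193, 200), (194, 201), (202, 209), (203, 210), (205, 211), (212, 219),
    (213, 220), (215, 221), (222, 226), (227, 231), (234, 238), (243, 247)]),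
  (112, [(120, 3), (120, 4), (120, 5), (120, 6), (4, 135), (5, 135), (120, 135), (10, 12), (17, 19), (24, 26),
    (29, 31), (34, 38), (36, 41), (37, 42), (44, 48), (46, 51), (47, 52), (55, 60), (56, 61), (59, 63), (65, 70),
    (66, 71), (69, 73), (76, 78), (81, 83), (87, 92), (88, 93), (91, 95), (98, 100), (103, 105), (109, 111),
    (115, 117), (118, 125), (119, 126), (121, 131), (124, 134), (129, 136), (130, 137), (138, 140), (144, 146),
    (150, 152), (155, 157), (160, 164), (162, 167), (163, 168), (172, 174), (177, 179), (182, 186), (184, 189),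
    (185, 190), (192, 196), (194, 199), (195, 200), (203, 208), (204, 209), (207, 211), (213, 218), (214, 219),
    (217, 221), (224, 226), (229, 231), (236, 238), (243, 245)]),
  (113, [(121, 3), (121, 5), (4, 134), (121, 134), (11, 12), (17, 18), (24, 25), (29, 30), (35, 38), (36, 39),
    (37, 40), (45, 48), (46, 49), (47, 50), (57, 60), (58, 61), (59, 62), (67, 70), (68, 71), (69, 72), (77, 78),
    (82, 83), (89, 92), (90, 93), (91, 94), (99, 100), (104, 105), (110, 111), (116, 117), (118, 122), (119, 123),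
    (120, 124), (131, 135), (132, 136), (133, 137), (138, 139), (144, 145), (150, 151), (155, 156), (161, 164),
    (162, 165), (163, 166), (172, 173), (177, 178), (183, 186), (184, 187), (185, 188), (193, 196), (194, 197),
    (195, 198), (205, 208), (206, 209), (207, 210), (215, 218), (216, 219), (217, 220), (225, 226), (230, 231),
    (237, 238), (243, 244)]),
  (116, [(124, 4), (124, 6), (5, 131), (124, 131), (10, 11), (18, 19), (25, 26), (30, 31), (34, 35), (39, 41),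
    (40, 42), (44, 45), (49, 51), (50, 52), (55, 57), (56, 58), (62, 63), (65, 67), (66, 68), (72, 73), (76, 77),
    (81, 82), (87, 89), (88, 90), (94, 95), (98, 99), (103, 104), (109, 110), (115, 116), (120, 121), (122, 125),
    (123, 126), (129, 132), (130, 133), (134, 135), (139, 140), (145, 146), (151, 152), (156, 157), (160, 161),
    (165, 167), (166, 168), (173, 174), (178, 179), (182, 183), (187, 189), (188, 190), (192, 193), (197, 199),
    (198, 200), (203, 205), (204, 206), (210, 211), (213, 215), (214, 216), (220, 221), (224, 225), (229, 230),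
    (236, 237), (244, 245)]),
  (118, [(126, 5), (126, 7), (6, 129), (126, 129), (9, 10), (19, 20), (26, 27), (31, 32), (35, 36), (38, 39),
    (42, 43), (45, 46), (48, 49), (52, 53), (54, 55), (58, 59), (61, 62), (64, 65), (68, 69), (71, 72), (75, 76),
    (80, 81), (86, 87), (90, 91), (93, 94), (97, 98), (102, 103), (108, 109), (114, 115), (119, 120), (123, 124),
    (125, 127), (128, 130), (131, 132), (135, 136), (140, 141), (146, 147), (152, 153), (157, 158), (161, 162),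
    (164, 165), (168, 169), (174, 175), (179, 180), (183, 184), (186, 187), (190, 191), (193, 194), (196, 197),
    (200, 201), (202, 203), (206, 207), (209, 210), (212, 213), (216, 217), (219, 220), (223, 224), (228, 229),
    (235, 236), (245, 246)]),
  (119, [(127, 6), (7, 128), (127, 128), (8, 9), (20, 21), (27, 28), (32, 33), (36, 37), (39, 40), (41, 42),
    (46, 47), (49, 50), (51, 52), (55, 56), (57, 58), (60, 61), (65, 66), (67, 68), (70, 71), (74, 75), (79, 80),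
    (87, 88), (89, 90), (92, 93), (96, 97), (101, 102), (107, 108), (113, 114), (118, 119), (122, 123), (125, 126),
    (129, 130), (132, 133), (136, 137), (141, 142), (147, 148), (153, 154), (158, 159), (162, 163), (165, 166),
    (167, 168), (175, 176), (180, 181), (184, 185), (187, 188), (189, 190), (194, 195), (197, 198), (199, 200),
    (203, 204), (205, 206), (208, 209), (213, 214), (215, 216), (218, 219), (222, 223), (227, 228), (234, 235),
    (246, 247)]),
  (120, [(128, 6), (7, 127), (128, 127), (9, 8), (21, 20), (28, 27), (33, 32), (37, 36), (40, 39), (42, 41),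
    (47, 46), (50, 49), (52, 51), (56, 55), (58, 57), (61, 60), (66, 65), (68, 67), (71, 70), (75, 74), (80, 79),
    (88, 87), (90, 89), (93, 92), (97, 96), (102, 101), (108, 107), (114, 113), (119, 118), (123, 122), (126, 125),
    (130, 129), (133, 132), (137, 136), (142, 141), (148, 147), (154, 153), (159, 158), (163, 162), (166, 165),
    (168, 167), (176, 175), (181, 180), (185, 184), (188, 187), (190, 189), (195, 194), (198, 197), (200, 199),
    (204, 203), (206, 205), (209, 208), (214, 213), (216, 215), (219, 218), (223, 222), (228, 227), (235, 234),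
    (247, 246)]),
  (123, [(131, 4), (131, 6), (5, 124), (131, 124), (11, 10), (19, 18), (26, 25), (31, 30), (35, 34), (41, 39),
    (42, 40), (45, 44), (51, 49), (52, 50), (57, 55), (58, 56), (63, 62), (67, 65), (68, 66), (73, 72), (77, 76),
    (82, 81), (89, 87), (90, 88), (95, 94), (99, 98), (104, 103), (110, 109), (116, 115), (121, 120), (125, 122),
    (126, 123), (132, 129), (133, 130), (135, 134), (140, 139), (146, 145), (152, 151), (157, 156), (161, 160),
    (167, 165), (168, 166), (174, 173), (179, 178), (183, 182), (189, 187), (190, 188), (193, 192), (199, 197),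
    (200, 198), (205, 203), (206, 204), (211, 210), (215, 213), (216, 214), (221, 220), (225, 224), (230, 229),
    (237, 236), (245, 244)]),
  (126, [(134, 3), (134, 5), (4, 121), (134, 121), (12, 11), (18, 17), (25, 24), (30, 29), (38, 35), (39, 36),
    (40, 37), (48, 45), (49, 46), (50, 47), (60, 57), (61, 58), (62, 59), (70, 67), (71, 68), (72, 69), (78, 77),
    (83, 82), (92, 89), (93, 90), (94, 91), (100, 99), (105, 104), (111, 110), (117, 116), (122, 118), (123, 119),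
    (124, 120), (135, 131), (136, 132), (137, 133), (139, 138), (145, 144), (151, 150), (156, 155), (164, 161),
    (165, 162), (166, 163), (173, 172), (178, 177), (186, 183), (187, 184), (188, 185), (196, 193), (197, 194),
    (198, 195), (208, 205), (209, 206), (210, 207), (218, 215), (219, 216), (220, 217), (226, 225), (231, 230),
    (238, 237), (244, 243)]),
  (127, [(135, 3), (135, 4), (135, 5), (135, 6), (4, 120), (5, 120), (135, 120), (12, 10), (19, 17), (26, 24),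
    (31, 29), (38, 34), (41, 36), (42, 37), (48, 44), (51, 46), (52, 47), (60, 55), (61, 56), (63, 59), (70, 65),
    (71, 66), (73, 69), (78, 76), (83, 81), (92, 87), (93, 88), (95, 91), (100, 98), (105, 103), (111, 109),
    (117, 115), (125, 118), (126, 119), (131, 121), (134, 124), (136, 129), (137, 130), (140, 138), (146, 144),
    (152, 150), (157, 155), (164, 160), (167, 162), (168, 163), (174, 172), (179, 177), (186, 182), (189, 184),
    (190, 185), (196, 192), (199, 194), (200, 195), (208, 203), (209, 204), (211, 207), (218, 213), (219, 214),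
    (221, 217), (226, 224), (231, 229), (238, 236), (245, 243)]),
  (135, [(143, 0), (143, 3), (2, 112), (143, 112), (14, 13), (16, 15), (29, 24), (30, 25), (31, 26), (32, 27),
    (33, 28), (64, 54), (65, 55), (66, 56), (67, 57), (68, 58), (69, 59), (70, 60), (71, 61), (72, 62), (73, 63),
    (85, 84), (101, 96), (102, 97), (103, 98), (104, 99), (105, 100), (113, 107), (114, 108), (115, 109), (116, 110),
    (117, 111), (144, 138), (145, 139), (146, 140), (147, 141), (148, 142), (155, 150), (156, 151), (157, 152),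
    (158, 153), (159, 154), (171, 170), (192, 182), (193, 183), (194, 184), (195, 185), (196, 186), (197, 187),
    (198, 188), (199, 189), (200, 190), (201, 191), (227, 222), (228, 223), (229, 224), (230, 225), (231, 226),
    (240, 239), (242, 241)]),
  (136, [(144, 0), (144, 1), (144, 2), (144, 3), (144, 4), (2, 111), (3, 111), (144, 111), (14, 12), (17, 15),
    (29, 23), (34, 25), (35, 26), (36, 27), (37, 28), (64, 48), (65, 49), (66, 50), (67, 51), (68, 52), (69, 53),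
    (74, 60), (75, 61), (76, 62), (77, 63), (85, 83), (101, 92), (102, 93), (103, 94), (104, 95), (106, 100),
    (118, 107), (119, 108), (120, 109), (121, 110), (138, 112), (143, 117), (145, 134), (146, 135), (147, 136),
    (148, 137), (155, 149), (160, 151), (161, 152), (162, 153), (163, 154), (172, 170), (192, 178), (193, 179),
    (194, 180), (195, 181), (202, 186), (203, 187), (204, 188), (205, 189), (206, 190), (207, 191), (227, 218),
    (228, 219), (229, 220), (230, 221), (232, 226), (240, 238), (243, 241)]),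
  (141, [(149, 3), (1, 106), (149, 106), (15, 13), (16, 14), (23, 22), (44, 34), (45, 35), (46, 36), (47, 37),
    (48, 38), (49, 39), (50, 40), (51, 41), (52, 42), (53, 43), (79, 74), (80, 75), (81, 76), (82, 77), (83, 78),
    (107, 96), (108, 97), (109, 98), (110, 99), (111, 100), (113, 101), (114, 102), (115, 103), (116, 104),
    (117, 105), (150, 138), (151, 139), (152, 140), (153, 141), (154, 142), (155, 144), (156, 145), (157, 146),
    (158, 147), (159, 148), (177, 172), (178, 173), (179, 174), (180, 175), (181, 176), (212, 202), (213, 203),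
    (214, 204), (215, 205), (216, 206), (217, 207), (218, 208), (219, 209), (220, 210), (221, 211), (233, 232),
    (241, 239), (242, 240)]),
  (142, [(150, 1), (150, 2), (150, 3), (150, 4), (1, 105), (3, 105), (150, 105), (15, 12), (17, 14), (24, 22),
    (44, 30), (45, 31), (46, 32), (47, 33), (54, 38), (55, 39), (56, 40), (57, 41), (58, 42), (59, 43), (79, 70),
    (80, 71), (81, 72), (82, 73), (84, 78), (107, 92), (108, 93), (109, 94), (110, 95), (112, 100), (118, 101),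
    (119, 102), (120, 103), (121, 104), (138, 106), (149, 117), (151, 134), (152, 135), (153, 136), (154, 137),
    (155, 143), (160, 145), (161, 146), (162, 147), (163, 148), (177, 171), (182, 173), (183, 174), (184, 175),
    (185, 176), (212, 196), (213, 197), (214, 198), (215, 199), (216, 200), (217, 201), (222, 208), (223, 209),
    (224, 210), (225, 211), (233, 231), (241, 238), (243, 240)]),
  (162, [(170, 2), (0, 85), (170, 85), (22, 14), (23, 16), (24, 17), (25, 18), (26, 19), (27, 20), (28, 21),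
    (86, 64), (87, 65), (88, 66), (89, 67), (90, 68), (91, 69), (92, 70), (93, 71), (94, 72), (95, 73), (96, 74),
    (97, 75), (98, 76), (99, 77), (100, 78), (107, 79), (108, 80), (109, 81), (110, 82), (111, 83), (112, 84),
    (171, 143), (172, 144), (173, 145), (174, 146), (175, 147), (176, 148), (177, 155), (178, 156), (179, 157),
    (180, 158), (181, 159), (182, 160), (183, 161), (184, 162), (185, 163), (186, 164), (187, 165), (188, 166),
    (189, 167), (190, 168), (191, 169), (234, 227), (235, 228), (236, 229), (237, 230), (238, 231), (239, 232),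
    (241, 233)]),
  (163, [(171, 0), (171, 2), (171, 3), (0, 84), (2, 84), (171, 84), (22, 13), (23, 15), (29, 17), (30, 18), (31, 19),
    (32, 20), (33, 21), (86, 54), (87, 55), (88, 56), (89, 57), (90, 58), (91, 59), (92, 60), (93, 61), (94, 62),
    (95, 63), (101, 74), (102, 75), (103, 76), (104, 77), (105, 78), (113, 79), (114, 80), (115, 81), (116, 82),
    (117, 83), (143, 85), (170, 112), (172, 138), (173, 139), (174, 140), (175, 141), (176, 142), (177, 150),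
    (178, 151), (179, 152), (180, 153), (181, 154), (192, 160), (193, 161), (194, 162), (195, 163), (196, 164),
    (197, 165), (198, 166), (199, 167), (200, 168), (201, 169), (234, 222), (235, 223), (236, 224), (237, 225),
    (238, 226), (240, 232), (242, 233)]),
  (164, [(172, 0), (172, 1), (172, 3), (172, 4), (0, 83), (2, 83), (3, 83), (172, 83), (22, 12), (24, 15), (29, 16),
    (34, 18), (35, 19), (36, 20), (37, 21), (86, 48), (87, 49), (88, 50), (89, 51), (90, 52), (91, 53), (96, 60),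
    (97, 61), (98, 62), (99, 63), (101, 70), (102, 71), (103, 72), (104, 73), (106, 78), (118, 79), (119, 80),
    (120, 81), (121, 82), (138, 84), (144, 85), (170, 111), (171, 117), (173, 134), (174, 135), (175, 136),
    (176, 137), (177, 149), (182, 151), (183, 152), (184, 153), (185, 154), (192, 156), (193, 157), (194, 158),
    (195, 159), (202, 164), (203, 165), (204, 166), (205, 167), (206, 168), (207, 169), (234, 218), (235, 219),
    (236, 220), (237, 221), (239, 226), (240, 231), (243, 233)]),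
  (184, [(192, 2), (192, 5), (0, 63), (1, 63), (4, 63), (192, 63), (29, 11), (30, 12), (34, 13), (44, 15), (64, 19),
    (65, 20), (66, 21), (86, 26), (87, 27), (88, 28), (101, 41), (102, 42), (103, 43), (113, 51), (114, 52),
    (115, 53), (118, 57), (119, 58), (120, 59), (122, 60), (123, 61), (124, 62), (143, 73), (144, 77), (145, 78),
    (155, 82), (156, 83), (160, 84), (171, 95), (172, 99), (173, 100), (177, 110), (178, 111), (182, 112),
    (193, 131), (194, 132), (195, 133), (196, 135), (197, 136), (198, 137), (202, 140), (203, 141), (204, 142),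
    (212, 152), (213, 153), (214, 154), (227, 167), (228, 168), (229, 169), (234, 189), (235, 190), (236, 191),
    (240, 211), (242, 221), (243, 225), (244, 226)]),
  (194, [(202, 1), (202, 3), (202, 6), (0, 53), (1, 53), (3, 53), (5, 53), (202, 53), (34, 10), (35, 11), (38, 12),
    (54, 15), (64, 16), (74, 20), (75, 21), (86, 23), (96, 27), (97, 28), (101, 32), (102, 33), (106, 43), (118, 46),
    (119, 47), (122, 49), (123, 50), (125, 51), (126, 52), (138, 59), (139, 62), (140, 63), (144, 69), (145, 72),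
    (146, 73), (160, 81), (161, 82), (164, 83), (172, 91), (173, 94), (174, 95), (182, 109), (183, 110), (186, 111),
    (192, 115), (193, 116), (196, 117), (203, 129), (204, 130), (205, 132), (206, 133), (208, 136), (209, 137),
    (212, 149), (222, 153), (223, 154), (227, 158), (228, 159), (232, 169), (234, 180), (235, 181), (239, 191),
    (240, 201), (243, 217), (244, 220), (245, 221)]),
  (199, [(207, 1), (207, 3), (207, 4), (207, 6), (0, 48), (1, 48), (3, 48), (7, 48), (207, 48), (36, 8), (37, 9),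
    (43, 12), (59, 15), (69, 16), (76, 18), (77, 19), (91, 23), (98, 25), (99, 26), (103, 30), (104, 31), (106, 38),
    (120, 44), (121, 45), (129, 49), (130, 50), (132, 51), (133, 52), (138, 54), (141, 60), (142, 61), (144, 64),
    (147, 70), (148, 71), (162, 79), (163, 80), (169, 83), (172, 86), (175, 92), (176, 93), (184, 107), (185, 108),
    (191, 111), (194, 113), (195, 114), (201, 117), (203, 122), (204, 123), (205, 125), (206, 126), (210, 134),
    (211, 135), (217, 149), (224, 151), (225, 152), (229, 156), (230, 157), (232, 164), (236, 178), (237, 179),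
    (239, 186), (240, 196), (243, 212), (246, 218), (247, 219)]),
  (204, [(212, 1), (212, 6), (0, 43), (3, 43), (5, 43), (212, 43), (44, 10), (45, 11), (48, 12), (54, 13), (64, 14),
    (79, 20), (80, 21), (86, 22), (107, 27), (108, 28), (113, 32), (114, 33), (118, 36), (119, 37), (122, 39),
    (123, 40), (125, 41), (126, 42), (149, 53), (150, 59), (151, 62), (152, 63), (155, 69), (156, 72), (157, 73),
    (160, 76), (161, 77), (164, 78), (177, 91), (178, 94), (179, 95), (182, 98), (183, 99), (186, 100), (192, 103),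
    (193, 104), (196, 105), (202, 106), (213, 129), (214, 130), (215, 132), (216, 133), (218, 136), (219, 137),
    (222, 141), (223, 142), (227, 147), (228, 148), (233, 169), (234, 175), (235, 176), (241, 191), (242, 201),
    (243, 207), (244, 210), (245, 211)]),
  (212, [(220, 1), (220, 3), (220, 4), (220, 5), (220, 6), (0, 35), (3, 35), (4, 35), (7, 35), (220, 35), (49, 8),
    (50, 9), (53, 11), (62, 13), (72, 14), (81, 17), (83, 19), (94, 22), (109, 24), (111, 26), (115, 29), (117, 31),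
    (124, 34), (129, 36), (130, 37), (134, 38), (136, 41), (137, 42), (149, 45), (151, 54), (153, 57), (154, 58),
    (156, 64), (158, 67), (159, 68), (165, 74), (166, 75), (169, 77), (178, 86), (180, 89), (181, 90), (187, 96),
    (188, 97), (191, 99), (197, 101), (198, 102), (201, 104), (210, 106), (213, 118), (214, 119), (217, 121),
    (218, 125), (219, 126), (221, 131), (224, 138), (226, 140), (229, 144), (231, 146), (233, 161), (236, 172),
    (238, 174), (241, 183), (242, 193), (244, 202), (246, 205), (247, 206)]),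
  (238, [(246, 6), (246, 7), (1, 9), (4, 9), (6, 9), (7, 9), (246, 9), (127, 8), (129, 10), (132, 11), (136, 12),
    (141, 13), (147, 14), (153, 15), (158, 16), (162, 17), (165, 18), (167, 19), (169, 21), (175, 22), (180, 23),
    (184, 24), (187, 25), (189, 26), (191, 28), (194, 29), (197, 30), (199, 31), (201, 33), (203, 34), (205, 35),
    (207, 37), (208, 38), (210, 40), (211, 42), (213, 44), (215, 45), (217, 47), (218, 48), (220, 50), (221, 52),
    (222, 54), (224, 56), (225, 58), (226, 61), (227, 64), (229, 66), (230, 68), (231, 71), (232, 75), (233, 80),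
    (234, 86), (236, 88), (237, 90), (238, 93), (239, 97), (240, 102), (241, 108), (242, 114), (243, 119),
    (244, 123), (245, 126), (247, 128)]),
  (239, [(247, 7), (1, 8), (4, 8), (6, 8), (247, 8), (128, 9), (130, 10), (133, 11), (137, 12), (142, 13), (148, 14),
    (154, 15), (159, 16), (163, 17), (166, 18), (168, 19), (169, 20), (176, 22), (181, 23), (185, 24), (188, 25),
    (190, 26), (191, 27), (195, 29), (198, 30), (200, 31), (201, 32), (204, 34), (206, 35), (207, 36), (209, 38),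
    (210, 39), (211, 41), (214, 44), (216, 45), (217, 46), (219, 48), (220, 49), (221, 51), (223, 54), (224, 55),
    (225, 57), (226, 60), (228, 64), (229, 65), (230, 67), (231, 70), (232, 74), (233, 79), (235, 86), (236, 87),
    (237, 89), (238, 92), (239, 96), (240, 101), (241, 107), (242, 113), (243, 118), (244, 122), (245, 125),
    (246, 127)])]

/-- the roots of the factors -/
def kr : List (List ℕ) := [[120, 0, 1, 119, 239, 238], [162, 135, 163, 77, 104, 76], [126, 123, 127, 113, 116, 112], [141, 35, 45, 98, 204, 194]]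

/-- the words of order 7 -/
def tw : List (List ℕ) := [[120, 0, 238], [162, 135, 76], [126, 123, 112], [141, 35, 194]]

/-- the words of further elements -/
def xw : List (List ℕ) := [[90, 83, 164, 64, 142, 136, 184, 127, 184, 136, 142, 64, 164, 83, 90], [39, 33, 26, 110, 199, 194, 118, 212, 118, 194, 199, 110, 26, 33, 39]]

/-- commutator steps -/
def st : List (ℕ × ℕ × ℕ) :=
  (by
  refine (?fq9001 : ((pk61l (fun i1 => (_root_.Prod.mk (pk61d (nat_lit 8) 
    (nat_lit 0xc41a1a828282828282ce24248e8e8e8e8e8e7c7c7c7d7d7d0303035656564040404040403636363636363636365353533d3d3d797979797a7a7a7a7a7a0202020202020202333333333333333333333333cccccccccccccccccccccccccccccccccccccccccccccccccccccc7b7b7b7b7b7b7e7e7e7e7e7e87878787eeeeeeeeefefefefefefefef0202020202020202020202023333333333333333333333333333c2c2c2c2c2c2c2c2c2c2c2c2c2c2c2c2c2c2cccccccccccccccccccccccccccccccccccc7f7f7f7b7b7b7b7b7b7e7e7ea387eeef) i1) (_root_.Prod.mk (pk61d (nat_lit 8)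 
    (nat_lit 0xbfbfc0e65455df3e3fbfbfc0e65455df3e3fbcb29cbcb29cbcb29ced7576e55152ed7576e55152de3b3ced7576ed7576ed7576bcb29cb9bcb29cb9e2dbbcb29cb9e2dbe3dced7576e2dbece3dc72734e38cb2122615c46605fa78bcaa88cc71f200e061c1d8586055b455a44cad41f20292a606c5b45664a5b5a66650e060f081f0e061c290f0826c8c9a68ac5c6d2d3ab95cfd0c8c91ea68aa589d2d328ab95aa948081045741377c7d03564036533d797a02338081045741377c7d03564036533d797a0233797a02564036797a02533d3333330202) i1) (pk61d (nat_lit 8) 
    (nat_lit 0xe85d5ee75859e04243ea696ae96364e14748bfb59fc0b6a017120be65455c11819df3e3fb71314a10c0dda3435e55152de3b3cbdb39dbabeb49ebbe4dd16110a154f39503ad93132b09ad8b19b2f301009ed7576bcb29cb9b8e2dbece3dceb72734e386e6fd6d72eaf99ae98cbd521222b2c616d5c46674b605f6c6ba78bac96caa88cc7d4ad97d11f200e061c1d292a0f0826278586055b455a44919207664a6549c8c91ea68a84c5c61ba58983a488c3c41a82d2d328ab9590cfd025aa948fa993cdce248e8081045741377c7d03564036533d797a) i1)))) (nat_lit 0) (nat_lit 214)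 List.nil) : List (ℕ × ℕ × ℕ))
    = ?xq9001 → (List (ℕ × ℕ × ℕ))) ?hq9001; (case hq9001 => (set_option maxRecDepth 1000000 in set_option simprocs false in conv => lhs; reduce; dsimp only)); intro _; exact ?xq9001 : List (ℕ × ℕ × ℕ))

end Cfsg.Agent.H751.Two.DataE8
end

-- part: H751/Two/E8a
section
/-!
# `E₈(2)`, `p = 7`: the Sylow group (helper751, S2187)
-/

set_option autoImplicit false
set_option linter.dupNamespace false

namespace Cfsg.Agent.H751.Two.E8

open Cfsg Subgroup Cfsg.Lie Cfsg.Agent.H751.Two.Code Cfsg.Agent.H751.Two.Cert Cfsg.Agent.H751.Two.Frame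
  Cfsg.Agent.H751.Two.Bits Cfsg.Agent.H751.Two.Word Cfsg.Agent.ChevalleyStructure.Elts Cfsg.Agent.H818.Gen

universe u

theorem hD : InList chevE8 := by simp [InList]

/-- the words of order 7 -/
def T (i : ℕ) : List ℕ := DataE8.tw.getD i []
/-- the roots of the factors -/
def KR (i : ℕ) : List ℕ := DataE8.kr.getD i []
/-- a root of the factor -/
def y (i : ℕ) : ℕ := (KR i).getD 0 0
/-- positions at which `T i`, `y i` do not commute -/
def ps (i : ℕ) : ℕ × ℕ := [(1, 6), (0, 0), (4, 3), (0, 3)].getD i (0, 0)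

theorem okX : okT chevE8 DataE8.X = true := by (delta Cfsg.Agent.H751.Two.Code.okT Cfsg.Agent.H751.Two.Word.Xls Cfsg.Agent.H751.Two.Word.colC Cfsg.Agent.H751.Two.Word.colH Cfsg.Agent.H751.Two.Word.colN; rewrite [Cfsg.Agent.ChevFast.E8.chain, Cfsg.Agent.ChevFast.E8.coroot, Cfsg.Agent.ChevFast.E8.negA]; (try set_option simprocs false in simp -zeta only [Cfsg.Agent.ChevFast.E8.cartanR]); decide +kernel)

/-- equality of two words, by their codes -/
def eqW (a b : List ℕ) : Bool :=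
  okW DataE8.X a && okW DataE8.X b &&
    Nat.beq (wc (sz chevE8) DataE8.X a (idN (sz chevE8))) (wc (sz chevE8) DataE8.X b (idN (sz chevE8)))

/-- the codes of two words differ at a position -/
def neW (a b : List ℕ) (i j : ℕ) : Bool :=
  okW DataE8.X a && okW DataE8.X b && Nat.blt i (sz chevE8) && Nat.blt j (sz chevE8) &&
    ((wc (sz chevE8) DataE8.X a (idN (sz chevE8))).testBit (sz chevE8 * i + j) !=
      (wc (sz chevE8) DataE8.X b (idN (sz chevE8))).testBit (sz chevE8 * i + j))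

section

variable {F : Type u} [Field F] [CharP F 2]

theorem eq_of_eqW {a b : List ℕ} (h : eqW a b = true) : wG hD F a = wG hD F b := by
  unfold eqW at h
  simp only [Bool.and_eq_true] at h
  exact eq_of_code hD okX h.1.1 h.1.2 h.2

theorem ne_of_neW {a b : List ℕ} {i j : ℕ} (h : neW a b i j = true) : wG hD F a ≠ wG hD F b := by
  unfold neW at h
  simp only [Bool.and_eq_true] at h
  obtain ⟨⟨⟨⟨h1, h2⟩, h3⟩, h4⟩, h5⟩ := h
  exact ne_of_code hD okX h1 h2 (by simpa [Nat.blt_eq] using h3) (by simpa [Nat.blt_eq] using h4)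
    (by simpa only [bne_iff_ne, ne_eq] using h5)

end

theorem c_tt : ∀ i < 4, ∀ j < 4, i ≠ j → okCW chevE8 (T i) (T j) = true := by (delta Cfsg.Agent.H751.Two.Cert.okC Cfsg.Agent.H751.Two.Cert.okCW; rewrite [Cfsg.Agent.ChevFast.E8.commTerms, Cfsg.Agent.ChevFast.E8.neg]; decide +kernel)
theorem c_tk : ∀ i < 4, ∀ j < 4, i ≠ j → okCW chevE8 (T i) (KR j) = true := by (delta Cfsg.Agent.H751.Two.Cert.okC Cfsg.Agent.H751.Two.Cert.okCW; rewrite [Cfsg.Agent.ChevFast.E8.commTerms, Cfsg.Agent.ChevFast.E8.neg]; decide +kernel)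
theorem c_pw : ∀ i < 4, eqW (rep 7 (T i)) [] = true := by decide +kernel
theorem c_mem : ∀ i < 4, y i ∈ KR i := by decide +kernel
theorem c_ne : ∀ i < 4, neW (T i ++ [y i]) ([y i] ++ T i) (ps i).1 (ps i).2 = true := by decide +kernel

theorem fr (F : Type u) [Field F] [CharP F 2] : Fr hD F 7 4 T KR y where
  tt := c_tt
  tk := c_tk
  pw i hi := eq_of_eqW (c_pw i hi)
  mem := c_mem
  ne i hi := ne_of_neW (c_ne i hi)

theorem root_mem {F : Type u} [Field F] [Finite F] [CharP F 2] {i r : ℕ} (hi : i < 4) (hr : r ∈ KR i) :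
    wg hD F [r] ∈ GamP 7 hD F T 4 := by
  have : Fact (Nat.Prime 7) := ⟨by norm_num⟩
  exact (fr F).root_mem hi hr

theorem el_mem {F : Type u} [Field F] {i : ℕ} (hi : i < 4) : el hD F T i ∈ Seven.Pt (el hD F T) 4 := Seven.mem_Pt hi

end Cfsg.Agent.H751.Two.E8
end

private theorem dce_8458683510b4 : _root_.True := by
  try have : _root_.True := by simp only [_root_.Cfsg.Agent.H751.Two.Code.wG.congr_simp]
  try have : _root_.True := by simp only [_root_.Cfsg.Agent.H751.Two.Cert.run.eq_def]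
  try have : _root_.True := by simp only [_root_.Cfsg.Agent.H751.Two.Code.wg.congr_simp]
  try have : _root_.True := by simp only [_root_.Cfsg.Agent.H751.Two.Cert.okC._sparseCasesOn_1.else_eq]
  try have : _root_.True := by simp only [_root_.Cfsg.Agent.H751.Two.Cert.okT3._sparseCasesOn_1.else_eq]
  try have : _root_.True := by simp only [_root_.Cfsg.Agent.H751.Two.Cert.msk.eq_1]
  exact _root_.True.intro
end

-- part: H751/Two/Rows
section
prune_inst 0x343079044422020000000592f3003e46f60005b0002b8c01e5e10b460f88ef6389a02f20bdb013115bc8b2a55079c028135c00d90200000020203600411f00a090ab5246f3bdad0476009f801884000000000000000000000000000000000004000000000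
set_option linter.all false
open scoped Cfsg.Agent.FastGrp

-- part: H751/Two/DataE6
section
/-!
# Words in `E₆(2)` (helper751, S2187, `p = 7`)

`X` : the table of root elements; `kr` : the roots of a subsystem `A₂ × ⋯ × A₂` (six for each factor);
`tw` : words of order 7; `xw` : words of further elements; `st` : `x_k = [x_r, x_s]`.
-/

set_option autoImplicit false

namespace Cfsg.Agent.H751.Two.DataE6

open Cfsg.Agent.H751.Two.Bits

/-- the table of root elements -/
def X : List (ℕ × Sparse) := [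
  (0, [(6, 1), (0, 77), (3, 77), (5, 77), (6, 77), (7, 52), (8, 53), (9, 54), (10, 55), (11, 56), (12, 57), (13, 58),
    (14, 59), (15, 60), (16, 61), (22, 67), (23, 68), (24, 69), (25, 70), (26, 71), (27, 72), (28, 73), (29, 74),
    (30, 75), (31, 76)]),
  (1, [(7, 1), (7, 3), (0, 76), (1, 76), (3, 76), (5, 76), (7, 76), (6, 31), (8, 45), (9, 46), (10, 47), (11, 49),
    (12, 50), (13, 51), (17, 59), (18, 60), (19, 61), (22, 64), (23, 65), (24, 66), (32, 70), (33, 71), (34, 72),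
    (36, 73), (37, 74), (38, 75), (52, 77)]),
  (2, [(8, 2), (8, 3), (8, 4), (0, 75), (1, 75), (5, 75), (8, 75), (6, 30), (7, 38), (9, 43), (10, 44), (11, 48),
    (14, 50), (15, 51), (17, 57), (18, 58), (20, 61), (22, 63), (25, 65), (26, 66), (32, 68), (33, 69), (35, 72),
    (39, 73), (40, 74), (45, 76), (53, 77)]),
  (6, [(12, 0), (12, 2), (12, 3), (12, 4), (12, 5), (0, 71), (1, 71), (2, 71), (4, 71), (5, 71), (12, 71), (6, 26),
    (7, 33), (9, 35), (11, 40), (13, 42), (14, 45), (16, 47), (17, 53), (19, 55), (21, 60), (23, 62), (28, 64),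
    (30, 66), (36, 67), (38, 69), (41, 70), (43, 72), (48, 74), (50, 76), (57, 77)]),
  (14, [(20, 0), (20, 2), (20, 3), (0, 63), (2, 63), (20, 63), (8, 22), (9, 23), (10, 24), (14, 28), (15, 29),
    (16, 30), (17, 36), (18, 37), (19, 38), (21, 48), (35, 62), (45, 64), (46, 65), (47, 66), (53, 67), (54, 68),
    (55, 69), (59, 73), (60, 74), (61, 75)]),
  (15, [(21, 2), (0, 62), (21, 62), (11, 22), (12, 23), (13, 24), (14, 25), (15, 26), (16, 27), (17, 32), (18, 33),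
    (19, 34), (20, 35), (48, 63), (49, 64), (50, 65), (51, 66), (56, 67), (57, 68), (58, 69), (59, 70), (60, 71),
    (61, 72)]),
  (16, [(22, 0), (22, 4), (1, 61), (2, 61), (5, 61), (22, 61), (6, 16), (7, 19), (8, 20), (11, 21), (23, 43),
    (24, 44), (25, 46), (26, 47), (28, 50), (29, 51), (32, 54), (33, 55), (36, 57), (37, 58), (39, 59), (40, 60),
    (62, 72), (63, 75), (64, 76), (67, 77)]),
  (19, [(25, 0), (25, 1), (25, 2), (25, 3), (25, 5), (1, 58), (2, 58), (3, 58), (4, 58), (5, 58), (25, 58), (6, 13),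
    (8, 18), (9, 19), (14, 21), (22, 37), (23, 38), (26, 42), (27, 44), (28, 48), (31, 51), (32, 52), (35, 55),
    (39, 56), (41, 57), (45, 60), (46, 61), (62, 69), (64, 74), (65, 75), (70, 77)]),
  (25, [(31, 3), (1, 52), (31, 52), (6, 7), (14, 17), (15, 18), (16, 19), (25, 32), (26, 33), (27, 34), (28, 36),
    (29, 37), (30, 38), (45, 53), (46, 54), (47, 55), (49, 56), (50, 57), (51, 58), (64, 67), (65, 68), (66, 69),
    (76, 77)]),
  (29, [(35, 0), (35, 3), (2, 48), (35, 48), (8, 11), (9, 12), (10, 13), (20, 21), (25, 28), (26, 29), (27, 30),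
    (32, 36), (33, 37), (34, 38), (45, 49), (46, 50), (47, 51), (53, 56), (54, 57), (55, 58), (62, 63), (70, 73),
    (71, 74), (72, 75)]),
  (33, [(39, 3), (39, 4), (39, 5), (4, 44), (5, 44), (39, 44), (8, 10), (11, 13), (14, 16), (17, 19), (22, 24),
    (25, 27), (28, 30), (32, 34), (36, 38), (40, 42), (41, 43), (45, 47), (49, 51), (53, 55), (56, 58), (59, 61),
    (64, 66), (67, 69), (70, 72), (73, 75)]),
  (34, [(40, 3), (40, 5), (4, 43), (40, 43), (8, 9), (11, 12), (15, 16), (18, 19), (22, 23), (26, 27), (29, 30),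
    (33, 34), (37, 38), (39, 41), (42, 44), (45, 46), (49, 50), (53, 54), (56, 57), (60, 61), (64, 65), (67, 68),
    (71, 72), (74, 75)]),
  (35, [(41, 4), (5, 42), (41, 42), (9, 10), (12, 13), (14, 15), (17, 18), (23, 24), (25, 26), (28, 29), (32, 33),
    (36, 37), (39, 40), (43, 44), (46, 47), (50, 51), (54, 55), (57, 58), (59, 60), (65, 66), (68, 69), (70, 71),
    (73, 74)]),
  (36, [(42, 4), (5, 41), (42, 41), (10, 9), (13, 12), (15, 14), (18, 17), (24, 23), (26, 25), (29, 28), (33, 32),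
    (37, 36), (40, 39), (44, 43), (47, 46), (51, 50), (55, 54), (58, 57), (60, 59), (66, 65), (69, 68), (71, 70),
    (74, 73)]),
  (37, [(43, 3), (43, 5), (4, 40), (43, 40), (9, 8), (12, 11), (16, 15), (19, 18), (23, 22), (27, 26), (30, 29),
    (34, 33), (38, 37), (41, 39), (44, 42), (46, 45), (50, 49), (54, 53), (57, 56), (61, 60), (65, 64), (68, 67),
    (72, 71), (75, 74)]),
  (38, [(44, 3), (44, 4), (44, 5), (4, 39), (5, 39), (44, 39), (10, 8), (13, 11), (16, 14), (19, 17), (24, 22),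
    (27, 25), (30, 28), (34, 32), (38, 36), (42, 40), (43, 41), (47, 45), (51, 49), (55, 53), (58, 56), (61, 59),
    (66, 64), (69, 67), (72, 70), (75, 73)]),
  (42, [(48, 0), (48, 3), (2, 35), (48, 35), (11, 8), (12, 9), (13, 10), (21, 20), (28, 25), (29, 26), (30, 27),
    (36, 32), (37, 33), (38, 34), (49, 45), (50, 46), (51, 47), (56, 53), (57, 54), (58, 55), (63, 62), (73, 70),
    (74, 71), (75, 72)]),
  (43, [(49, 0), (49, 1), (49, 2), (49, 3), (49, 4), (2, 34), (3, 34), (49, 34), (11, 7), (14, 9), (15, 10),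
    (21, 19), (28, 23), (29, 24), (31, 27), (39, 32), (40, 33), (45, 35), (48, 38), (50, 43), (51, 44), (56, 52),
    (59, 54), (60, 55), (64, 62), (73, 68), (74, 69), (76, 72)]),
  (46, [(52, 3), (1, 31), (52, 31), (7, 6), (17, 14), (18, 15), (19, 16), (32, 25), (33, 26), (34, 27), (36, 28),
    (37, 29), (38, 30), (53, 45), (54, 46), (55, 47), (56, 49), (57, 50), (58, 51), (67, 64), (68, 65), (69, 66),
    (77, 76)]),
  (47, [(53, 1), (53, 2), (53, 3), (53, 4), (1, 30), (3, 30), (53, 30), (8, 6), (17, 12), (18, 13), (20, 16),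
    (32, 23), (33, 24), (35, 27), (39, 28), (40, 29), (45, 31), (52, 38), (54, 43), (55, 44), (56, 48), (59, 50),
    (60, 51), (67, 63), (70, 65), (71, 66), (77, 75)]),
  (56, [(62, 2), (0, 21), (62, 21), (22, 11), (23, 12), (24, 13), (25, 14), (26, 15), (27, 16), (32, 17), (33, 18),
    (34, 19), (35, 20), (63, 48), (64, 49), (65, 50), (66, 51), (67, 56), (68, 57), (69, 58), (70, 59), (71, 60),
    (72, 61)]),
  (57, [(63, 0), (63, 2), (63, 3), (0, 20), (2, 20), (63, 20), (22, 8), (23, 9), (24, 10), (28, 14), (29, 15),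
    (30, 16), (36, 17), (37, 18), (38, 19), (48, 21), (62, 35), (64, 45), (65, 46), (66, 47), (67, 53), (68, 54),
    (69, 55), (73, 59), (74, 60), (75, 61)]),
  (58, [(64, 0), (64, 1), (64, 3), (64, 4), (0, 19), (2, 19), (3, 19), (64, 19), (22, 7), (25, 9), (26, 10),
    (28, 12), (29, 13), (31, 16), (39, 17), (40, 18), (45, 20), (49, 21), (62, 34), (63, 38), (65, 43), (66, 44),
    (67, 52), (70, 54), (71, 55), (73, 57), (74, 58), (76, 61)]),
  (67, [(73, 2), (73, 5), (0, 10), (1, 10), (4, 10), (73, 10), (28, 6), (36, 7), (39, 8), (41, 9), (48, 13),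
    (49, 15), (50, 16), (56, 18), (57, 19), (59, 20), (63, 24), (64, 26), (65, 27), (67, 33), (68, 34), (70, 35),
    (74, 42), (75, 44), (76, 47), (77, 55)]),
  (70, [(76, 1), (76, 3), (0, 7), (1, 7), (3, 7), (5, 7), (76, 7), (31, 6), (45, 8), (46, 9), (47, 10), (49, 11),
    (50, 12), (51, 13), (59, 17), (60, 18), (61, 19), (64, 22), (65, 23), (66, 24), (70, 32), (71, 33), (72, 34),
    (73, 36), (74, 37), (75, 38), (77, 52)]),
  (71, [(77, 1), (0, 6), (3, 6), (5, 6), (77, 6), (52, 7), (53, 8), (54, 9), (55, 10), (56, 11), (57, 12), (58, 13),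
    (59, 14), (60, 15), (61, 16), (67, 22), (68, 23), (69, 24), (70, 25), (71, 26), (72, 27), (73, 28), (74, 29),
    (75, 30), (76, 31)])]

/-- the roots of the factors -/
def kr : List (List ℕ) := [[56, 42, 57, 15, 29, 14], [37, 36, 38, 34, 35, 33], [46, 0, 1, 25, 71, 70]]

/-- the words of order 7 -/
def tw : List (List ℕ) := [[56, 42, 14], [37, 36, 33], [46, 0, 70]]

/-- the words of further elements -/
def xw : List (List ℕ) := [[19, 16, 58, 6, 47, 43, 67, 38, 67, 43, 47, 6, 58, 16, 19]]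

/-- commutator steps -/
def st : List (ℕ × ℕ × ℕ) := [
  (42, 2, 5), (57, 2, 16), (37, 2, 3), (37, 5, 6), (37, 16, 17), (36, 3, 4), (36, 6, 7), (36, 17, 18), (71, 2, 47),
  (71, 5, 50), (71, 16, 61), (71, 3, 48), (71, 6, 51), (71, 17, 62), (71, 4, 49), (71, 7, 52), (71, 18, 63),
  (70, 2, 39), (70, 5, 43), (70, 16, 58), (70, 3, 40), (70, 6, 44), (70, 17, 59), (70, 4, 41), (70, 7, 45),
  (70, 18, 60), (2, 51, 11), (2, 62, 26), (2, 52, 12), (2, 63, 27), (2, 44, 8), (2, 59, 19), (2, 45, 9), (2, 60, 20),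
  (42, 26, 30), (42, 27, 31), (42, 19, 22), (42, 20, 23), (37, 12, 13), (37, 27, 28), (37, 9, 10), (37, 20, 21),
  (37, 31, 32), (37, 23, 24), (71, 8, 53), (71, 19, 64), (71, 9, 54), (71, 20, 65), (71, 22, 67), (71, 23, 68),
  (71, 10, 55), (71, 21, 66), (71, 24, 69)]

end Cfsg.Agent.H751.Two.DataE6
end

-- part: H751/Two/E6
section
/-!
# `E₆(2)`, `p = 7` (helper751, S2187)
-/

set_option autoImplicit false
set_option linter.dupNamespace false

namespace Cfsg.Agent.H751.Two.E6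

open Cfsg Subgroup Cfsg.Lie Cfsg.Agent.H751.Two.Code Cfsg.Agent.H751.Two.Cert Cfsg.Agent.H751.Two.Frame
  Cfsg.Agent.H751.Two.Bits Cfsg.Agent.H751.Two.Word Cfsg.Agent.ChevalleyStructure.Elts Cfsg.Agent.H818.Gen

universe u

theorem hD : InList chevE6 := by simp [InList]

/-- the words of order 7 -/
def T (i : ℕ) : List ℕ := DataE6.tw.getD i []
/-- the roots of the factors -/
def KR (i : ℕ) : List ℕ := DataE6.kr.getD i []
/-- a root of the factor -/
def y (i : ℕ) : ℕ := (KR i).getD 0 0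
/-- positions at which `T i`, `y i` do not commute -/
def ps (i : ℕ) : ℕ × ℕ := [(0, 0), (4, 3), (0, 3)].getD i (0, 0)

private theorem _root_.Cfsg.Agent.KO07696d4.e0.{ku, kv} {α : Type kv} {M : List α → Sort ku} (φ : ∀ l, M l) {z : M List.nil} {s : ∀ a l, M l → M (List.cons a l)} (h0 : φ List.nil = z) (hs : ∀ a l, φ (List.cons a l) = s a l (φ l)) (l : List α) : φ l = @List.rec α M z s l := List.rec h0 (fun a l ih => (hs a l).trans (congrArg (s a l) ih)) l
private noncomputable def _root_.Cfsg.Agent.KO07696d4.k1.{ku0} : type_of% @List.all.{ku0} := @(fun x0 x1 x2 => @List.rec.{(ku0+1), ku0} @x0 @(fun x3 => (@x0 → @Bool) → @Bool) @(fun x3 => @Bool.true) @(fun x3 x4 x5 x6 => @Bool.rec.{1} @(fun x7 => @Bool) @Bool.false (@x5 @x6) (@x6 @x3)) @x1 @x2)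
private theorem _root_.Cfsg.Agent.KO07696d4.e1.{ku0} : @List.all.{ku0} = @_root_.Cfsg.Agent.KO07696d4.k1.{ku0} := by delta _root_.Cfsg.Agent.KO07696d4.k1; funext a0 a1 a2; refine (congrFun (_root_.Cfsg.Agent.KO07696d4.e0 (fun a1 a2 => @List.all.{ku0} a0 a1 a2) ?_ (fun c0 c1 => ?_) a1) a2 :) <;> (rfl')
private noncomputable def _root_.Cfsg.Agent.KO07696d4.k2 : type_of% @Bool.and := @(fun x0 x1 => @Bool.rec.{1} @(fun x2 => @Bool) @Bool.false @x1 @x0)
private theorem _root_.Cfsg.Agent.KO07696d4.e2 : @Bool.and = @_root_.Cfsg.Agent.KO07696d4.k2 := by delta _root_.Cfsg.Agent.KO07696d4.k2; rfl'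
private noncomputable def _root_.Cfsg.Agent.KO07696d4.k3 : (by first | exact type_of% @Cfsg.Agent.H751.Two.Bits.okS | exact Unit : Sort _) := by first | (refine @Subtype.val _ (fun g => @Cfsg.Agent.H751.Two.Bits.okS = @g) (@Subtype.mk _ _ (@(fun x0 x1 => @Cfsg.Agent.KO07696d4.k1.{0} _ @x1 @(fun x2 => @Nat.ble (@Nat.succ (@Prod.snd.{0, 0} _ _ @x2)) @x0))) ?_); rewrite [← Cfsg.Agent.KO07696d4.e1.{0}]; rfl') | exact @Cfsg.Agent.H751.Two.Bits.okS | exact ()
private theorem _root_.Cfsg.Agent.KO07696d4.e3 : (by first | exact @Cfsg.Agent.H751.Two.Bits.okS = @_root_.Cfsg.Agent.KO07696d4.k3 | exact True : Prop) := by first | (delta _root_.Cfsg.Agent.KO07696d4.k3; exact @Subtype.property _ (fun g => @Cfsg.Agent.H751.Two.Bits.okS = @g) _) | rfl | trivial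
private noncomputable def _root_.Cfsg.Agent.KO07696d4.k4 : (by first | exact type_of% @Cfsg.Agent.H751.Two.Word.sz | exact Unit : Sort _) := by first | (refine @Subtype.val _ (fun g => @Cfsg.Agent.H751.Two.Word.sz = @g) (@Subtype.mk _ _ (@(fun x0 => @Nat.add (@Cfsg.Lie.ChevalleyDatum.rank @x0) (@Cfsg.Lie.ChevalleyDatum.nroots @x0))) ?_); rfl') | exact @Cfsg.Agent.H751.Two.Word.sz | exact ()
private theorem _root_.Cfsg.Agent.KO07696d4.e4 : (by first | exact @Cfsg.Agent.H751.Two.Word.sz = @_root_.Cfsg.Agent.KO07696d4.k4 | exact True : Prop) := by first | (delta _root_.Cfsg.Agent.KO07696d4.k4; exact @Subtype.property _ (fun g => @Cfsg.Agent.H751.Two.Word.sz = @g) _) | rfl | trivial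
private noncomputable def _root_.Cfsg.Agent.KO07696d4.k6 : (by first | exact type_of% @Cfsg.Agent.H751.Two.Code.beqS | exact Unit : Sort _) := by first | (refine @Subtype.val _ (fun g => @Cfsg.Agent.H751.Two.Code.beqS = @g) (@Subtype.mk _ _ (@(fun (x0 : @Cfsg.Agent.H751.Two.Bits.Sparse) (x1 : @Cfsg.Agent.H751.Two.Bits.Sparse) => @List.rec.{1, 0} (@Prod.{0, 0} @Nat @Nat) @(fun (x2 : @Cfsg.Agent.H751.Two.Bits.Sparse) => (@Cfsg.Agent.H751.Two.Bits.Sparse → @Bool)) @(fun (x2 : @Cfsg.Agent.H751.Two.Bits.Sparse) => @List.rec.{1, 0} (@Prod.{0, 0} @Nat @Nat) @(fun (x3 : @List.{0} (@Prod.{0, 0} @Nat @Nat)) => (((@Nat.hasNotBit (nat_lit 1) (@List.ctorIdx.{0} (@Prod.{0, 0} @Nat @Nat) @x3)) → @Bool) → @Bool)) @(fun (x3 : ((@Nat.hasNotBit (nat_lit 1) (@List.ctorIdx.{0} (@Prod.{0, 0} @Nat @Nat) (@List.nil.{0} (@Prod.{0, 0} @Nat @Nat)))) → @Bool)) => @Bool.true) @(fun (x3 : @Prod.{0, 0} @Nat @Nat) (x4 : @List.{0} (@Prod.{0, 0} @Nat @Nat)) (x5 : (((@Nat.hasNotBit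 (nat_lit 1) (@List.ctorIdx.{0} (@Prod.{0, 0} @Nat @Nat) @x4)) → @Bool) → @Bool)) (x6 : ((@Nat.hasNotBit (nat_lit 1) (@List.ctorIdx.{0} (@Prod.{0, 0} @Nat @Nat) (@List.cons.{0} (@Prod.{0, 0} @Nat @Nat) @x3 @x4))) → @Bool)) => @x6 (@Nat.ne_of_beq_eq_false (@Nat.land (@OfNat.ofNat.{0} @Nat (nat_lit 1) (@instOfNatNat (nat_lit 1))) (@Nat.shiftRight (nat_lit 1) (nat_lit 1))) (@OfNat.ofNat.{0} @Nat (nat_lit 1) (@instOfNatNat (nat_lit 1))) (@Eq.refl.{1} @Bool @Bool.false))) @x2 @(fun (x3 : @Nat.hasNotBit (nat_lit 1) (@List.ctorIdx.{0} (@Prod.{0, 0} @Nat @Nat) @x2)) => @Bool.false)) @(fun (x2 : @Prod.{0, 0} @Nat @Nat) (x3 : @List.{0} (@Prod.{0, 0} @Nat @Nat)) (x4 : (@Cfsg.Agent.H751.Two.Bits.Sparse → @Bool)) (x5 : @Cfsg.Agent.H751.Two.Bits.Sparse) => @List.rec.{1, 0} (@Prod.{0, 0} @Nat @Nat) @(fun (x6 : @List.{0} (@Prod.{0, 0} @Nat @Nat)) => (((@Nat.hasNotBit (nat_lit 2) (@List.ctorIdx.{0} (@Prod.{0, 0} @Nat @Nat) @x6)) → @Bool) → @Bool)) @(fun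 (x6 : ((@Nat.hasNotBit (nat_lit 2) (@List.ctorIdx.{0} (@Prod.{0, 0} @Nat @Nat) (@List.nil.{0} (@Prod.{0, 0} @Nat @Nat)))) → @Bool)) => @x6 (@Nat.ne_of_beq_eq_false (@Nat.land (@OfNat.ofNat.{0} @Nat (nat_lit 1) (@instOfNatNat (nat_lit 1))) (@Nat.shiftRight (nat_lit 2) (nat_lit 0))) (@OfNat.ofNat.{0} @Nat (nat_lit 1) (@instOfNatNat (nat_lit 1))) (@Eq.refl.{1} @Bool @Bool.false))) @(fun (x6 : @Prod.{0, 0} @Nat @Nat) (x7 : @List.{0} (@Prod.{0, 0} @Nat @Nat)) (x8 : (((@Nat.hasNotBit (nat_lit 2) (@List.ctorIdx.{0} (@Prod.{0, 0} @Nat @Nat) @x7)) → @Bool) → @Bool)) (x9 : ((@Nat.hasNotBit (nat_lit 2) (@List.ctorIdx.{0} (@Prod.{0, 0} @Nat @Nat) (@List.cons.{0} (@Prod.{0, 0} @Nat @Nat) @x6 @x7))) → @Bool)) => @Bool.rec.{1} @(fun (x10 : @Bool) => @Bool) @Bool.false (@x4 @x7) (@Bool.rec.{1} @(fun (x10 : @Bool) => @Bool) @Bool.false (@Nat.beq (@Prod.snd.{0, 0} @Nat @Nat @x2) (@Prod.snd.{0, 0} @Nat @Nat @x6)) (@Nat.beq (@Prod.fst.{0, 0} @Nat @Nat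 @x2) (@Prod.fst.{0, 0} @Nat @Nat @x6)))) @x5 @(fun (x6 : @Nat.hasNotBit (nat_lit 2) (@List.ctorIdx.{0} (@Prod.{0, 0} @Nat @Nat) @x5)) => @Bool.false)) @x0 @x1)) ?_); funext a0 a1; refine (congrFun (_root_.Cfsg.Agent.KO07696d4.e0 (fun a0 a1 => @Cfsg.Agent.H751.Two.Code.beqS a0 a1) ?_ (fun c0 c1 => ?_) a0) a1 :) <;> [(funext b0; (cases b0 with | @nil  => (rfl') | @cons b0_0 b0_1 => (rfl'))); (funext b0; (cases b0 with | @nil  => (rfl') | @cons b0_0 b0_1 => (rfl')))]) | exact @Cfsg.Agent.H751.Two.Code.beqS | exact ()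
private theorem _root_.Cfsg.Agent.KO07696d4.e6 : (by first | exact @Cfsg.Agent.H751.Two.Code.beqS = @_root_.Cfsg.Agent.KO07696d4.k6 | exact True : Prop) := by first | (delta _root_.Cfsg.Agent.KO07696d4.k6; exact @Subtype.property _ (fun g => @Cfsg.Agent.H751.Two.Code.beqS = @g) _) | rfl | trivial
private noncomputable def _root_.Cfsg.Agent.KO07696d4.k7.{ku0} : type_of% @List.append.{ku0} := @(fun x0 x1 x2 => @List.rec.{(ku0+1), ku0} @x0 @(fun x3 => (@List.{ku0} @x0) → @List.{ku0} @x0) @(fun x3 => @x3) @(fun x3 x4 x5 x6 => @x3 :: (@x5 @x6)) @x1 @x2)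
private theorem _root_.Cfsg.Agent.KO07696d4.e7.{ku0} : @List.append.{ku0} = @_root_.Cfsg.Agent.KO07696d4.k7.{ku0} := by delta _root_.Cfsg.Agent.KO07696d4.k7; funext a0 a1 a2; refine (congrFun (_root_.Cfsg.Agent.KO07696d4.e0 (fun a1 a2 => @List.append.{ku0} a0 a1 a2) ?_ (fun c0 c1 => ?_) a1) a2 :) <;> (rfl')
private noncomputable def _root_.Cfsg.Agent.KO07696d4.k8.{ku0} : type_of% @List.flatten.{ku0} := @(fun x0 x1 => @List.rec.{(ku0+1), ku0} (@List.{ku0} @x0) @(fun x2 => @List.{ku0} @x0) [] @(fun x2 x3 x4 => @Cfsg.Agent.KO07696d4.k7.{ku0} _ @x2 @x4) @x1)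
private theorem _root_.Cfsg.Agent.KO07696d4.e8.{ku0} : @List.flatten.{ku0} = @_root_.Cfsg.Agent.KO07696d4.k8.{ku0} := by delta _root_.Cfsg.Agent.KO07696d4.k8; rewrite [← Cfsg.Agent.KO07696d4.e7.{ku0}]; funext a0 a1; refine (_root_.Cfsg.Agent.KO07696d4.e0 (fun a1 => @List.flatten.{ku0} a0 a1) ?_ (fun c0 c1 => ?_) a1 :) <;> (rfl')
private noncomputable def _root_.Cfsg.Agent.KO07696d4.k9.{ku0, ku1} : type_of% @List.map.{ku0, ku1} := @(fun x0 x1 x2 x3 => @List.rec.{(ku1+1), ku0} @x0 @(fun x4 => @List.{ku1} @x1) [] @(fun x4 x5 x6 => (@x2 @x4) :: @x6) @x3)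
private theorem _root_.Cfsg.Agent.KO07696d4.e9.{ku0, ku1} : @List.map.{ku0, ku1} = @_root_.Cfsg.Agent.KO07696d4.k9.{ku0, ku1} := by delta _root_.Cfsg.Agent.KO07696d4.k9; funext a0 a1 a2 a3; refine (_root_.Cfsg.Agent.KO07696d4.e0 (fun a3 => @List.map.{ku0, ku1} a0 a1 a2 a3) ?_ (fun c0 c1 => ?_) a3 :) <;> (rfl')
private noncomputable def _root_.Cfsg.Agent.KO07696d4.k10.{ku0, ku1} : type_of% @List.flatMap.{ku0, ku1} := @(fun x0 x1 x2 x3 => @Cfsg.Agent.KO07696d4.k8.{ku1} _ (@Cfsg.Agent.KO07696d4.k9.{ku0, ku1} _ _ @x2 @x3))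
private theorem _root_.Cfsg.Agent.KO07696d4.e10.{ku0, ku1} : @List.flatMap.{ku0, ku1} = @_root_.Cfsg.Agent.KO07696d4.k10.{ku0, ku1} := by delta _root_.Cfsg.Agent.KO07696d4.k10; rewrite [← Cfsg.Agent.KO07696d4.e9.{ku0, ku1}, ← Cfsg.Agent.KO07696d4.e8.{ku1}]; rfl'
private noncomputable def _root_.Cfsg.Agent.KO07696d4.k11.{ku0} : type_of% @ite.{ku0} := @(fun x0 x1 x2 x3 x4 => @Decidable.rec.{ku0} _ @(fun x5 => @x0) @(fun x5 => @x4) @(fun x5 => @x3) @x2)
private theorem _root_.Cfsg.Agent.KO07696d4.e11.{ku0} : @ite.{ku0} = @_root_.Cfsg.Agent.KO07696d4.k11.{ku0} := by delta _root_.Cfsg.Agent.KO07696d4.k11; rfl'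
private noncomputable def _root_.Cfsg.Agent.KO07696d4.k12 : type_of% @instDecidableNot := @(fun x0 x1 => @Decidable.rec.{1} _ @(fun x2 => @Decidable (¬ @x0)) @(fun x2 => @Decidable.isTrue _ @x2) @(fun x2 => @Decidable.isFalse _ (@absurd.{0} _ _ @x2)) @x1)
private theorem _root_.Cfsg.Agent.KO07696d4.e12 : @instDecidableNot = @_root_.Cfsg.Agent.KO07696d4.k12 := by delta _root_.Cfsg.Agent.KO07696d4.k12; rfl'
private noncomputable def _root_.Cfsg.Agent.KO07696d4.k13 : type_of% @Nat.decEq := @(fun x0 x1 => @Bool.rec.{1} @(fun x2 => (@Eq.{1} _ (@Nat.beq @x0 @x1) @x2) → @Decidable (@Eq.{1} _ @x0 @x1)) @(fun x2 => @Decidable.isFalse _ (@Nat.ne_of_beq_eq_false _ _ @x2)) @(fun x2 => @Decidable.isTrue _ (@Nat.eq_of_beq_eq_true _ _ @x2)) (@Nat.beq @x0 @x1) (@Eq.refl.{1} _ (@Nat.beq @x0 @x1)))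
private theorem _root_.Cfsg.Agent.KO07696d4.e13 : @Nat.decEq = @_root_.Cfsg.Agent.KO07696d4.k13 := by delta _root_.Cfsg.Agent.KO07696d4.k13; rfl'
private noncomputable def _root_.Cfsg.Agent.KO07696d4.k14 : type_of% @Int.decEq := @(fun x0 x1 => @Int.rec.{1} @(fun x2 => @Decidable (@Eq.{1} _ @x2 @x1)) @(fun x2 => @Int.rec.{1} @(fun x3 => @Decidable (@Eq.{1} _ (@Int.ofNat @x2) @x3)) @(fun x3 => @Decidable.rec.{1} _ @(fun x4 => @Decidable (@Eq.{1} _ (@Int.ofNat @x2) (@Int.ofNat @x3))) @(fun x4 => @Decidable.isFalse _ (@Int.decEq._proof_2 @x2 @x3 @x4)) @(fun x4 => @Decidable.isTrue _ (@Int.decEq._proof_1 @x2 @x3 @x4)) (@Cfsg.Agent.KO07696d4.k13 @x2 @x3)) @(fun x3 => @Decidable.isFalse _ (@Int.decEq._proof_3 @x2 @x3)) @x1) @(fun x2 => @Int.rec.{1} @(fun x3 => @Decidable (@Eq.{1} _ (@Int.negSucc @x2) @x3)) @(fun x3 => @Decidable.isFalse _ (@Int.decEq._proof_4 @x2 @x3)) @(fun x3 => @Decidable.rec.{1} _ @(fun x4 => @Decidable (@Eq.{1} _ (@Int.negSucc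 @x2) (@Int.negSucc @x3))) @(fun x4 => @Decidable.isFalse _ (@Int.decEq._proof_6 @x2 @x3 @x4)) @(fun x4 => @Decidable.isTrue _ (@Int.decEq._proof_5 @x2 @x3 @x4)) (@Cfsg.Agent.KO07696d4.k13 @x2 @x3)) @x1) @x0)
private theorem _root_.Cfsg.Agent.KO07696d4.e14 : @Int.decEq = @_root_.Cfsg.Agent.KO07696d4.k14 := by delta _root_.Cfsg.Agent.KO07696d4.k14; rewrite [← Cfsg.Agent.KO07696d4.e13]; rfl'
private noncomputable def _root_.Cfsg.Agent.KO07696d4.k15 : type_of% @Int.instDecidableEq := @Cfsg.Agent.KO07696d4.k14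
private theorem _root_.Cfsg.Agent.KO07696d4.e15 : @Int.instDecidableEq = @_root_.Cfsg.Agent.KO07696d4.k15 := by delta _root_.Cfsg.Agent.KO07696d4.k15; rewrite [← Cfsg.Agent.KO07696d4.e14]; rfl'
private noncomputable def _root_.Cfsg.Agent.KO07696d4.k16 : (by first | exact type_of% @Cfsg.Agent.ChevFast.dz | exact Unit : Sort _) := by first | (refine @Subtype.val _ (fun g => @Cfsg.Agent.ChevFast.dz = @g) (@Subtype.mk _ _ (@(fun x0 => @Bool.rec.{1} @(fun x1 => ℤ) (@Int.ofNat (@Nat.shiftRight @x0 (nat_lit 1))) (@Int.negSucc (@Nat.shiftRight @x0 (nat_lit 1))) (@Nat.beq (@Nat.land @x0 (nat_lit 1)) (nat_lit 1)))) ?_); rfl') | exact @Cfsg.Agent.ChevFast.dz | exact ()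
private theorem _root_.Cfsg.Agent.KO07696d4.e16 : (by first | exact @Cfsg.Agent.ChevFast.dz = @_root_.Cfsg.Agent.KO07696d4.k16 | exact True : Prop) := by first | (delta _root_.Cfsg.Agent.KO07696d4.k16; exact @Subtype.property _ (fun g => @Cfsg.Agent.ChevFast.dz = @g) _) | rfl | trivial
private noncomputable def _root_.Cfsg.Agent.KO07696d4.k17 : (by first | exact type_of% @Cfsg.Agent.ChevFast.gz | exact Unit : Sort _) := by first | (refine @Subtype.val _ (fun g => @Cfsg.Agent.ChevFast.gz = @g) (@Subtype.mk _ _ (@(fun x0 x1 x2 x3 => @Cfsg.Agent.KO07696d4.k16 (@Nat.mod (@Nat.shiftRight (@Nat.mod (@Nat.shiftRight @x1 (@Nat.mul @x0 @x2)) (@Nat.pow (nat_lit 2) @x0)) (@Nat.mul (nat_lit 4) @x3)) (nat_lit 16)))) ?_); rewrite [← Cfsg.Agent.KO07696d4.e16]; (try delta Cfsg.Agent.ChevFast.gz); (try generalize @Cfsg.Agent.ChevFast.dz = g0); rfl') | exact @Cfsg.Agent.ChevFast.gz | exact ()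
private theorem _root_.Cfsg.Agent.KO07696d4.e17 : (by first | exact @Cfsg.Agent.ChevFast.gz = @_root_.Cfsg.Agent.KO07696d4.k17 | exact True : Prop) := by first | (delta _root_.Cfsg.Agent.KO07696d4.k17; exact @Subtype.property _ (fun g => @Cfsg.Agent.ChevFast.gz = @g) _) | rfl | trivial
private theorem _root_.Cfsg.Agent.KO07696d4.e18.{ku} {M : Nat → Sort ku} (φ : ∀ n, M n) {z : M Nat.zero} {s : ∀ n, M n → M (Nat.succ n)} (h0 : φ Nat.zero = z) (hs : ∀ n, φ (Nat.succ n) = s n (φ n)) (n : Nat) : φ n = @Nat.rec M z s n := Nat.rec h0 (fun n ih => (hs n).trans (congrArg (s n) ih)) n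
private noncomputable def _root_.Cfsg.Agent.KO07696d4.k19 : type_of% @List.range.loop := @(fun x0 x1 => @Nat.rec.{1} @(fun x2 => (@List.{0} ℕ) → @List.{0} ℕ) @(fun x2 => @x2) @(fun x2 x3 x4 => @x3 (@x2 :: @x4)) @x0 @x1)
private theorem _root_.Cfsg.Agent.KO07696d4.e19 : @List.range.loop = @_root_.Cfsg.Agent.KO07696d4.k19 := by delta _root_.Cfsg.Agent.KO07696d4.k19; funext a0 a1; refine (congrFun (_root_.Cfsg.Agent.KO07696d4.e18 (fun a0 a1 => @List.range.loop a0 a1) ?_ (fun c0 => ?_) a0) a1 :) <;> (rfl')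
private noncomputable def _root_.Cfsg.Agent.KO07696d4.k20 : type_of% @List.range := @(fun x0 => @Cfsg.Agent.KO07696d4.k19 @x0 [])
private theorem _root_.Cfsg.Agent.KO07696d4.e20 : @List.range = @_root_.Cfsg.Agent.KO07696d4.k20 := by delta _root_.Cfsg.Agent.KO07696d4.k20; rewrite [← Cfsg.Agent.KO07696d4.e19]; rfl'
private noncomputable def _root_.Cfsg.Agent.KO07696d4.k21 : type_of% @instDecidableEqNat := @Cfsg.Agent.KO07696d4.k13
private theorem _root_.Cfsg.Agent.KO07696d4.e21 : @instDecidableEqNat = @_root_.Cfsg.Agent.KO07696d4.k21 := by delta _root_.Cfsg.Agent.KO07696d4.k21; rewrite [← Cfsg.Agent.KO07696d4.e13]; rfl'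
private noncomputable def _root_.Cfsg.Agent.KO07696d4.k22.{ku0} : type_of% @cond.{ku0} := @(fun x0 x1 x2 x3 => @Bool.rec.{ku0} @(fun x4 => @x0) @x3 @x2 @x1)
private theorem _root_.Cfsg.Agent.KO07696d4.e22.{ku0} : @cond.{ku0} = @_root_.Cfsg.Agent.KO07696d4.k22.{ku0} := by delta _root_.Cfsg.Agent.KO07696d4.k22; rfl'
private noncomputable def _root_.Cfsg.Agent.KO07696d4.k26 : type_of% @Bool.decEq := @(fun x0 x1 => @Bool.rec.{1} @(fun x2 => @Decidable (@Eq.{1} _ @x2 @x1)) (@Bool.rec.{1} @(fun x2 => @Decidable (@Eq.{1} _ @Bool.false @x2)) (@Decidable.isTrue _ (@rfl.{1} _ _)) (@Decidable.isFalse _ @(fun x2 => @Bool.noConfusion.{0} _ _ _ @x2)) @x1) (@Bool.rec.{1} @(fun x2 => @Decidable (@Eq.{1} _ @Bool.true @x2)) (@Decidable.isFalse _ @(fun x2 => @Bool.noConfusion.{0} _ _ _ @x2)) (@Decidable.isTrue _ (@rfl.{1} _ _)) @x1) @x0)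
private theorem _root_.Cfsg.Agent.KO07696d4.e26 : @Bool.decEq = @_root_.Cfsg.Agent.KO07696d4.k26 := by delta _root_.Cfsg.Agent.KO07696d4.k26; rfl'
private noncomputable def _root_.Cfsg.Agent.KO07696d4.k27 : type_of% @Nat.decLe := @(fun x0 x1 => @Decidable.rec.{1} _ @(fun x2 => @Decidable (@LE.le.{0} _ _ @x0 @x1)) @(fun x2 => @Decidable.isFalse _ (@Nat.not_le_of_not_ble_eq_true _ _ @x2)) @(fun x2 => @Decidable.isTrue _ (@Nat.le_of_ble_eq_true _ _ @x2)) (@Cfsg.Agent.KO07696d4.k26 (@Nat.ble @x0 @x1) @Bool.true))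
private theorem _root_.Cfsg.Agent.KO07696d4.e27 : @Nat.decLe = @_root_.Cfsg.Agent.KO07696d4.k27 := by delta _root_.Cfsg.Agent.KO07696d4.k27; rewrite [← Cfsg.Agent.KO07696d4.e26]; rfl'
private noncomputable def _root_.Cfsg.Agent.KO07696d4.k28.{ku0} : type_of% @Array.getD.{ku0} := @(fun x0 x1 x2 x3 => @Decidable.rec.{(ku0+1)} _ @(fun x4 => @x0) @(fun x4 => @x3) @(fun x4 => @List.get.{ku0} _ (@Array.toList.{ku0} _ @x1) (@Fin.mk _ @x2 @x4)) (@Cfsg.Agent.KO07696d4.k27 (@Nat.succ @x2) (@List.length.{ku0} _ (@Array.toList.{ku0} _ @x1))))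
private theorem _root_.Cfsg.Agent.KO07696d4.e28.{ku0} : @Array.getD.{ku0} = @_root_.Cfsg.Agent.KO07696d4.k28.{ku0} := by delta _root_.Cfsg.Agent.KO07696d4.k28; rewrite [← Cfsg.Agent.KO07696d4.e27]; rfl'
private noncomputable def _root_.Cfsg.Agent.KO07696d4.k29.{ku0} : type_of% @List.filter.{ku0} := @(fun x0 x1 x2 => @List.rec.{(ku0+1), ku0} @x0 @(fun x3 => @List.{ku0} @x0) [] @(fun x3 x4 x5 => @Bool.rec.{(ku0+1)} @(fun x6 => @List.{ku0} @x0) @x5 (@x3 :: @x5) (@x1 @x3)) @x2)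
private theorem _root_.Cfsg.Agent.KO07696d4.e29.{ku0} : @List.filter.{ku0} = @_root_.Cfsg.Agent.KO07696d4.k29.{ku0} := by delta _root_.Cfsg.Agent.KO07696d4.k29; funext a0 a1 a2; refine (_root_.Cfsg.Agent.KO07696d4.e0 (fun a2 => @List.filter.{ku0} a0 a1 a2) ?_ (fun c0 c1 => ?_) a2 :) <;> (rfl')
private noncomputable def _root_.Cfsg.Agent.KO07696d4.k30 : type_of% @Decidable.decide := @(fun x0 x1 => @Decidable.rec.{1} _ @(fun x2 => @Bool) @(fun x2 => @Bool.false) @(fun x2 => @Bool.true) @x1)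
private theorem _root_.Cfsg.Agent.KO07696d4.e30 : @Decidable.decide = @_root_.Cfsg.Agent.KO07696d4.k30 := by delta _root_.Cfsg.Agent.KO07696d4.k30; rfl'
private noncomputable def _root_.Cfsg.Agent.KO07696d4.k31 : type_of% @instDecidableAnd := @(fun x0 x1 x2 x3 => @Decidable.rec.{1} _ @(fun x4 => @Decidable (@And @x0 @x1)) @(fun x4 => @Decidable.isFalse _ (@instDecidableAnd._proof_2 _ _ @x4)) @(fun x4 => @Decidable.rec.{1} _ @(fun x5 => @Decidable (@And @x0 @x1)) @(fun x5 => @Decidable.isFalse _ (@instDecidableAnd._proof_1 _ _ @x5)) @(fun x5 => @Decidable.isTrue _ (@And.intro _ _ @x4 @x5)) @x3) @x2)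
private theorem _root_.Cfsg.Agent.KO07696d4.e31 : @instDecidableAnd = @_root_.Cfsg.Agent.KO07696d4.k31 := by delta _root_.Cfsg.Agent.KO07696d4.k31; rfl'

theorem okX : okT chevE6 DataE6.X = true := by (delta Cfsg.Agent.H751.Two.Code.okT Cfsg.Agent.H751.Two.Word.Xls Cfsg.Agent.H751.Two.Word.colC Cfsg.Agent.H751.Two.Word.colH Cfsg.Agent.H751.Two.Word.colN; rewrite [Cfsg.Agent.ChevFast.E6.chain, Cfsg.Agent.ChevFast.E6.coroot, Cfsg.Agent.ChevFast.E6.negA]; (try set_option simprocs false in simp -zeta only [Cfsg.Agent.ChevFast.E6.cartanR]); (first | (rewrite [Cfsg.Agent.KO07696d4.e1.{0}, Cfsg.Agent.KO07696d4.e2, Cfsg.Agent.KO07696d4.e3, Cfsg.Agent.KO07696d4.e4, Cfsg.Agent.KO07696d4.e6, Cfsg.Agent.KO07696d4.e10.{0, 0}, Cfsg.Agent.KO07696d4.e11.{1}, Cfsg.Agent.KO07696d4.e12, Cfsg.Agent.KO07696d4.e15, Cfsg.Agent.KO07696d4.e17, Cfsg.Agent.KO07696d4.e20, Cfsg.Agent.KO07696d4.e21, Cfsg.Agent.KO07696d4.e22.{1}, Cfsg.Agent.KO07696d4.e28.{0}, Cfsg.Agent.KO07696d4.e29.{0},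 Cfsg.Agent.KO07696d4.e30, Cfsg.Agent.KO07696d4.e31]; decide +kernel) | decide +kernel))

/-- equality of two words, by their codes -/
def eqW (a b : List ℕ) : Bool :=
  okW DataE6.X a && okW DataE6.X b &&
    Nat.beq (wc (sz chevE6) DataE6.X a (idN (sz chevE6))) (wc (sz chevE6) DataE6.X b (idN (sz chevE6)))

/-- the codes of two words differ at a position -/
def neW (a b : List ℕ) (i j : ℕ) : Bool :=
  okW DataE6.X a && okW DataE6.X b && Nat.blt i (sz chevE6) && Nat.blt j (sz chevE6) &&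
    ((wc (sz chevE6) DataE6.X a (idN (sz chevE6))).testBit (sz chevE6 * i + j) !=
      (wc (sz chevE6) DataE6.X b (idN (sz chevE6))).testBit (sz chevE6 * i + j))

section

variable {F : Type u} [Field F] [CharP F 2]

theorem eq_of_eqW {a b : List ℕ} (h : eqW a b = true) : wG hD F a = wG hD F b := by
  unfold eqW at h
  simp only [Bool.and_eq_true] at h
  exact eq_of_code hD okX h.1.1 h.1.2 h.2

theorem ne_of_neW {a b : List ℕ} {i j : ℕ} (h : neW a b i j = true) : wG hD F a ≠ wG hD F b := by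
  unfold neW at h
  simp only [Bool.and_eq_true] at h
  obtain ⟨⟨⟨⟨h1, h2⟩, h3⟩, h4⟩, h5⟩ := h
  exact ne_of_code hD okX h1 h2 (by simpa [Nat.blt_eq] using h3) (by simpa [Nat.blt_eq] using h4)
    (by simpa only [bne_iff_ne, ne_eq] using h5)

end

theorem c_tt : ∀ i < 3, ∀ j < 3, i ≠ j → okCW chevE6 (T i) (T j) = true := by (delta Cfsg.Agent.H751.Two.Cert.okC Cfsg.Agent.H751.Two.Cert.okCW; rewrite [Cfsg.Agent.ChevFast.E6.commTerms, Cfsg.Agent.ChevFast.E6.neg]; decide +kernel)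
theorem c_tk : ∀ i < 3, ∀ j < 3, i ≠ j → okCW chevE6 (T i) (KR j) = true := by (delta Cfsg.Agent.H751.Two.Cert.okC Cfsg.Agent.H751.Two.Cert.okCW; rewrite [Cfsg.Agent.ChevFast.E6.commTerms, Cfsg.Agent.ChevFast.E6.neg]; decide +kernel)
theorem c_pw : ∀ i < 3, eqW (rep 7 (T i)) [] = true := by decide +kernel
theorem c_mem : ∀ i < 3, y i ∈ KR i := by decide +kernel
theorem c_ne : ∀ i < 3, neW (T i ++ [y i]) ([y i] ++ T i) (ps i).1 (ps i).2 = true := by decide +kernel

theorem fr (F : Type u) [Field F] [CharP F 2] : Fr hD F 7 3 T KR y where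
  tt := c_tt
  tk := c_tk
  pw i hi := eq_of_eqW (c_pw i hi)
  mem := c_mem
  ne i hi := ne_of_neW (c_ne i hi)

/-- the further element -/
def x : List ℕ := DataE6.xw.getD 0 []
def f1 : List ℕ := T 1 ++ (T 2).reverse
def f2 : List ℕ := T 0 ++ T 2

private noncomputable def _root_.Cfsg.Agent.KO07696d4.k34.{ku0, ku1} : type_of% @List.foldr.{ku0, ku1} := @(fun x0 x1 x2 x3 x4 => @List.rec.{(ku1+1), ku0} @x0 @(fun x5 => @x1) @x3 @(fun x5 x6 x7 => @x2 @x5 @x7) @x4)
private theorem _root_.Cfsg.Agent.KO07696d4.e34.{ku0, ku1} : @List.foldr.{ku0, ku1} = @_root_.Cfsg.Agent.KO07696d4.k34.{ku0, ku1} := by delta _root_.Cfsg.Agent.KO07696d4.k34; funext a0 a1 a2 a3 a4; refine (_root_.Cfsg.Agent.KO07696d4.e0 (fun a4 => @List.foldr.{ku0, ku1} a0 a1 a2 a3 a4) ?_ (fun c0 c1 => ?_) a4 :) <;> (rfl')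
private noncomputable def _root_.Cfsg.Agent.KO07696d4.k35 : (by first | exact type_of% @Cfsg.Agent.H751.Two.Bits.moveRow | exact Unit : Sort _) := by first | (refine @Subtype.val _ (fun g => @Cfsg.Agent.H751.Two.Bits.moveRow = @g) (@Subtype.mk _ _ (@(fun x0 x1 x2 x3 => @Nat.shiftLeft (@Nat.mod (@Nat.shiftRight @x1 (@Nat.mul @x0 @x3)) (@Nat.pow (nat_lit 2) @x0)) (@Nat.mul @x0 @x2))) ?_); rfl') | exact @Cfsg.Agent.H751.Two.Bits.moveRow | exact ()
private theorem _root_.Cfsg.Agent.KO07696d4.e35 : (by first | exact @Cfsg.Agent.H751.Two.Bits.moveRow = @_root_.Cfsg.Agent.KO07696d4.k35 | exact True : Prop) := by first | (delta _root_.Cfsg.Agent.KO07696d4.k35; exact @Subtype.property _ (fun g => @Cfsg.Agent.H751.Two.Bits.moveRow = @g) _) | rfl | trivial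
private noncomputable def _root_.Cfsg.Agent.KO07696d4.k36 : (by first | exact type_of% @Cfsg.Agent.H751.Two.Bits.lmul | exact Unit : Sort _) := by first | (refine @Subtype.val _ (fun g => @Cfsg.Agent.H751.Two.Bits.lmul = @g) (@Subtype.mk _ _ (@(fun x0 x1 x2 => @Decidable.rec.{1} _ @(fun x3 => ℕ) @(fun x3 => @Cfsg.Agent.KO07696d4.k34.{0, 0} _ _ @(fun x4 x5 => @Nat.xor @x5 (@Cfsg.Agent.KO07696d4.k35 @x0 @x2 (@Prod.fst.{0, 0} _ _ @x4) (@Prod.snd.{0, 0} _ _ @x4))) (nat_lit 0) @x1) @(fun x3 => @Eq.rec.{1, 1} ℕ (nat_lit 0) @(fun x4 x5 => ℕ) (nat_lit 0) @x2 (@Eq.symm.{1} _ _ _ @x3)) (@Cfsg.Agent.KO07696d4.k13 @x2 (nat_lit 0)))) ?_); rewrite [← Cfsg.Agent.KO07696d4.e13, ← Cfsg.Agent.KO07696d4.e35, ← Cfsg.Agent.KO07696d4.e34.{0, 0}]; (try delta Cfsg.Agent.H751.Two.Bits.lmul); (try generalize @Cfsg.Agent.H751.Two.Bits.moveRow = g0); rfl') | exact @Cfsg.Agent.H751.Two.Bits.lmul | exact ()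
private theorem _root_.Cfsg.Agent.KO07696d4.e36 : (by first | exact @Cfsg.Agent.H751.Two.Bits.lmul = @_root_.Cfsg.Agent.KO07696d4.k36 | exact True : Prop) := by first | (delta _root_.Cfsg.Agent.KO07696d4.k36; exact @Subtype.property _ (fun g => @Cfsg.Agent.H751.Two.Bits.lmul = @g) _) | rfl | trivial
private noncomputable def _root_.Cfsg.Agent.KO07696d4.k37 : (by first | exact type_of% @Cfsg.Agent.H751.Two.Code.look | exact Unit : Sort _) := by first | (refine @Subtype.val _ (fun g => @Cfsg.Agent.H751.Two.Code.look = @g) (@Subtype.mk _ _ (@(fun x0 x1 => @List.rec.{1, 0} (ℕ × @Cfsg.Agent.H751.Two.Bits.Sparse) @(fun x2 => @Cfsg.Agent.H751.Two.Bits.Sparse) [] @(fun x2 x3 x4 => @Bool.rec.{1} @(fun x5 => @Cfsg.Agent.H751.Two.Bits.Sparse) @x4 (@Prod.snd.{0, 0} _ _ @x2) (@Nat.beq (@Prod.fst.{0, 0} _ _ @x2) @x1)) @x0)) ?_); funext a0 a1; refine (_root_.Cfsg.Agent.KO07696d4.e0 (fun a0 => @Cfsg.Agent.H751.Two.Code.look a0 a1) ?_ (fun c0 c1 =>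 ?_) a0 :) <;> (rfl')) | exact @Cfsg.Agent.H751.Two.Code.look | exact ()
private theorem _root_.Cfsg.Agent.KO07696d4.e37 : (by first | exact @Cfsg.Agent.H751.Two.Code.look = @_root_.Cfsg.Agent.KO07696d4.k37 | exact True : Prop) := by first | (delta _root_.Cfsg.Agent.KO07696d4.k37; exact @Subtype.property _ (fun g => @Cfsg.Agent.H751.Two.Code.look = @g) _) | rfl | trivial
private noncomputable def _root_.Cfsg.Agent.KO07696d4.k38 : (by first | exact type_of% @Cfsg.Agent.H751.Two.Code.mulX | exact Unit : Sort _) := by first | (refine @Subtype.val _ (fun g => @Cfsg.Agent.H751.Two.Code.mulX = @g) (@Subtype.mk _ _ (@(fun x0 x1 x2 x3 => @Nat.xor @x3 (@Cfsg.Agent.KO07696d4.k36 @x0 (@Cfsg.Agent.KO07696d4.k37 @x1 @x2) @x3))) ?_); rewrite [← Cfsg.Agent.KO07696d4.e37, ← Cfsg.Agent.KO07696d4.e36]; (try delta Cfsg.Agent.H751.Two.Code.mulX); (try generalize @Cfsg.Agent.H751.Two.Bits.lmul = g0); (try generalize @Cfsg.Agent.H751.Two.Code.look = g1);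 rfl') | exact @Cfsg.Agent.H751.Two.Code.mulX | exact ()
private theorem _root_.Cfsg.Agent.KO07696d4.e38 : (by first | exact @Cfsg.Agent.H751.Two.Code.mulX = @_root_.Cfsg.Agent.KO07696d4.k38 | exact True : Prop) := by first | (delta _root_.Cfsg.Agent.KO07696d4.k38; exact @Subtype.property _ (fun g => @Cfsg.Agent.H751.Two.Code.mulX = @g) _) | rfl | trivial
private noncomputable def _root_.Cfsg.Agent.KO07696d4.k39 : (by first | exact type_of% @Cfsg.Agent.H751.Two.Bits.idN | exact Unit : Sort _) := by first | (refine @Subtype.val _ (fun g => @Cfsg.Agent.H751.Two.Bits.idN = @g) (@Subtype.mk _ _ (@(fun x0 => @Cfsg.Agent.KO07696d4.k34.{0, 0} _ _ @(fun x1 x2 => @Nat.xor @x2 (@Nat.shiftLeft (nat_lit 1) (@Nat.mul (@Nat.add @x0 (nat_lit 1)) @x1))) (nat_lit 0) (@Cfsg.Agent.KO07696d4.k19 @x0 []))) ?_); rewrite [← Cfsg.Agent.KO07696d4.e19, ← Cfsg.Agent.KO07696d4.e34.{0, 0}]; rfl') | exact @Cfsg.Agent.H751.Two.Bits.idN | exact ()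
private theorem _root_.Cfsg.Agent.KO07696d4.e39 : (by first | exact @Cfsg.Agent.H751.Two.Bits.idN = @_root_.Cfsg.Agent.KO07696d4.k39 | exact True : Prop) := by first | (delta _root_.Cfsg.Agent.KO07696d4.k39; exact @Subtype.property _ (fun g => @Cfsg.Agent.H751.Two.Bits.idN = @g) _) | rfl | trivial
private noncomputable def _root_.Cfsg.Agent.KO07696d4.k40 : (by first | exact type_of% @Cfsg.Agent.H751.Two.Code.hasR | exact Unit : Sort _) := by first | (refine @Subtype.val _ (fun g => @Cfsg.Agent.H751.Two.Code.hasR = @g) (@Subtype.mk _ _ (@(fun x0 x1 => @List.rec.{1, 0} (ℕ × @Cfsg.Agent.H751.Two.Bits.Sparse) @(fun x2 => @Bool) @Bool.false @(fun x2 x3 x4 => @Bool.rec.{1} @(fun x5 => @Bool) @x4 @Bool.true (@Nat.beq (@Prod.fst.{0, 0} _ _ @x2) @x1)) @x0)) ?_); funext a0 a1; refine (_root_.Cfsg.Agent.KO07696d4.e0 (fun a0 => @Cfsg.Agent.H751.Two.Code.hasR a0 a1) ?_ (fun c0 c1 => ?_) a0 :) <;> (rfl')) | exact @Cfsg.Agent.H751.Two.Code.hasR |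 exact ()
private theorem _root_.Cfsg.Agent.KO07696d4.e40 : (by first | exact @Cfsg.Agent.H751.Two.Code.hasR = @_root_.Cfsg.Agent.KO07696d4.k40 | exact True : Prop) := by first | (delta _root_.Cfsg.Agent.KO07696d4.k40; exact @Subtype.property _ (fun g => @Cfsg.Agent.H751.Two.Code.hasR = @g) _) | rfl | trivial
private noncomputable def _root_.Cfsg.Agent.KO07696d4.k41 : (by first | exact type_of% @Cfsg.Agent.H751.Two.E6.eqW | exact Unit : Sort _) := by first | (refine @Subtype.val _ (fun g => @Cfsg.Agent.H751.Two.E6.eqW = @g) (@Subtype.mk _ _ (@(fun x0 x1 => @Bool.rec.{1} @(fun x2 => @Bool) @Bool.false (@Nat.beq (@Cfsg.Agent.KO07696d4.k34.{0, 0} _ _ (@Cfsg.Agent.KO07696d4.k38 (@Cfsg.Agent.KO07696d4.k4 @Cfsg.Lie.chevE6) @Cfsg.Agent.H751.Two.DataE6.X) (@Cfsg.Agent.KO07696d4.k39 (@Cfsg.Agent.KO07696d4.k4 @Cfsg.Lie.chevE6)) @x0) (@Cfsg.Agent.KO07696d4.k34.{0, 0} _ _ (@Cfsg.Agent.KO07696d4.k38 (@Cfsg.Agent.KO07696d4.k4 @Cfsg.Lie.chevE6) @Cfsg.Agent.H751.Two.DataE6.X)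 (@Cfsg.Agent.KO07696d4.k39 (@Cfsg.Agent.KO07696d4.k4 @Cfsg.Lie.chevE6)) @x1)) (@Bool.rec.{1} @(fun x2 => @Bool) @Bool.false (@Cfsg.Agent.KO07696d4.k1.{0} _ @x1 (@Cfsg.Agent.KO07696d4.k40 @Cfsg.Agent.H751.Two.DataE6.X)) (@Cfsg.Agent.KO07696d4.k1.{0} _ @x0 (@Cfsg.Agent.KO07696d4.k40 @Cfsg.Agent.H751.Two.DataE6.X))))) ?_); rewrite [← Cfsg.Agent.KO07696d4.e40, ← Cfsg.Agent.KO07696d4.e1.{0}, ← Cfsg.Agent.KO07696d4.e39, ← Cfsg.Agent.KO07696d4.e4, ← Cfsg.Agent.KO07696d4.e38, ← Cfsg.Agent.KO07696d4.e34.{0, 0}]; (try delta Cfsg.Agent.H751.Two.E6.eqW Cfsg.Agent.H751.Two.Code.okW Cfsg.Agent.H751.Two.Code.wc); (try generalize @Cfsg.Agent.H751.Two.Code.mulX = g0); (try generalize @Cfsg.Agent.H751.Two.Word.sz = g1); (try generalize @Cfsg.Lie.chevE6 = g2); (try generalize @Cfsg.Agent.H751.Two.DataE6.X = g3); (try generalize @Cfsg.Agent.H751.Two.Bits.idN = g4); (try generalize @Cfsg.Agent.H751.Two.Code.hasR = g5); rfl') | exact @Cfsg.Agent.H751.Two.E6.eqW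 | exact ()
private theorem _root_.Cfsg.Agent.KO07696d4.e41 : (by first | exact @Cfsg.Agent.H751.Two.E6.eqW = @_root_.Cfsg.Agent.KO07696d4.k41 | exact True : Prop) := by first | (delta _root_.Cfsg.Agent.KO07696d4.k41; exact @Subtype.property _ (fun g => @Cfsg.Agent.H751.Two.E6.eqW = @g) _) | rfl | trivial
private noncomputable def _root_.Cfsg.Agent.KO07696d4.k44.{ku0} : type_of% @List.get?Internal.{ku0} := @(fun x0 x1 x2 => @List.rec.{(ku0+1), ku0} @x0 @(fun x3 => ℕ → @Option.{ku0} @x0) @(fun x3 => @Option.none.{ku0} _) @(fun x3 x4 x5 x6 => @Nat.rec.{(ku0+1)} @(fun x7 => @Option.{ku0} @x0) (@Option.some.{ku0} _ @x3) @(fun x7 x8 => @x5 @x7) @x6) @x1 @x2)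
private theorem _root_.Cfsg.Agent.KO07696d4.e44.{ku0} : @List.get?Internal.{ku0} = @_root_.Cfsg.Agent.KO07696d4.k44.{ku0} := by delta _root_.Cfsg.Agent.KO07696d4.k44; funext a0 a1 a2; refine (congrFun (_root_.Cfsg.Agent.KO07696d4.e0 (fun a1 a2 => @List.get?Internal.{ku0} a0 a1 a2) ?_ (fun c0 c1 => ?_) a1) a2 :) <;> [(funext b0; (rfl')); (funext b0; (cases b0 with | @zero  => (rfl') | @succ b0_0 => (rfl')))]
private noncomputable def _root_.Cfsg.Agent.KO07696d4.k45 : (by first | exact type_of% @Cfsg.Agent.H751.Two.E6.T | exact Unit : Sort _) := by first | (refine @Subtype.val _ (fun g => @Cfsg.Agent.H751.Two.E6.T = @g) (@Subtype.mk _ _ (@(fun x0 => @Option.rec.{1, 0} (@List.{0} ℕ) @(fun x1 => @List.{0} ℕ) [] @(fun x1 => @x1) (@Cfsg.Agent.KO07696d4.k44.{0} _ @Cfsg.Agent.H751.Two.DataE6.tw @x0))) ?_); rewrite [← Cfsg.Agent.KO07696d4.e44.{0}]; (try delta Cfsg.Agent.H751.Two.E6.T); (try generalize @Cfsg.Agent.H751.Two.DataE6.tw = g0); rfl')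 | exact @Cfsg.Agent.H751.Two.E6.T | exact ()
private theorem _root_.Cfsg.Agent.KO07696d4.e45 : (by first | exact @Cfsg.Agent.H751.Two.E6.T = @_root_.Cfsg.Agent.KO07696d4.k45 | exact True : Prop) := by first | (delta _root_.Cfsg.Agent.KO07696d4.k45; exact @Subtype.property _ (fun g => @Cfsg.Agent.H751.Two.E6.T = @g) _) | rfl | trivial
private noncomputable def _root_.Cfsg.Agent.KO07696d4.k46.{ku0} : type_of% @List.reverseAux.{ku0} := @(fun x0 x1 x2 => @List.rec.{(ku0+1), ku0} @x0 @(fun x3 => (@List.{ku0} @x0) → @List.{ku0} @x0) @(fun x3 => @x3) @(fun x3 x4 x5 x6 => @x5 (@x3 :: @x6)) @x1 @x2)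
private theorem _root_.Cfsg.Agent.KO07696d4.e46.{ku0} : @List.reverseAux.{ku0} = @_root_.Cfsg.Agent.KO07696d4.k46.{ku0} := by delta _root_.Cfsg.Agent.KO07696d4.k46; funext a0 a1 a2; refine (congrFun (_root_.Cfsg.Agent.KO07696d4.e0 (fun a1 a2 => @List.reverseAux.{ku0} a0 a1 a2) ?_ (fun c0 c1 => ?_) a1) a2 :) <;> (rfl')
private noncomputable def _root_.Cfsg.Agent.KO07696d4.k47.{ku0} : type_of% @List.reverse.{ku0} := @(fun x0 x1 => @Cfsg.Agent.KO07696d4.k46.{ku0} _ @x1 [])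
private theorem _root_.Cfsg.Agent.KO07696d4.e47.{ku0} : @List.reverse.{ku0} = @_root_.Cfsg.Agent.KO07696d4.k47.{ku0} := by delta _root_.Cfsg.Agent.KO07696d4.k47; rewrite [← Cfsg.Agent.KO07696d4.e46.{ku0}]; rfl'
private noncomputable def _root_.Cfsg.Agent.KO07696d4.k48.{ku0} : type_of% @List.getD.{ku0} := @(fun x0 x1 x2 x3 => @Option.rec.{(ku0+1), ku0} @x0 @(fun x4 => @x0) @x3 @(fun x4 => @x4) (@Cfsg.Agent.KO07696d4.k44.{ku0} _ @x1 @x2))
private theorem _root_.Cfsg.Agent.KO07696d4.e48.{ku0} : @List.getD.{ku0} = @_root_.Cfsg.Agent.KO07696d4.k48.{ku0} := by delta _root_.Cfsg.Agent.KO07696d4.k48; rewrite [← Cfsg.Agent.KO07696d4.e44.{ku0}]; rfl'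

theorem c_x1 : eqW (f1 ++ x) (x ++ f1) = true := by (first | (delta Cfsg.Agent.H751.Two.E6.f1 Cfsg.Agent.H751.Two.E6.x; rewrite [Cfsg.Agent.KO07696d4.e41, Cfsg.Agent.KO07696d4.e45, Cfsg.Agent.KO07696d4.e47.{0}, Cfsg.Agent.KO07696d4.e48.{0}]; decide +kernel) | decide +kernel)
theorem c_x2 : eqW (f2 ++ x) (x ++ f2) = true := by (first | (delta Cfsg.Agent.H751.Two.E6.f2 Cfsg.Agent.H751.Two.E6.x; rewrite [Cfsg.Agent.KO07696d4.e41, Cfsg.Agent.KO07696d4.e45, Cfsg.Agent.KO07696d4.e48.{0}]; decide +kernel) | decide +kernel)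

/-- the letters of the relation -/
def uu : List ℕ := x ++ ([15, 0] ++ (x ++ ([0, 15] ++ x)))

theorem c_rel : eqW ([29] ++ (uu ++ ([29] ++ uu))) [2] = true := by (first | (delta Cfsg.Agent.H751.Two.E6.uu Cfsg.Agent.H751.Two.E6.x; rewrite [Cfsg.Agent.KO07696d4.e41, Cfsg.Agent.KO07696d4.e48.{0}]; decide +kernel) | decide +kernel)

theorem c_run : run chevE6 (msk (2 :: (KR 0 ++ (KR 1 ++ KR 2)))) DataE6.st = true := by (delta Cfsg.Agent.H751.Two.Cert.okT3 Cfsg.Agent.H751.Two.Cert.run Cfsg.Agent.H751.Two.Cert.run._f; rewrite [Cfsg.Agent.ChevFast.E6.commTerms, Cfsg.Agent.ChevFast.E6.neg]; decide +kernel)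

section

variable {F : Type u} [Field F] [Finite F]

theorem x_mem [CharP F 2] : wg hD F x ∈ GamP 7 hD F T 3 := by
  have : Fact (Nat.Prime 7) := ⟨by norm_num⟩
  have h0 : el hD F T 0 ∈ Seven.Pt (el hD F T) 3 := Seven.mem_Pt (by norm_num)
  have h1 : el hD F T 1 ∈ Seven.Pt (el hD F T) 3 := Seven.mem_Pt (by norm_num)
  have h2 : el hD F T 2 ∈ Seven.Pt (el hD F T) 3 := Seven.mem_Pt (by norm_num)
  have e1 : wg hD F f1 = el hD F T 1 * (el hD F T 2)⁻¹ := by
    show wg hD F (T 1 ++ (T 2).reverse) = wg hD F (T 1) * (wg hD F (T 2))⁻¹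
    rw [wg_append, wg_inv]
  have e2 : wg hD F f2 = el hD F T 0 * el hD F T 2 := wg_append hD F _ _
  refine (fr F).word_mem (a := 2) (by norm_num) (F0 := {wg hD F f1, wg hD F f2}) ?_ ?_ ?_
  · rintro f (rfl | rfl)
    · rw [e1]; exact mul_mem h1 (inv_mem h2)
    · rw [e2]; exact mul_mem h0 h2
  · have g1 : wg hD F f1 ∈ closure ({wg hD F f1, wg hD F f2} : Set ↥(chevE6.group F)) ⊔ zpowers (el hD F T 2) :=
      mem_sup_left (subset_closure (Or.inl rfl))
    have g2 : wg hD F f2 ∈ closure ({wg hD F f1, wg hD F f2} : Set ↥(chevE6.group F)) ⊔ zpowers (el hD F T 2) :=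
      mem_sup_left (subset_closure (Or.inr rfl))
    have g3 : el hD F T 2 ∈ closure ({wg hD F f1, wg hD F f2} : Set ↥(chevE6.group F)) ⊔ zpowers (el hD F T 2) :=
      mem_sup_right (mem_zpowers _)
    intro j hj
    have hj' : j = 0 ∨ j = 1 ∨ j = 2 := by omega
    rcases hj' with rfl | rfl | rfl
    · have q : el hD F T 0 = wg hD F f2 * (el hD F T 2)⁻¹ := by rw [e2, mul_inv_cancel_right]
      rw [q]; exact mul_mem g2 (inv_mem g3)
    · have q : el hD F T 1 = wg hD F f1 * el hD F T 2 := by rw [e1, inv_mul_cancel_right]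
      rw [q]; exact mul_mem g1 g3
    · exact g3
  · rintro f (rfl | rfl)
    · exact commute_of_eq hD F (eq_of_eqW c_x1)
    · exact commute_of_eq hD F (eq_of_eqW c_x2)

theorem root_mem [CharP F 2] {i r : ℕ} (hi : i < 3) (hr : r ∈ KR i) : wg hD F [r] ∈ GamP 7 hD F T 3 := by
  have : Fact (Nat.Prime 7) := ⟨by norm_num⟩
  exact (fr F).root_mem hi hr

theorem two_mem [CharP F 2] : wg hD F [2] ∈ GamP 7 hD F T 3 := by
  have h29 : wg hD F [29] ∈ GamP 7 hD F T 3 := root_mem (i := 0) (by norm_num) (by decide)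
  have h15 : wg hD F [15] ∈ GamP 7 hD F T 3 := root_mem (i := 0) (by norm_num) (by decide)
  have h0 : wg hD F [0] ∈ GamP 7 hD F T 3 := root_mem (i := 2) (by norm_num) (by decide)
  have ha : wg hD F [15, 0] ∈ GamP 7 hD F T 3 := by
    have : wg hD F [15, 0] = wg hD F [15] * wg hD F [0] := wg_append hD F [15] [0]
    rw [this]; exact mul_mem h15 h0
  have hb : wg hD F [0, 15] ∈ GamP 7 hD F T 3 := by
    have : wg hD F [0, 15] = wg hD F [0] * wg hD F [15] := wg_append hD F [0] [15]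
    rw [this]; exact mul_mem h0 h15
  have hx := x_mem (F := F)
  have hu : wg hD F uu ∈ GamP 7 hD F T 3 := by
    unfold uu
    rw [wg_append, wg_append, wg_append, wg_append]
    exact mul_mem hx (mul_mem ha (mul_mem hx (mul_mem hb hx)))
  have h : wg hD F [2] = wg hD F ([29] ++ (uu ++ ([29] ++ uu))) := Subtype.ext (eq_of_eqW c_rel).symm
  rw [h, wg_append, wg_append, wg_append]
  exact mul_mem h29 (mul_mem hu (mul_mem h29 hu))

theorem gamP_eq_top [CharP F 2] (hF : Nat.card F = 2) : GamP 7 hD F T 3 = ⊤ := by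
  refine eq_top_of_run hD hF _ _ c_run ?_
  intro r hr
  have h := mem_of_msk hr
  rcases List.mem_cons.1 h with rfl | h
  · exact two_mem
  rcases List.mem_append.1 h with h | h
  · exact root_mem (i := 0) (by norm_num) h
  rcases List.mem_append.1 h with h | h
  · exact root_mem (i := 1) (by norm_num) h
  · exact root_mem (i := 2) (by norm_num) h

end

/-- **`E₆(2)`, `p = 7`** -/
theorem gen_E6_two {F : Type u} [Field F] (hF : Nat.card F = 2) : Gen 7 ↥(chevE6.group F) := by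
  have : Finite F := Nat.finite_of_card_ne_zero (by rw [hF]; norm_num)
  have hft := Fintype.ofFinite F
  have : CharP F 2 := Cfsg.Agent.H810.StrP.charP_two hF
  have : Fact (Nat.Prime 2) := ⟨by norm_num⟩
  have : Fact (Nat.Prime 7) := ⟨by norm_num⟩
  have hF' : Fintype.card F = 2 := by rw [← Nat.card_eq_fintype_card, hF]
  have hout := Cfsg.Agent.S2123.result (F := F) 2 1 (by rw [hF', pow_one])
  have hcard := Cfsg.Agent.S1063.result (F := F) hF'
  refine (fr F).gen (m := 2 * Nat.gcd 3 (2 ^ 1 - 1) * 1) (by norm_num) hout ?_ (gamP_eq_top hF)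
  intro h
  have h1 : 7 ^ 4 ∣ Nat.gcd 3 (2 - 1) * Nat.card ↥(chevE6.group F) := dvd_mul_of_dvd_right h _
  rw [hcard] at h1
  revert h1
  norm_num

end Cfsg.Agent.H751.Two.E6
end

-- part: H751/Two/E7
section
/-!
# `E₇(2)`, `p = 7` (helper751, S2187): the parabolic subgroup of type `E₆` has index prime to 7
-/

set_option autoImplicit false
set_option maxRecDepth 100000

namespace Cfsg.Agent.H751.Two.E7

open Cfsg Subgroup Cfsg.Lie Cfsg.Agent.H818.Gen Cfsg.Agent.H751.Two.Rank Cfsg.Agent.H134.StrP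
  Cfsg.Agent.ChevalleyStructure.CoxeterGeom Cfsg.Agent.H35.ExcIdx Cfsg.Agent.Nodes.StabComb
  Cfsg.Agent.Nodes.LeviDec Cfsg.Agent.Nodes.BNOf Cfsg.Agent.ChevalleyStructure.CoxeterGeomTypes
  Cfsg.Agent.Nodes.RGDChev Cfsg.Agent.KFacts.RgdCharP
  Cfsg.Agent.H111.Fpf.SevenPar

/-- **`E₇(2)`, `p = 7`** -/
theorem gen_E7_two {F : Type} [Field F] (hF : Nat.card F = 2) : Gen 7 ↥(chevE7.group F) := by
  have : Finite F := Nat.finite_of_card_ne_zero (by rw [hF]; norm_num)
  have hft := Fintype.ofFinite F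
  have : CharP F 2 := Cfsg.Agent.H810.StrP.charP_two hF
  have : Fact (Nat.Prime 2) := ⟨Nat.prime_two⟩
  have : Fact (Nat.Prime 7) := ⟨by norm_num⟩
  have hF' : Fintype.card F = 2 := by rw [← Nat.card_eq_fintype_card, hF]
  have h := Ex2.E7 hF'
  have := h.simple
  have := finite_W h.ty CoxeterMatrix.E₇.toCoxeterSystem
  have hz := H240.GenTwF.center_bot h.nc
  have hout : Nat.card (Out ↥(chevE7.group F)) = 1 :=
    (Cfsg.Agent.S2124.result (F := F) 2 1 (by rw [hF', pow_one])).trans (by norm_num)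
  have h1 := h.pcard_tab tabA_ok (J' := [0, 1, 2, 3, 4]) (by decide +kernel)
    (h.pcard_tab tabB_ok (J' := [0, 1, 2, 3]) (by decide +kernel) (h.pcard_path path_a h.pcard_nil))
  have h2 := h.index_mul h1 (P := (2 ^ 2 - 1) * (2 ^ 6 - 1) * (2 ^ 8 - 1) * (2 ^ 10 - 1) * (2 ^ 12 - 1) * (2 ^ 14 - 1) *
    (2 ^ 18 - 1)) (by
      refine ⟨63, ?_⟩
      have h1 := Cfsg.Agent.S1064.result hF'
      norm_num at h1 ⊢
      exact h1) (by norm_num)
  have hidx : ¬ 7 ∣ (PJ CoxeterMatrix.E₇.toCoxeterSystem h.ty.isCartan (TT chevE7 F) (XX chevE7 7 F)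
      {j | j ∈ ([0, 1, 2, 3, 4, 5] : List (Fin 7))}).index := by
    rw [sum_a, sum_b, show ([0, 2, 3, 1] : List (Fin 7)).length = 4 from rfl, fa_four] at h2
    intro h3
    obtain ⟨c, hc⟩ := h3
    rw [hc] at h2
    norm_num at h2
    omega
  exact gen_of_index (r := 2) h.filt h.nonab (by decide) hz (by rw [hout]; decide)
    (isPGroup_VJ h.rgdK {j | j ∈ ([0, 1, 2, 3, 4, 5] : List (Fin 7))})
    (VJ_ne_bot h.rgdK ⟨6, by decide⟩) (PJ_le_normalizer_VJ h.rgdK _) hidx

end Cfsg.Agent.H751.Two.E7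
end

-- part: H751/Two/E8b
section
/-!
# `E₈(2)`, `p = 7`: the first element (helper751, S2187)
-/

set_option autoImplicit false
set_option linter.dupNamespace false

namespace Cfsg.Agent.H751.Two.E8

open Cfsg Subgroup Cfsg.Lie Cfsg.Agent.H751.Two.Code Cfsg.Agent.H751.Two.Cert Cfsg.Agent.H751.Two.Frame
  Cfsg.Agent.H751.Two.Bits Cfsg.Agent.H751.Two.Word Cfsg.Agent.ChevalleyStructure.Elts Cfsg.Agent.H818.Gen

universe u

/-- the first further element -/
def x1 : List ℕ := DataE8.xw.getD 0 []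
def f1 : List ℕ := T 2 ++ (T 3).reverse
def f2 : List ℕ := T 1 ++ T 3

private noncomputable def _root_.Cfsg.Agent.KO07696d4.k49 : (by first | exact type_of% @Cfsg.Agent.H751.Two.E8.eqW | exact Unit : Sort _) := by first | (refine @Subtype.val _ (fun g => @Cfsg.Agent.H751.Two.E8.eqW = @g) (@Subtype.mk _ _ (@(fun x0 x1 => @Bool.rec.{1} @(fun x2 => @Bool) @Bool.false (@Nat.beq (@Cfsg.Agent.KO07696d4.k34.{0, 0} _ _ (@Cfsg.Agent.KO07696d4.k38 (@Cfsg.Agent.KO07696d4.k4 @Cfsg.Lie.chevE8) @Cfsg.Agent.H751.Two.DataE8.X) (@Cfsg.Agent.KO07696d4.k39 (@Cfsg.Agent.KO07696d4.k4 @Cfsg.Lie.chevE8)) @x0) (@Cfsg.Agent.KO07696d4.k34.{0, 0} _ _ (@Cfsg.Agent.KO07696d4.k38 (@Cfsg.Agent.KO07696d4.k4 @Cfsg.Lie.chevE8) @Cfsg.Agent.H751.Two.DataE8.X) (@Cfsg.Agent.KO07696d4.k39 (@Cfsg.Agent.KO07696d4.k4 @Cfsg.Lie.chevE8)) @x1)) (@Bool.rec.{1} @(fun x2 => @Bool) @Bool.false (@Cfsg.Agent.KO07696d4.k1.{0} _ @x1 (@Cfsg.Agent.KO07696d4.k40 @Cfsg.Agent.H751.Two.DataE8.X))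 (@Cfsg.Agent.KO07696d4.k1.{0} _ @x0 (@Cfsg.Agent.KO07696d4.k40 @Cfsg.Agent.H751.Two.DataE8.X))))) ?_); rewrite [← Cfsg.Agent.KO07696d4.e40, ← Cfsg.Agent.KO07696d4.e1.{0}, ← Cfsg.Agent.KO07696d4.e39, ← Cfsg.Agent.KO07696d4.e4, ← Cfsg.Agent.KO07696d4.e38, ← Cfsg.Agent.KO07696d4.e34.{0, 0}]; (try delta Cfsg.Agent.H751.Two.E8.eqW Cfsg.Agent.H751.Two.Code.okW Cfsg.Agent.H751.Two.Code.wc); (try generalize @Cfsg.Agent.H751.Two.Code.mulX = g0); (try generalize @Cfsg.Agent.H751.Two.Word.sz = g1); (try generalize @Cfsg.Lie.chevE8 = g2); (try generalize @Cfsg.Agent.H751.Two.DataE8.X = g3); (try generalize @Cfsg.Agent.H751.Two.Bits.idN = g4); (try generalize @Cfsg.Agent.H751.Two.Code.hasR = g5); rfl') | exact @Cfsg.Agent.H751.Two.E8.eqW | exact ()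
private theorem _root_.Cfsg.Agent.KO07696d4.e49 : (by first | exact @Cfsg.Agent.H751.Two.E8.eqW = @_root_.Cfsg.Agent.KO07696d4.k49 | exact True : Prop) := by first | (delta _root_.Cfsg.Agent.KO07696d4.k49; exact @Subtype.property _ (fun g => @Cfsg.Agent.H751.Two.E8.eqW = @g) _) | rfl | trivial
private noncomputable def _root_.Cfsg.Agent.KO07696d4.k50 : (by first | exact type_of% @Cfsg.Agent.H751.Two.E8.T | exact Unit : Sort _) := by first | (refine @Subtype.val _ (fun g => @Cfsg.Agent.H751.Two.E8.T = @g) (@Subtype.mk _ _ (@(fun x0 => @Option.rec.{1, 0} (@List.{0} ℕ) @(fun x1 => @List.{0} ℕ) [] @(fun x1 => @x1) (@Cfsg.Agent.KO07696d4.k44.{0} _ @Cfsg.Agent.H751.Two.DataE8.tw @x0))) ?_); rewrite [← Cfsg.Agent.KO07696d4.e44.{0}]; (try delta Cfsg.Agent.H751.Two.E8.T); (try generalize @Cfsg.Agent.H751.Two.DataE8.tw = g0); rfl') | exact @Cfsg.Agent.H751.Two.E8.T | exact ()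
private theorem _root_.Cfsg.Agent.KO07696d4.e50 : (by first | exact @Cfsg.Agent.H751.Two.E8.T = @_root_.Cfsg.Agent.KO07696d4.k50 | exact True : Prop) := by first | (delta _root_.Cfsg.Agent.KO07696d4.k50; exact @Subtype.property _ (fun g => @Cfsg.Agent.H751.Two.E8.T = @g) _) | rfl | trivial

theorem c_x1_0 : eqW (T 0 ++ x1) (x1 ++ T 0) = true := by (first | (delta Cfsg.Agent.H751.Two.E8.x1; rewrite [Cfsg.Agent.KO07696d4.e49, Cfsg.Agent.KO07696d4.e50, Cfsg.Agent.KO07696d4.e48.{0}]; decide +kernel) | decide +kernel)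
theorem c_x1_1 : eqW (f1 ++ x1) (x1 ++ f1) = true := by (first | (delta Cfsg.Agent.H751.Two.E8.f1 Cfsg.Agent.H751.Two.E8.x1; rewrite [Cfsg.Agent.KO07696d4.e49, Cfsg.Agent.KO07696d4.e50, Cfsg.Agent.KO07696d4.e47.{0}, Cfsg.Agent.KO07696d4.e48.{0}]; decide +kernel) | decide +kernel)
theorem c_x1_2 : eqW (f2 ++ x1) (x1 ++ f2) = true := by (first | (delta Cfsg.Agent.H751.Two.E8.f2 Cfsg.Agent.H751.Two.E8.x1; rewrite [Cfsg.Agent.KO07696d4.e49, Cfsg.Agent.KO07696d4.e50, Cfsg.Agent.KO07696d4.e48.{0}]; decide +kernel) | decide +kernel)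

/-- the letters of the relation -/
def uu1 : List ℕ := x1 ++ ([77, 35] ++ (x1 ++ ([35, 77] ++ x1)))

theorem c_rel1 : eqW ([104] ++ (uu1 ++ ([104] ++ uu1))) [51] = true := by (first | (delta Cfsg.Agent.H751.Two.E8.uu1 Cfsg.Agent.H751.Two.E8.x1; rewrite [Cfsg.Agent.KO07696d4.e49, Cfsg.Agent.KO07696d4.e48.{0}]; decide +kernel) | decide +kernel)

variable {F : Type u} [Field F] [Finite F]

theorem x1_mem [CharP F 2] : wg hD F x1 ∈ GamP 7 hD F T 4 := by
  have : Fact (Nat.Prime 7) := ⟨by norm_num⟩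
  have h0 : el hD F T 0 ∈ Seven.Pt (el hD F T) 4 := el_mem (by norm_num)
  have h1 : el hD F T 1 ∈ Seven.Pt (el hD F T) 4 := el_mem (by norm_num)
  have h2 : el hD F T 2 ∈ Seven.Pt (el hD F T) 4 := el_mem (by norm_num)
  have h3 : el hD F T 3 ∈ Seven.Pt (el hD F T) 4 := el_mem (by norm_num)
  have e1 : wg hD F f1 = el hD F T 2 * (el hD F T 3)⁻¹ := by
    show wg hD F (T 2 ++ (T 3).reverse) = wg hD F (T 2) * (wg hD F (T 3))⁻¹
    rw [wg_append, wg_inv]
  have e2 : wg hD F f2 = el hD F T 1 * el hD F T 3 := wg_append hD F _ _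
  refine (fr F).word_mem (a := 3) (by norm_num) (F0 := {el hD F T 0, wg hD F f1, wg hD F f2}) ?_ ?_ ?_
  · rintro f (rfl | rfl | rfl)
    · exact h0
    · rw [e1]; exact mul_mem h2 (inv_mem h3)
    · rw [e2]; exact mul_mem h1 h3
  · have g0 : el hD F T 0 ∈ closure ({el hD F T 0, wg hD F f1, wg hD F f2} : Set ↥(chevE8.group F)) ⊔
        zpowers (el hD F T 3) := mem_sup_left (subset_closure (Or.inl rfl))
    have g1 : wg hD F f1 ∈ closure ({el hD F T 0, wg hD F f1, wg hD F f2} : Set ↥(chevE8.group F)) ⊔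
        zpowers (el hD F T 3) := mem_sup_left (subset_closure (Or.inr (Or.inl rfl)))
    have g2 : wg hD F f2 ∈ closure ({el hD F T 0, wg hD F f1, wg hD F f2} : Set ↥(chevE8.group F)) ⊔
        zpowers (el hD F T 3) := mem_sup_left (subset_closure (Or.inr (Or.inr rfl)))
    have g3 : el hD F T 3 ∈ closure ({el hD F T 0, wg hD F f1, wg hD F f2} : Set ↥(chevE8.group F)) ⊔
        zpowers (el hD F T 3) := mem_sup_right (mem_zpowers _)
    intro j hj
    have hj' : j = 0 ∨ j = 1 ∨ j = 2 ∨ j = 3 := by omega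
    rcases hj' with rfl | rfl | rfl | rfl
    · exact g0
    · have q : el hD F T 1 = wg hD F f2 * (el hD F T 3)⁻¹ := by rw [e2, mul_inv_cancel_right]
      rw [q]; exact mul_mem g2 (inv_mem g3)
    · have q : el hD F T 2 = wg hD F f1 * el hD F T 3 := by rw [e1, inv_mul_cancel_right]
      rw [q]; exact mul_mem g1 g3
    · exact g3
  · rintro f (rfl | rfl | rfl)
    · exact commute_of_eq hD F (eq_of_eqW c_x1_0)
    · exact commute_of_eq hD F (eq_of_eqW c_x1_1)
    · exact commute_of_eq hD F (eq_of_eqW c_x1_2)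

theorem fiftyone_mem [CharP F 2] : wg hD F [51] ∈ GamP 7 hD F T 4 := by
  have h104 : wg hD F [104] ∈ GamP 7 hD F T 4 := root_mem (i := 1) (by norm_num) (by decide)
  have h77 : wg hD F [77] ∈ GamP 7 hD F T 4 := root_mem (i := 1) (by norm_num) (by decide)
  have h35 : wg hD F [35] ∈ GamP 7 hD F T 4 := root_mem (i := 3) (by norm_num) (by decide)
  have ha : wg hD F [77, 35] ∈ GamP 7 hD F T 4 := by
    have : wg hD F [77, 35] = wg hD F [77] * wg hD F [35] := wg_append hD F [77] [35]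
    rw [this]; exact mul_mem h77 h35
  have hb : wg hD F [35, 77] ∈ GamP 7 hD F T 4 := by
    have : wg hD F [35, 77] = wg hD F [35] * wg hD F [77] := wg_append hD F [35] [77]
    rw [this]; exact mul_mem h35 h77
  have hx := x1_mem (F := F)
  have hu : wg hD F uu1 ∈ GamP 7 hD F T 4 := by
    unfold uu1
    rw [wg_append, wg_append, wg_append, wg_append]
    exact mul_mem hx (mul_mem ha (mul_mem hx (mul_mem hb hx)))
  have h : wg hD F [51] = wg hD F ([104] ++ (uu1 ++ ([104] ++ uu1))) := Subtype.ext (eq_of_eqW c_rel1).symm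
  rw [h, wg_append, wg_append, wg_append]
  exact mul_mem h104 (mul_mem hu (mul_mem h104 hu))

end Cfsg.Agent.H751.Two.E8
end

-- part: H751/Two/E8c
section
/-!
# `E₈(2)`, `p = 7`: the second element (helper751, S2187)
-/

set_option autoImplicit false
set_option linter.dupNamespace false

namespace Cfsg.Agent.H751.Two.E8

open Cfsg Subgroup Cfsg.Lie Cfsg.Agent.H751.Two.Code Cfsg.Agent.H751.Two.Cert Cfsg.Agent.H751.Two.Frame
  Cfsg.Agent.H751.Two.Bits Cfsg.Agent.H751.Two.Word Cfsg.Agent.ChevalleyStructure.Elts Cfsg.Agent.H818.Gen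

universe u

/-- the second further element -/
def x2 : List ℕ := DataE8.xw.getD 1 []
def k1 : List ℕ := T 2 ++ T 3
def k2 : List ℕ := T 0 ++ (T 3).reverse

theorem c_x2_0 : eqW (T 1 ++ x2) (x2 ++ T 1) = true := by (first | (delta Cfsg.Agent.H751.Two.E8.x2; rewrite [Cfsg.Agent.KO07696d4.e49, Cfsg.Agent.KO07696d4.e50, Cfsg.Agent.KO07696d4.e48.{0}]; decide +kernel) | decide +kernel)
theorem c_x2_1 : eqW (k1 ++ x2) (x2 ++ k1) = true := by (first | (delta Cfsg.Agent.H751.Two.E8.k1 Cfsg.Agent.H751.Two.E8.x2; rewrite [Cfsg.Agent.KO07696d4.e49, Cfsg.Agent.KO07696d4.e50, Cfsg.Agent.KO07696d4.e48.{0}]; decide +kernel) | decide +kernel)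
theorem c_x2_2 : eqW (k2 ++ x2) (x2 ++ k2) = true := by (first | (delta Cfsg.Agent.H751.Two.E8.k2 Cfsg.Agent.H751.Two.E8.x2; rewrite [Cfsg.Agent.KO07696d4.e49, Cfsg.Agent.KO07696d4.e50, Cfsg.Agent.KO07696d4.e47.{0}, Cfsg.Agent.KO07696d4.e48.{0}]; decide +kernel) | decide +kernel)

/-- the letters of the relation -/
def uu2 : List ℕ := x2 ++ ([1, 112] ++ (x2 ++ ([112, 1] ++ x2)))

theorem c_rel2 : eqW ([45] ++ (uu2 ++ ([45] ++ uu2))) [2] = true := by (first | (delta Cfsg.Agent.H751.Two.E8.uu2 Cfsg.Agent.H751.Two.E8.x2; rewrite [Cfsg.Agent.KO07696d4.e49, Cfsg.Agent.KO07696d4.e48.{0}]; decide +kernel) | decide +kernel)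

variable {F : Type u} [Field F] [Finite F]

theorem x2_mem [CharP F 2] : wg hD F x2 ∈ GamP 7 hD F T 4 := by
  have : Fact (Nat.Prime 7) := ⟨by norm_num⟩
  have h0 : el hD F T 0 ∈ Seven.Pt (el hD F T) 4 := el_mem (by norm_num)
  have h1 : el hD F T 1 ∈ Seven.Pt (el hD F T) 4 := el_mem (by norm_num)
  have h2 : el hD F T 2 ∈ Seven.Pt (el hD F T) 4 := el_mem (by norm_num)
  have h3 : el hD F T 3 ∈ Seven.Pt (el hD F T) 4 := el_mem (by norm_num)
  have e1 : wg hD F k2 = el hD F T 0 * (el hD F T 3)⁻¹ := by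
    show wg hD F (T 0 ++ (T 3).reverse) = wg hD F (T 0) * (wg hD F (T 3))⁻¹
    rw [wg_append, wg_inv]
  have e2 : wg hD F k1 = el hD F T 2 * el hD F T 3 := wg_append hD F _ _
  refine (fr F).word_mem (a := 3) (by norm_num) (F0 := {el hD F T 1, wg hD F k1, wg hD F k2}) ?_ ?_ ?_
  · rintro f (rfl | rfl | rfl)
    · exact h1
    · rw [e2]; exact mul_mem h2 h3
    · rw [e1]; exact mul_mem h0 (inv_mem h3)
  · have g0 : el hD F T 1 ∈ closure ({el hD F T 1, wg hD F k1, wg hD F k2} : Set ↥(chevE8.group F)) ⊔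
        zpowers (el hD F T 3) := mem_sup_left (subset_closure (Or.inl rfl))
    have g1 : wg hD F k1 ∈ closure ({el hD F T 1, wg hD F k1, wg hD F k2} : Set ↥(chevE8.group F)) ⊔
        zpowers (el hD F T 3) := mem_sup_left (subset_closure (Or.inr (Or.inl rfl)))
    have g2 : wg hD F k2 ∈ closure ({el hD F T 1, wg hD F k1, wg hD F k2} : Set ↥(chevE8.group F)) ⊔
        zpowers (el hD F T 3) := mem_sup_left (subset_closure (Or.inr (Or.inr rfl)))
    have g3 : el hD F T 3 ∈ closure ({el hD F T 1, wg hD F k1, wg hD F k2} : Set ↥(chevE8.group F)) ⊔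
        zpowers (el hD F T 3) := mem_sup_right (mem_zpowers _)
    intro j hj
    have hj' : j = 0 ∨ j = 1 ∨ j = 2 ∨ j = 3 := by omega
    rcases hj' with rfl | rfl | rfl | rfl
    · have q : el hD F T 0 = wg hD F k2 * el hD F T 3 := by rw [e1, inv_mul_cancel_right]
      rw [q]; exact mul_mem g2 g3
    · exact g0
    · have q : el hD F T 2 = wg hD F k1 * (el hD F T 3)⁻¹ := by rw [e2, mul_inv_cancel_right]
      rw [q]; exact mul_mem g1 (inv_mem g3)
    · exact g3
  · rintro f (rfl | rfl | rfl)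
    · exact commute_of_eq hD F (eq_of_eqW c_x2_0)
    · exact commute_of_eq hD F (eq_of_eqW c_x2_1)
    · exact commute_of_eq hD F (eq_of_eqW c_x2_2)

theorem two_mem [CharP F 2] : wg hD F [2] ∈ GamP 7 hD F T 4 := by
  have h45 : wg hD F [45] ∈ GamP 7 hD F T 4 := root_mem (i := 3) (by norm_num) (by decide)
  have h1 : wg hD F [1] ∈ GamP 7 hD F T 4 := root_mem (i := 0) (by norm_num) (by decide)
  have h112 : wg hD F [112] ∈ GamP 7 hD F T 4 := root_mem (i := 2) (by norm_num) (by decide)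
  have ha : wg hD F [1, 112] ∈ GamP 7 hD F T 4 := by
    have : wg hD F [1, 112] = wg hD F [1] * wg hD F [112] := wg_append hD F [1] [112]
    rw [this]; exact mul_mem h1 h112
  have hb : wg hD F [112, 1] ∈ GamP 7 hD F T 4 := by
    have : wg hD F [112, 1] = wg hD F [112] * wg hD F [1] := wg_append hD F [112] [1]
    rw [this]; exact mul_mem h112 h1
  have hx := x2_mem (F := F)
  have hu : wg hD F uu2 ∈ GamP 7 hD F T 4 := by
    unfold uu2
    rw [wg_append, wg_append, wg_append, wg_append]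
    exact mul_mem hx (mul_mem ha (mul_mem hx (mul_mem hb hx)))
  have h : wg hD F [2] = wg hD F ([45] ++ (uu2 ++ ([45] ++ uu2))) := Subtype.ext (eq_of_eqW c_rel2).symm
  rw [h, wg_append, wg_append, wg_append]
  exact mul_mem h45 (mul_mem hu (mul_mem h45 hu))

end Cfsg.Agent.H751.Two.E8
end

-- part: H751/Two/E8
section
/-!
# `E₈(2)`, `p = 7` (helper751, S2187)
-/

set_option autoImplicit false
set_option linter.dupNamespace false

namespace Cfsg.Agent.H751.Two.E8

open Cfsg Subgroup Cfsg.Lie Cfsg.Agent.H751.Two.Code Cfsg.Agent.H751.Two.Cert Cfsg.Agent.H751.Two.Frame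
  Cfsg.Agent.H751.Two.Bits Cfsg.Agent.H751.Two.Word Cfsg.Agent.ChevalleyStructure.Elts Cfsg.Agent.H818.Gen

universe u

theorem c_run : run chevE8 (msk (2 :: 51 :: (KR 0 ++ (KR 1 ++ (KR 2 ++ KR 3))))) DataE8.st = true := by (delta Cfsg.Agent.H751.Two.Cert.okT3 Cfsg.Agent.H751.Two.Cert.run Cfsg.Agent.H751.Two.Cert.run._f; rewrite [Cfsg.Agent.ChevFast.E8.commTerms, Cfsg.Agent.ChevFast.E8.neg]; decide +kernel)

theorem gamP_eq_top {F : Type u} [Field F] [Finite F] [CharP F 2] (hF : Nat.card F = 2) : GamP 7 hD F T 4 = ⊤ := by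
  refine eq_top_of_run hD hF _ _ c_run ?_
  intro r hr
  have h := mem_of_msk hr
  rcases List.mem_cons.1 h with rfl | h
  · exact two_mem
  rcases List.mem_cons.1 h with rfl | h
  · exact fiftyone_mem
  rcases List.mem_append.1 h with h | h
  · exact root_mem (i := 0) (by norm_num) h
  rcases List.mem_append.1 h with h | h
  · exact root_mem (i := 1) (by norm_num) h
  rcases List.mem_append.1 h with h | h
  · exact root_mem (i := 2) (by norm_num) h
  · exact root_mem (i := 3) (by norm_num) h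

/-- **`E₈(2)`, `p = 7`** -/
theorem gen_E8_two {F : Type u} [Field F] (hF : Nat.card F = 2) : Gen 7 ↥(chevE8.group F) := by
  have : Finite F := Nat.finite_of_card_ne_zero (by rw [hF]; norm_num)
  have hft := Fintype.ofFinite F
  have : CharP F 2 := Cfsg.Agent.H810.StrP.charP_two hF
  have : Fact (Nat.Prime 2) := ⟨by norm_num⟩
  have : Fact (Nat.Prime 7) := ⟨by norm_num⟩
  have hF' : Fintype.card F = 2 := by rw [← Nat.card_eq_fintype_card, hF]
  have hout := Cfsg.Agent.S2125.result (F := F) 2 1 (by rw [hF', pow_one])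
  have hcard := Cfsg.Agent.S1065.result (F := F) hF'
  refine (fr F).gen (m := 1) (by norm_num) hout ?_ (gamP_eq_top hF)
  intro h
  rw [hcard] at h
  revert h
  norm_num

end Cfsg.Agent.H751.Two.E8
end

-- part: H751/Two/Rows
section
/-!
# S2187: the exceptional groups with `q = 2`, `p ≥ 7` (helper751)

`gen_f4_two`, `gen_e6_two`, `gen_e7_two`, `gen_e8_two`, `gen_te6_two`, `gen_td4_two`.
-/

set_option autoImplicit false
set_option maxRecDepth 100000

namespace Cfsg.Agent.H751.Two.Rows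

open Cfsg Subgroup Cfsg.Lie Cfsg.Agent.H818.Gen Cfsg.Agent.H751.Two.Rank

/-- the product of the prime powers in a list -/
def val : List (ℕ × ℕ) → ℕ
  | [] => 1
  | (q, e) :: l => q ^ e * val l

theorem not_dvd_val {l : List (ℕ × ℕ)} {p : ℕ} (hp : p.Prime) (hl : ∀ x ∈ l, x.1.Prime) (h : ∀ x ∈ l, x.1 ≠ p) :
    ¬ p ∣ val l := by
  induction l with
  | nil => exact fun h => hp.one_lt.ne' (Nat.dvd_one.1 h)
  | cons x l ih =>
    obtain ⟨q, e⟩ := x
    intro h1
    rcases (hp.dvd_mul).1 h1 with h2 | h2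
    · have h3 := hp.dvd_of_dvd_pow h2
      exact h (q, e) (by simp) ((Nat.prime_dvd_prime_iff_eq hp (hl (q, e) (by simp))).1 h3).symm
    · exact ih (fun x hx => hl x (by simp [hx])) (fun x hx => h x (by simp [hx])) h2

theorem mem_of_sq_dvd {l : List (ℕ × ℕ)} {p : ℕ} (hp : p.Prime) (hl : ∀ x ∈ l, x.1.Prime)
    (hd : (l.map fun x => x.1).Nodup) (h : p ^ 2 ∣ val l) : ∃ e, (p, e) ∈ l ∧ 2 ≤ e := by
  induction l with
  | nil =>
    have h1 : p ∣ 1 := (dvd_pow_self p two_ne_zero).trans h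
    exact absurd (Nat.dvd_one.1 h1) hp.one_lt.ne'
  | cons x l ih =>
    obtain ⟨q, e⟩ := x
    rw [List.map_cons, List.nodup_cons] at hd
    by_cases hq : q = p
    · subst hq
      refine ⟨e, by simp, ?_⟩
      have h1 : ¬ q ∣ val l := not_dvd_val hp (fun x hx => hl x (by simp [hx])) (fun x hx hxq => hd.1 (by
        rw [← hxq]
        exact List.mem_map.2 ⟨x, hx, rfl⟩))
      have h2 : q ^ 2 ∣ q ^ e := (Nat.Coprime.dvd_of_dvd_mul_right
        (Nat.Coprime.pow_left 2 ((Nat.Prime.coprime_iff_not_dvd hp).2 h1)) (show q ^ 2 ∣ q ^ e * val l from h))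
      exact (Nat.pow_dvd_pow_iff_le_right hp.one_lt).1 h2
    · have h2 : p ^ 2 ∣ val l := (Nat.Coprime.dvd_of_dvd_mul_left
        (Nat.Coprime.pow_left 2 ((Nat.Prime.coprime_iff_not_dvd hp).2 fun h3 =>
          hq ((Nat.prime_dvd_prime_iff_eq hp (hl (q, e) (by simp))).1 (hp.dvd_of_dvd_pow h3)).symm))
        (show p ^ 2 ∣ q ^ e * val l from h))
      obtain ⟨e', h3, h4⟩ := ih (fun x hx => hl x (by simp [hx])) hd.2 h2
      exact ⟨e', by simp [h3], h4⟩

/-- the primes in the orders -/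
def prs : List ℕ := [2, 3, 5, 7, 11, 13, 17, 19, 31, 41, 43, 73, 127, 151, 241, 331]

theorem prime_prs : ∀ q ∈ prs, q.Prime := by
  intro q hq
  simp only [prs, List.mem_cons, List.not_mem_nil, or_false] at hq
  rcases hq with h | h | h | h | h | h | h | h | h | h | h | h | h | h | h | h <;> rw [h] <;> norm_num

/-- the primes `≥ 7` whose square divides a group order -/
theorem mem_of_sq {N p : ℕ} (hp : p.Prime) (h7 : 7 ≤ p) (l : List (ℕ × ℕ)) (hl : ∀ q ∈ l, q.1 ∈ prs)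
    (hd : (l.map fun x => x.1).Nodup) (hK : N = val l) (s : List ℕ)
    (hs : ∀ x ∈ l, 2 ≤ x.2 → 7 ≤ x.1 → x.1 ∈ s) (h : p ^ 2 ∣ N) : p ∈ s := by
  rw [hK] at h
  obtain ⟨e, h1, h2⟩ := mem_of_sq_dvd hp (fun x hx => prime_prs _ (hl x hx)) hd h
  exact hs (p, e) h1 h2 h7

theorem fact_two : Fact (Nat.Prime 2) := ⟨Nat.prime_two⟩

section chev

variable {F : Type} [Field F] (hF : Nat.card F = 2) {p : ℕ} (hp : p.Prime) (h7 : 7 ≤ p)

include hF hp h7

/-- **`F₄(2)`** -/
theorem gen_f4_two : Gen p ↥(chevF4.group F) := by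
  have : Finite F := Nat.finite_of_card_ne_zero (by rw [hF]; norm_num)
  have hft := Fintype.ofFinite F
  have : CharP F 2 := Cfsg.Agent.H810.StrP.charP_two hF
  have := fact_two
  have : Fact p.Prime := ⟨hp⟩
  have hF' : Fintype.card F = 2 := by rw [← Nat.card_eq_fintype_card, hF]
  obtain ⟨hs, hna⟩ := Cfsg.Agent.S1054.result (F := F) chevF4 (by simp)
  have hz := H240.GenTwF.center_bot hna
  have hout : Nat.card (Out ↥(chevF4.group F)) = 2 :=
    (Cfsg.Agent.S2122.result (F := F) 2 1 (by rw [hF', pow_one])).trans (by norm_num)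
  have ho : ¬ p ∣ Nat.card (Out ↥(chevF4.group F)) := by
    rw [hout]; exact fun h => absurd (Nat.le_of_dvd (by norm_num) h) (by omega)
  have hc : Nat.card ↥(chevF4.group F) = val [(2, 24), (3, 6), (5, 2), (7, 2), (13, 1), (17, 1)] :=
    (Cfsg.Agent.S1062.result (F := F) hF').trans (by norm_num [val])
  by_cases hsq : p ^ 2 ∣ Nat.card ↥(chevF4.group F)
  · have h := mem_of_sq hp h7 _ (by decide) (by decide) hc [7] (by decide) hsq
    rw [List.mem_singleton] at h
    subst h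
    exact gen_of_noSP hna ho (by rw [hc]; norm_num [val]) (Cfsg.Agent.H810.StrP.F4Two.noSP7 hF)
  · exact gen_of_not_sq hz ho hsq

/-- **`E₆(2)`** -/
theorem gen_e6_two : Gen p ↥(chevE6.group F) := by
  have : Finite F := Nat.finite_of_card_ne_zero (by rw [hF]; norm_num)
  have hft := Fintype.ofFinite F
  have : CharP F 2 := Cfsg.Agent.H810.StrP.charP_two hF
  have := fact_two
  have : Fact p.Prime := ⟨hp⟩
  have hF' : Fintype.card F = 2 := by rw [← Nat.card_eq_fintype_card, hF]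
  obtain ⟨hs, hna⟩ := Cfsg.Agent.S1054.result (F := F) chevE6 (by simp)
  have hz := H240.GenTwF.center_bot hna
  have hout : Nat.card (Out ↥(chevE6.group F)) = 2 :=
    (Cfsg.Agent.S2123.result (F := F) 2 1 (by rw [hF', pow_one])).trans (by norm_num)
  have ho : ¬ p ∣ Nat.card (Out ↥(chevE6.group F)) := by
    rw [hout]; exact fun h => absurd (Nat.le_of_dvd (by norm_num) h) (by omega)
  have hc : Nat.card ↥(chevE6.group F) = val [(2, 36), (3, 6), (5, 2), (7, 3), (13, 1), (17, 1), (31, 1), (73, 1)] := by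
    have h := Cfsg.Agent.S1063.result (F := F) hF'
    rw [show Nat.gcd 3 (2 - 1) = 1 by decide, one_mul] at h
    exact h.trans (by norm_num [val])
  by_cases hsq : p ^ 2 ∣ Nat.card ↥(chevE6.group F)
  · have h := mem_of_sq hp h7 _ (by decide) (by decide) hc [7] (by decide) hsq
    rw [List.mem_singleton] at h
    subst h
    exact E6.gen_E6_two hF
  · exact gen_of_not_sq hz ho hsq

/-- **`E₇(2)`** -/
theorem gen_e7_two : Gen p ↥(chevE7.group F) := by
  have : Finite F := Nat.finite_of_card_ne_zero (by rw [hF]; norm_num)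
  have hft := Fintype.ofFinite F
  have : CharP F 2 := Cfsg.Agent.H810.StrP.charP_two hF
  have := fact_two
  have : Fact p.Prime := ⟨hp⟩
  have hF' : Fintype.card F = 2 := by rw [← Nat.card_eq_fintype_card, hF]
  obtain ⟨hs, hna⟩ := Cfsg.Agent.S1054.result (F := F) chevE7 (by simp)
  have hz := H240.GenTwF.center_bot hna
  have hout : Nat.card (Out ↥(chevE7.group F)) = 1 :=
    (Cfsg.Agent.S2124.result (F := F) 2 1 (by rw [hF', pow_one])).trans (by norm_num)
  have ho : ¬ p ∣ Nat.card (Out ↥(chevE7.group F)) := by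
    rw [hout]; exact fun h => absurd (Nat.le_of_dvd (by norm_num) h) (by omega)
  have hc : Nat.card ↥(chevE7.group F) = val [(2, 63), (3, 11), (5, 2), (7, 3), (11, 1), (13, 1), (17, 1), (19, 1),
      (31, 1), (43, 1), (73, 1), (127, 1)] := by
    have h := Cfsg.Agent.S1064.result (F := F) hF'
    rw [show Nat.gcd 2 (2 - 1) = 1 by decide, one_mul] at h
    exact h.trans (by norm_num [val])
  by_cases hsq : p ^ 2 ∣ Nat.card ↥(chevE7.group F)
  · have h := mem_of_sq hp h7 _ (by decide) (by decide) hc [7] (by decide) hsq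
    rw [List.mem_singleton] at h
    subst h
    exact E7.gen_E7_two hF
  · exact gen_of_not_sq hz ho hsq

/-- **`E₈(2)`** -/
theorem gen_e8_two : Gen p ↥(chevE8.group F) := by
  have : Finite F := Nat.finite_of_card_ne_zero (by rw [hF]; norm_num)
  have hft := Fintype.ofFinite F
  have : CharP F 2 := Cfsg.Agent.H810.StrP.charP_two hF
  have := fact_two
  have : Fact p.Prime := ⟨hp⟩
  have hF' : Fintype.card F = 2 := by rw [← Nat.card_eq_fintype_card, hF]
  obtain ⟨hs, hna⟩ := Cfsg.Agent.S1054.result (F := F) chevE8 (by simp)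
  have hz := H240.GenTwF.center_bot hna
  have hout : Nat.card (Out ↥(chevE8.group F)) = 1 :=
    Cfsg.Agent.S2125.result (F := F) 2 1 (by rw [hF', pow_one])
  have ho : ¬ p ∣ Nat.card (Out ↥(chevE8.group F)) := by
    rw [hout]; exact fun h => absurd (Nat.le_of_dvd (by norm_num) h) (by omega)
  have hc : Nat.card ↥(chevE8.group F) = val [(2, 120), (3, 13), (5, 5), (7, 4), (11, 2), (13, 2), (17, 2), (19, 1),
      (31, 2), (41, 1), (43, 1), (73, 1), (127, 1), (151, 1), (241, 1), (331, 1)] :=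
    (Cfsg.Agent.S1065.result (F := F) hF').trans (by norm_num [val])
  by_cases hsq : p ^ 2 ∣ Nat.card ↥(chevE8.group F)
  · have h := mem_of_sq hp h7 _ (by decide) (by decide) hc [7, 11, 13, 17, 31] (by decide) hsq
    simp only [List.mem_cons, List.not_mem_nil, or_false] at h
    rcases h with rfl | rfl | rfl | rfl | rfl
    · exact E8.gen_E8_two hF
    · exact gen_of_noSP hna ho (by rw [hc]; norm_num [val]) (Cfsg.Agent.H549.RV.E8Two.noSP_11 hF')
    · exact gen_of_noSP hna ho (by rw [hc]; norm_num [val]) (Cfsg.Agent.H549.RV.E8Two.noSP_13 hF')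
    · exact gen_of_noSP hna ho (by rw [hc]; norm_num [val]) (Cfsg.Agent.H549.RV.E8Two.noSP_17 hF')
    · exact gen_of_noSP hna ho (by rw [hc]; norm_num [val]) (Cfsg.Agent.H549.RV.E8Two.noSP_31 hF')
  · exact gen_of_not_sq hz ho hsq

end chev

section tw

/-- **`²E₆(2)`** -/
theorem gen_te6_two {K : Type} [Field K] [Fintype K] (hK : Fintype.card K = 4) {p : ℕ} (hp : p.Prime) (h7 : 7 ≤ p) :
    Gen p ↥(twistedE6 K 2) := by
  have := fact_two
  have : Fact p.Prime := ⟨hp⟩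
  have : CharP K 2 := by
    obtain ⟨q, hq⟩ := CharP.exists K
    have hqp : Fact q.Prime := ⟨CharP.char_is_prime K q⟩
    obtain ⟨n, -, h⟩ := FiniteField.card K q
    rw [hK] at h
    have h1 : q ∣ 2 ^ 2 := by rw [show 2 ^ 2 = 4 by norm_num, h]; exact dvd_pow_self q n.pos.ne'
    have h2 : q = 2 := (Nat.prime_dvd_prime_iff_eq hqp.out Nat.prime_two).1 (hqp.out.dvd_of_dvd_pow h1)
    exact h2 ▸ hq
  obtain ⟨hs, hna⟩ := Cfsg.Agent.S1070.result (K := K) Nat.prime_two.isPrimePow (by rw [hK]; norm_num)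
  have hz := H240.GenTwF.center_bot hna
  have hfin : Finite ↥(twistedE6 K 2) := inferInstance
  have hout : Nat.card (Out ↥(twistedE6 K 2)) = 6 := by
    have h := Cfsg.Agent.S2130.result (K := K) 2 1 (by rw [hK]; norm_num) le_rfl
    rw [pow_one] at h
    exact h.trans (by norm_num)
  have ho : ¬ p ∣ Nat.card (Out ↥(twistedE6 K 2)) := by
    rw [hout]; exact fun h => absurd (Nat.le_of_dvd (by norm_num) h) (by omega)
  have hc : Nat.card ↥(twistedE6 K 2) = val [(2, 36), (3, 9), (5, 2), (7, 2), (11, 1), (13, 1), (17, 1), (19, 1)] := by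
    have h := Cfsg.Agent.S1066.result (K := K) Nat.prime_two.isPrimePow (by rw [hK]; norm_num)
    rw [show Nat.gcd 3 (2 + 1) = 3 by decide] at h
    have h2 : 3 * Nat.card ↥(twistedE6 K 2) =
        3 * val [(2, 36), (3, 9), (5, 2), (7, 2), (11, 1), (13, 1), (17, 1), (19, 1)] := h.trans (by norm_num [val])
    exact Nat.eq_of_mul_eq_mul_left (by norm_num) h2
  by_cases hsq : p ^ 2 ∣ Nat.card ↥(twistedE6 K 2)
  · have h := mem_of_sq hp h7 _ (by decide) (by decide) hc [7] (by decide) hsq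
    rw [List.mem_singleton] at h
    subst h
    exact gen_of_noSP hna ho (by rw [hc]; norm_num [val]) (Cfsg.Agent.H810.StrP.TwE6Two.noSP7 hK)
  · exact gen_of_not_sq hz ho hsq

/-- **`³D₄(2)`** -/
theorem gen_td4_two {K : Type} [Field K] [Fintype K] (hK : Fintype.card K = 8) {p : ℕ} (hp : p.Prime) (h7 : 7 ≤ p) :
    Gen p ↥(twistedD4 K 2) := by
  have := fact_two
  have : Fact p.Prime := ⟨hp⟩
  have : CharP K 2 := by
    obtain ⟨q, hq⟩ := CharP.exists K
    have hqp : Fact q.Prime := ⟨CharP.char_is_prime K q⟩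
    obtain ⟨n, -, h⟩ := FiniteField.card K q
    rw [hK] at h
    have h1 : q ∣ 2 ^ 3 := by rw [show 2 ^ 3 = 8 by norm_num, h]; exact dvd_pow_self q n.pos.ne'
    have h2 : q = 2 := (Nat.prime_dvd_prime_iff_eq hqp.out Nat.prime_two).1 (hqp.out.dvd_of_dvd_pow h1)
    exact h2 ▸ hq
  obtain ⟨hs, hna⟩ := Cfsg.Agent.S1071.result (K := K) Nat.prime_two.isPrimePow (by rw [hK]; norm_num)
  have hz := H240.GenTwF.center_bot hna
  have hfin : Finite ↥(twistedD4 K 2) := inferInstance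
  have hout : Nat.card (Out ↥(twistedD4 K 2)) = 3 := by
    have h := Cfsg.Agent.S2129.result (K := K) 2 1 (by rw [hK]; norm_num) le_rfl
    rw [pow_one] at h
    exact h.trans (by norm_num)
  have ho : ¬ p ∣ Nat.card (Out ↥(twistedD4 K 2)) := by
    rw [hout]; exact fun h => absurd (Nat.le_of_dvd (by norm_num) h) (by omega)
  have hc : Nat.card ↥(twistedD4 K 2) = val [(2, 12), (3, 4), (7, 2), (13, 1)] :=
    (Cfsg.Agent.S1067.result (K := K) Nat.prime_two.isPrimePow (by rw [hK]; norm_num)).trans (by norm_num [val])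
  by_cases hsq : p ^ 2 ∣ Nat.card ↥(twistedD4 K 2)
  · have h := mem_of_sq hp h7 _ (by decide) (by decide) hc [7] (by decide) hsq
    rw [List.mem_singleton] at h
    subst h
    exact gen_of_noSP hna ho (by rw [hc]; norm_num [val]) (Cfsg.Agent.H184.StrD4.nosp_d4_7 hK)
  · exact gen_of_not_sq hz ho hsq

end tw

end Cfsg.Agent.H751.Two.Rows
end

private theorem dce_ad3c41d0f71d : _root_.True := by
  try have : _root_.True := by simp only [_root_.Cfsg.Agent.H751.Two.Rows.val.eq_2]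
  try have : _root_.True := by simp only [_root_.Cfsg.Agent.H751.Two.Rows.val.eq_def]
  try have : _root_.True := by simp only [_root_.Cfsg.Agent.H751.Two.Rows.val.eq_1]
  try have : _root_.True := by simp only [_root_.Cfsg.Agent.H751.Two.Rows.prs.eq_1]
  exact _root_.True.intro
end

-- part: H350/Tri/Defs
section
set_option linter.all false

/-!
# S2187, row TRI (`p = 3`, graph automorphisms of `D₄`): interface (helper350)

`Y4 r` the adjoint group of type `D₄` over `KK r`, `gr4` the triality.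

* `Roots t`, `MMt t` : the roots trivial on `t ∈ TT`, the group generated by their root groups;
* `A2std`, `A1std` : `{± α₀, ± α₁, ± (α₀ + α₁)}`, `{± α₀, ± α₂, ± α₃}` (`α₁` is the central node);
* `CompY τ S` : the group generated by the `τ`-fixed `r`-elements of `⟨X_a : a ∈ S⟩` is a product of at most three commuting
  quasi-simple groups with `Gen 3`;
* `CompK ι e` : the same for the `r`-elements of `K₀` commuting with `e`.
-/

set_option autoImplicit false

namespace Cfsg.Agent.H350.Tri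

open CoxeterSystem Cfsg Cfsg.Lie Cfsg.Agent.ChevalleyStructure Cfsg.Agent.ChevalleyStructure.Elts
open Cfsg.Agent.ChevalleyStructure.CoxeterGeom Cfsg.Agent.ChevalleyStructure.CoxeterGeomTypes
open Cfsg.Agent.ChevalleyStructure.GraphSymm (symmD4a)
open Cfsg.Agent.Tits.Roots Cfsg.Agent.Tits.Core Cfsg.Agent.Nodes Cfsg.Agent.Nodes.Reps Cfsg.Agent.Nodes.BNOf Cfsg.Agent.Nodes.Bruhat
open Cfsg.Agent.Nodes.RGDChev Cfsg.Agent.BpExc.TorCent Cfsg.Agent.KFacts.RgdChevCoord
open Cfsg.Agent.BpExc.FamTw.Gr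
open Cfsg.Agent.H469.Exc (KK)
open Cfsg.Agent.H818.Gen Cfsg.Agent.H316.U6

universe u v

/-- the adjoint group of type `D₄` over `KK r` -/
abbrev Y4 (r : ℕ) [Fact r.Prime] : Type := ↥(chevD4.group (KK r))

/-- the triality of `Y4 r` -/
noncomputable def gr4 (r : ℕ) [Fact r.Prime] : MulAut (Y4 r) := gr Cfsg.Agent.Nodes.RGDTwD4.hp.inList symmD4a

variable {r : ℕ} [Fact r.Prime]

/-- the roots trivial on `t` -/
def Roots (t : Y4 r) : Set (Fin 4 → ℤ) :=
  Sx coxeterD4.toCoxeterSystem Cfsg.Agent.Nodes.RGDTwD4.hp.isCartan (ch Cfsg.Agent.Nodes.RGDTwD4.hp) t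

/-- the group generated by the root groups of the roots trivial on `t` -/
noncomputable def MMt (t : Y4 r) : Subgroup (Y4 r) :=
  RGD.Sup (XX chevD4 4 (KK r)) (Roots t)

/-- a standard subsystem of type `A₂` -/
def A2std : Set (Fin 4 → ℤ) := {a | a = sr 0 ∨ a = sr 1 ∨ a = sr 0 + sr 1 ∨ a = -sr 0 ∨ a = -sr 1 ∨ a = -(sr 0 + sr 1)}

/-- a standard subsystem of type `A₁³` -/
def A1std : Set (Fin 4 → ℤ) := {a | a = sr 0 ∨ a = sr 2 ∨ a = sr 3 ∨ a = -sr 0 ∨ a = -sr 2 ∨ a = -sr 3}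

/-- the components of the fixed points of `τ` in `⟨X_a : a ∈ S⟩` -/
def CompY (τ : MulAut (Y4 r)) (S : Set (Fin 4 → ℤ)) : Prop :=
  ∃ (n : ℕ) (_ : n ≤ 3) (K : Fin n → Subgroup (Y4 r)),
    (∀ i, IsQuasisimple ↥(K i)) ∧ (∀ i, Gen 3 ↥(K i)) ∧
    (∀ i j, i ≠ j → ∀ a ∈ K i, ∀ b ∈ K j, a * b = b * a) ∧
    (⨆ i, K i) = Subgroup.closure {u : Y4 r | u ∈ RGD.Sup (XX chevD4 4 (KK r)) S ∧ τ u = u ∧ ∃ j, u ^ r ^ j = 1}

/-- the components of the group generated by the `r`-elements of `K₀` commuting with `e` -/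
def CompK {K₀ : Type v} [Group K₀] (ι : K₀ →* Y4 r) (e : Y4 r) : Prop :=
  ∃ (n : ℕ) (_ : n ≤ 3) (K : Fin n → Subgroup K₀),
    (∀ i, IsQuasisimple ↥(K i)) ∧ (∀ i, Gen 3 ↥(K i)) ∧
    (∀ i j, i ≠ j → ∀ a ∈ K i, ∀ b ∈ K j, a * b = b * a) ∧
    (⨆ i, K i) = Subgroup.closure {u : K₀ | e * ι u = ι u * e ∧ ∃ j, u ^ r ^ j = 1}

end Cfsg.Agent.H350.Tri
end

-- part: H388/Tri/Lift
section
set_option linter.all false
open scoped Cfsg.Agent.FastGrp

/-!
# S2187, TRI-10: the automorphisms of order 3 of `D₄(q)` over the algebraic closure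
-/

set_option autoImplicit false
set_option linter.unusedSectionVars false

namespace Cfsg.Agent.H388.Tri.Lift

open CoxeterSystem Subgroup Cfsg Cfsg.Lie Cfsg.Lie.ChevalleyDatum
open Cfsg.Agent.ChevalleyStructure Cfsg.Agent.ChevalleyStructure.Elts Cfsg.Agent.ChevalleyStructure.CoxeterGeom
  Cfsg.Agent.ChevalleyStructure.CoxeterGeomTypes Cfsg.Agent.ChevalleyStructure.NPerm
open Cfsg.Agent.ChevalleyStructure.GraphSymm (symmD4a)
open Cfsg.Agent.Tits.Roots Cfsg.Agent.Tits.Core Cfsg.Agent.Nodes.Reps Cfsg.Agent.Nodes.BNOf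
  Cfsg.Agent.Nodes.RGDChev Cfsg.Agent.Nodes.Bruhat Cfsg.Agent.Nodes.OppDec
open Cfsg.Agent.KFacts.RgdAut Cfsg.Agent.KFacts.RgdDiag Cfsg.Agent.KFacts.RgdRigid
  Cfsg.Agent.KFacts.RgdField Cfsg.Agent.KFacts.RgdTau Cfsg.Agent.KFacts.RgdChevCoord
  Cfsg.Agent.CpAut.RgdUntw Cfsg.Agent.CpAut.RgdConj
open Cfsg.Agent.GpExc.Field (glMap emb coe_emb glMap_xG emb_injective coe_glMap)
open Cfsg.Agent.BpExc.FamExt Cfsg.Agent.BpExc.FamFrame Cfsg.Agent.BpExc.FamField Cfsg.Agent.BpExc.FamUntw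
  Cfsg.Agent.BpExc.TowChev
open Cfsg.Agent.BpExc.FamTw.Gr
open Cfsg.Agent.CpAutTri.StdD (s0 spF spF_eq rho_spF sym_cases cartan_s0 vec_spF isRoot_s exists_s vec_pos vec_npos
  cube_of_pow)
open Cfsg.Agent.CpAutTri.Bru (rho eps rho_pos)
open Cfsg.Agent.H469.Exc (KK)
open Cfsg.Agent.H350.Tri (Y4 gr4)

universe u

local notation "hp4" => Cfsg.Agent.Nodes.RGDTwD4.hp

/-! ### the graph automorphism over a finite field -/

section Fin

variable {K : Type u} [Field K]

/-- the triality of `chevD4.group K` -/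
noncomputable abbrev gam (K : Type u) [Field K] : MulAut ↥(chevD4.group K) := gr (L := K) (hp4).inList symmD4a

theorem xc_eq (s : Fin 24) (a : K) : xc hp4 (vec chevD4 4 s.val) a = xg (hp4).inList s.val a := by
  apply Subtype.ext
  rw [coe_xc hp4 s.2]
  rfl

theorem gam_xc (s : Fin 24) (a : K) : gam K (xc hp4 (vec chevD4 4 s.val) a) =
    xc hp4 (vec chevD4 4 (rho s).val) (((eps s : ℤ) : K) * a) := by
  rw [xc_eq, xc_eq]
  exact gr_xg (hp4).inList symmD4a s a

theorem gam_cube : gam K ^ 3 = 1 := Cfsg.Agent.H28.FamFour.gr_cube_D4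

theorem fix_of_maps {γ : MulAut ↥(chevD4.group K)} (hγ : γ ^ 3 = 1) {H : Subgroup ↥(chevD4.group K)}
    (h : ∀ y ∈ H, γ y ∈ H) : _root_.Cfsg.Agent.KFacts.RgdAut.Fix γ H := by
  intro y
  refine ⟨fun hy => ?_, h y⟩
  have h1 : γ (γ (γ y)) ∈ H := h _ (h _ hy)
  have e : γ (γ (γ y)) = y := DFunLike.congr_fun hγ y
  rwa [e] at h1

variable [Finite K] (r : ℕ) [Fact r.Prime] [CharP K r]

include r in
theorem gam_maps {S : Set (Fin 4 → ℤ)}
    (hS : ∀ x ∈ S, ∃ s : Fin 24, x = vec chevD4 4 s.val ∧ vec chevD4 4 (rho s).val ∈ S) {y : ↥(chevD4.group K)}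
    (hy : y ∈ RGD.Sup (XX chevD4 4 K) S) : gam K y ∈ RGD.Sup (XX chevD4 4 K) S := by
  have C := coords (K := K) hp4 coxeterD4.toCoxeterSystem r
  have key : RGD.Sup (XX chevD4 4 K) S ≤ (RGD.Sup (XX chevD4 4 K) S).comap (gam K).toMonoidHom := by
    refine RGD.Sup_le fun x hx z hz => ?_
    obtain ⟨s, rfl, hs⟩ := hS x hx
    obtain ⟨a, rfl⟩ := ((C.coord _ (isRoot_s _ s)).mem z).1 hz
    show gam K (xc hp4 (vec chevD4 4 s.val) a) ∈ RGD.Sup (XX chevD4 4 K) S
    rw [gam_xc]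
    exact RGD.le_Sup hs (((C.coord _ (isRoot_s _ _)).mem _).2 ⟨_, rfl⟩)
  exact key hy

include r in
theorem gam_fix_U :
    _root_.Cfsg.Agent.KFacts.RgdAut.Fix (gam K) (RGD.Sup (XX chevD4 4 K) (RGD.Pos coxeterD4.toCoxeterSystem (hp4).isCartan)) := by
  refine fix_of_maps gam_cube fun y hy => gam_maps r ?_ hy
  rintro x ⟨hx, hx0⟩
  obtain ⟨s, rfl⟩ := exists_s _ hx
  refine ⟨s, rfl, isRoot_s _ _, ?_⟩
  exact (vec_pos _).2 ((rho_pos s).2 ((vec_pos s).1 hx0))

include r in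
theorem gam_fix_UN :
    _root_.Cfsg.Agent.KFacts.RgdAut.Fix (gam K) (UN coxeterD4.toCoxeterSystem (hp4).isCartan (XX chevD4 4 K)) := by
  refine fix_of_maps gam_cube fun y hy => gam_maps r ?_ hy
  rintro x ⟨hx, hx0⟩
  obtain ⟨s, rfl⟩ := exists_s _ hx
  refine ⟨s, rfl, isRoot_s _ _, ?_⟩
  have h1 := (vec_npos s).1 hx0
  have h2 := rho_pos s
  exact (vec_npos _).2 (by omega)

include r in
/-- the diagram symmetry and the field automorphism of `gam` -/
theorem tau_gam : Tau (TT chevD4 K) (XX chevD4 4 K) (ch hp4) (cartanOf chevD4 4) (gam K) s0 (1 : K ≃+* K) := by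
  have R := rgd (K := K) hp4 coxeterD4.toCoxeterSystem r
  have hW := finite_W hp4 (coxeterD4.toCoxeterSystem)
  have hG1 : RGD.Sup (XX chevD4 4 K) {x | IsRoot coxeterD4.toCoxeterSystem (hp4).isCartan x} = ⊤ :=
    G1_eq_top hp4 coxeterD4.toCoxeterSystem
  have C := coords (K := K) hp4 coxeterD4.toCoxeterSystem r
  have H := coroots (K := K) hp4 coxeterD4.toCoxeterSystem r
  obtain ⟨hs, hc⟩ := Cfsg.Agent.CpAut.RgdD4.simple_D4 (F := K)
  have hconn := KFacts.RgdLieCharP.conn_of_simple R hG1 (KFacts.RgdLieCharP.center_eq_bot hc)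
  obtain ⟨σ, D⟩ := exists_diag R (_root_.Cfsg.Agent.KFacts.RgdRigid.GG_eq_top (T := TT chevD4 K) hG1) (gam_fix_U r) (gam_fix_UN r)
  have hσ : σ = s0 := by
    ext i
    congr 1
    by_contra hne
    have hi := isRoot_sr coxeterD4.toCoxeterSystem (hp4).isCartan i
    have hx : xc hp4 (sr i) (1 : K) ∈ XX chevD4 4 K (sr i) := ((C.coord _ hi).mem _).2 ⟨1, rfl⟩
    have hx1 := (C.coord _ hi).ne_one (one_ne_zero (α := K))
    have h2 := (D.pos i _).2 hx
    have h3 : gam K (xc hp4 (sr i) (1 : K)) ∈ XX chevD4 4 K (sr (s0 i)) := by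
      rw [← vec_spF i, gam_xc, rho_spF, vec_spF]
      exact ((C.coord _ (isRoot_sr coxeterD4.toCoxeterSystem (hp4).isCartan (s0 i))).mem _).2 ⟨_, rfl⟩
    have h4 : sr (σ i) ≠ (sr (s0 i) : Fin 4 → ℤ) := by
      intro h5
      have h6 := congrFun h5 (σ i)
      rw [sr_self, sr_ne hne] at h6
      exact one_ne_zero h6
    have h5 := X_inf_X R (isRoot_sr coxeterD4.toCoxeterSystem (hp4).isCartan (σ i))
      (isRoot_sr coxeterD4.toCoxeterSystem (hp4).isCartan (s0 i)) h4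
    rw [Subgroup.eq_bot_iff_forall] at h5
    exact hx1 ((gam K).injective (by rw [h5 _ ⟨h2, h3⟩, map_one]))
  subst hσ
  obtain ⟨τ', hτ'⟩ := exists_tau R C H hconn D cartan_s0
  have h1 := isRoot_sr coxeterD4.toCoxeterSystem (hp4).isCartan (1 : Fin 4)
  obtain ⟨c, hc0, e⟩ := Tau.root R C hτ' h1
  have e' : ∀ a, c * τ' a = a := by
    intro a
    have h2 := e a
    rw [sr_comp] at h2
    have e1 : s0 1 = 1 := by decide
    have e2 : rho (spF 1) = spF 1 := by decide +kernel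
    have e3 : eps (spF 1) = 1 := by decide +kernel
    rw [e1, ← vec_spF 1, gam_xc, e2, e3, Int.cast_one, one_mul] at h2
    exact ((C.coord _ (isRoot_s _ _)).inj h2).symm
  have hc1 : c = 1 := by
    have := e' 1
    rwa [map_one, mul_one] at this
  have hττ' : τ' = 1 := by
    ext a
    have := e' a
    rw [hc1, one_mul] at this
    exact this
  rw [hττ'] at hτ'
  exact hτ'

theorem s0_inv : s0⁻¹ = s0 ^ 2 := by decide

include r in
/-- **the frame form of an automorphism of order 3** -/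
theorem exists_frame {x : MulAut ↥(chevD4.group K)} (hx : x ^ 3 = 1) :
    ∃ (g : ↥(chevD4.group K)) (i : ℕ) (τ : K ≃+* K),
      Tau (TT chevD4 K) (XX chevD4 4 K) (ch hp4) (cartanOf chevD4 4) (MulAut.conj g * x) (s0 ^ i) τ ∧ τ ^ 3 = 1 := by
  have R := rgd (K := K) hp4 coxeterD4.toCoxeterSystem r
  have hW := finite_W hp4 (coxeterD4.toCoxeterSystem)
  have hG1 : RGD.Sup (XX chevD4 4 K) {x | IsRoot coxeterD4.toCoxeterSystem (hp4).isCartan x} = ⊤ :=
    G1_eq_top hp4 coxeterD4.toCoxeterSystem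
  have hG := _root_.Cfsg.Agent.KFacts.RgdRigid.GG_eq_top (T := TT chevD4 K) hG1
  have C := coords (K := K) hp4 coxeterD4.toCoxeterSystem r
  have H := coroots (K := K) hp4 coxeterD4.toCoxeterSystem r
  obtain ⟨hs, hc⟩ := Cfsg.Agent.CpAut.RgdD4.simple_D4 (F := K)
  have hconn := KFacts.RgdLieCharP.conn_of_simple R hG1 (KFacts.RgdLieCharP.center_eq_bot hc)
  obtain ⟨g, h1, h2, σ, D⟩ := exists_frame_any R hG x
  obtain ⟨g', e⟩ := exists_conj_pow g x 3
  rw [hx, mul_one] at e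
  have hpow : ∀ {S : Subgroup ↥(chevD4.group K)}, _root_.Cfsg.Agent.KFacts.RgdAut.Fix (MulAut.conj g * x) S → _root_.Cfsg.Agent.KFacts.RgdAut.Fix ((MulAut.conj g * x) ^ 3) S := by
    intro S hS
    generalize 3 = k
    induction k with
    | zero => intro y; rw [pow_zero]; exact Iff.rfl
    | succ k ih => rw [pow_succ]; exact ih.mul hS
  have hg' : g' ∈ TT chevD4 K := by
    refine mem_T_of_frame R hG ?_ ?_
    · rw [← e]; exact hpow h1
    · rw [← e]; exact hpow h2
  have hσm : σ ^ 3 = 1 := by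
    have h3 := D.pow 3
    rw [e] at h3
    have h4 := h3.mul (diag_conj R (inv_mem hg'))
    rw [← map_mul, mul_inv_cancel, map_one, mul_one] at h4
    ext i
    obtain ⟨u, hu, hu1⟩ := exists_ne_one R i
    exact congrArg Fin.val (Diag.apply_eq R h4 hu hu1 rfl)
  obtain ⟨i, rfl⟩ : ∃ i : ℕ, σ = s0 ^ i := by
    by_cases h0 : σ = 1
    · exact ⟨0, by rw [h0, pow_zero]⟩
    · rcases sym_cases σ (D.matrix R) hσm h0 with h | h
      · exact ⟨1, by rw [h, pow_one]⟩
      · exact ⟨2, by rw [h, s0_inv]⟩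
  have hA : ∀ a b, cartanOf chevD4 4 ((s0 ^ i) a) ((s0 ^ i) b) = cartanOf chevD4 4 a b :=
    ((tau_gam (K := K) r).pow i).cartan
  obtain ⟨τ, hτ⟩ := exists_tau R C H hconn D hA
  refine ⟨g, i, τ, hτ, ?_⟩
  have h3 := hτ.pow 3
  rw [e] at h3
  exact (Tau.unique R C h3 (tau_conj R C hg')).2

end Fin

/-! ### the lift -/

section Lift

variable {F : Type u} [Field F] [Finite F] {k : Type u} [Field k] (r : ℕ) [Fact r.Prime] [CharP F r] (f : F →+* k)

theorem emb_gam (a : ↥(chevD4.group F)) : emb (hp4).inList f (gam F a) = gam k (emb (hp4).inList f a) := by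
  apply Subtype.ext
  rw [coe_emb, coe_gr, coe_gr, map_mul, map_mul, map_inv, glMap_P, coe_emb]

theorem emb_gam_pow (j : ℕ) (a : ↥(chevD4.group F)) :
    emb (hp4).inList f ((gam F ^ j) a) = (gam k ^ j) (emb (hp4).inList f a) := by
  induction j generalizing a with
  | zero => rfl
  | succ j ih => rw [pow_succ, MulAut.mul_apply, ih, emb_gam, pow_succ, MulAut.mul_apply]

theorem fld_gam_pow (τ : k ≃+* k) (j : ℕ) (a : ↥(chevD4.group k)) :
    fld chevD4 τ ((gam k ^ j) a) = (gam k ^ j) (fld chevD4 τ a) := by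
  induction j generalizing a with
  | zero => rfl
  | succ j ih => rw [pow_succ, MulAut.mul_apply, ih, ← gr_fld, MulAut.mul_apply]

theorem inv_D4 : InvC chevD4 4 2 Cfsg.Agent.H28.FamFour.B4 := by
  unfold InvC
  decide +kernel

include r in
theorem lift_aux [IsAlgClosed k] {x : MulAut ↥(chevD4.group F)} {g : ↥(chevD4.group F)} {i : ℕ} {τ : F ≃+* F}
    (S : Tau (TT chevD4 F) (XX chevD4 4 F) (ch hp4) (cartanOf chevD4 4) (MulAut.conj g * x) (s0 ^ i) τ) (c : ℕ)
    {τ' : k ≃+* k} (hτ' : ∀ a, τ' (f a) = f ((τ ^ c) a)) :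
    ∃ z : ↥(chevD4.group k), ∀ a, emb (hp4).inList f ((x ^ c) a) =
      z * (gam k ^ (i * c)) (fld chevD4 τ' (emb (hp4).inList f a)) * z⁻¹ := by
  have R := rgd (K := F) hp4 coxeterD4.toCoxeterSystem r
  have hG1 : RGD.Sup (XX chevD4 4 F) {x | IsRoot coxeterD4.toCoxeterSystem (hp4).isCartan x} = ⊤ :=
    G1_eq_top hp4 coxeterD4.toCoxeterSystem
  obtain ⟨hs, hc⟩ := Cfsg.Agent.CpAut.RgdD4.simple_D4 (F := F)
  have hconn := KFacts.RgdLieCharP.conn_of_simple R hG1 (KFacts.RgdLieCharP.center_eq_bot hc)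
  obtain ⟨g', e⟩ := exists_conj_pow g x c
  have S1 := S.pow c
  rw [e] at S1
  have S2 := S1.mul ((tau_gam (K := F) r).pow (i * c)).inv
  rw [← pow_mul, mul_inv_cancel, one_pow, inv_one, mul_one] at S2
  obtain ⟨t, ht, et⟩ := exists_ext hp4 f r hconn inv_D4 two_ne_zero
    (fun c _ => IsAlgClosed.exists_pow_nat_eq (f c) two_pos) S2 hτ'
  refine ⟨(emb (hp4).inList f g')⁻¹ * t, fun a => ?_⟩
  have h1 := et ((gam F ^ (i * c)) a)
  rw [MulAut.mul_apply, MulAut.inv_apply_self, MulAut.mul_apply, MulAut.conj_apply, map_mul, map_mul, map_inv,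
    emb_gam_pow, fld_gam_pow] at h1
  have h2 : emb (hp4).inList f ((x ^ c) a) = (emb (hp4).inList f g')⁻¹ * (emb (hp4).inList f g' *
    emb (hp4).inList f ((x ^ c) a) * (emb (hp4).inList f g')⁻¹) * emb (hp4).inList f g' := by group
  rw [h2, h1]
  group

end Lift

/-! ### the theorem -/

section Main

variable {r : ℕ} [Fact r.Prime]

theorem center_bot (k : Type u) [Field k] : center ↥(chevD4.group k) = ⊥ := by
  obtain ⟨hs, hc⟩ := Cfsg.Agent.CpAut.RgdD4.simple_D4 (F := k)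
  exact KFacts.RgdLieCharP.center_eq_bot hc

/-- **TRI-10.** -/
theorem lift_D4' {F : Type} [Field F] [Fintype F] [CharP F r] {n : ℕ} (hn : Fintype.card F = r ^ n)
    (f : F →+* KK r) {x : MulAut ↥(chevD4.group F)} (hx : x ^ 3 = 1) :
    ∃ (c i m : ℕ) (y : Y4 r), c.Coprime 3 ∧ (m = 0 ∨ n = 3 * m) ∧ phi chevD4 (KK r) r n y = y ∧
      ∀ a, emb (hp4).inList f ((x ^ c) a) =
        y * (gr4 r ^ i) (phi chevD4 (KK r) r m (emb (hp4).inList f a)) * y⁻¹ := by
  have hn' : Nat.card F = r ^ n := by rw [Nat.card_eq_fintype_card, hn]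
  have hk : LocFin (KK r) := locFin_of_isAlgebraic r _
  obtain ⟨g, i, τ, S, hτ3⟩ := exists_frame r hx
  have key : ∀ (c m : ℕ), (∀ a, frb (KK r) r m (f a) = f ((τ ^ c) a)) → ∃ y : Y4 r, phi chevD4 (KK r) r n y = y ∧
      ∀ a, emb (hp4).inList f ((x ^ c) a) =
        y * (gr4 r ^ (i * c)) (phi chevD4 (KK r) r m (emb (hp4).inList f a)) * y⁻¹ := by
    intro c m hcm
    obtain ⟨z, hz⟩ := lift_aux r f S c hcm
    refine ⟨z, ?_, hz⟩
    have hcomm : ∀ b : Y4 r, phi chevD4 (KK r) r n ((gam (KK r) ^ (i * c)) (phi chevD4 (KK r) r m b)) =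
        (gam (KK r) ^ (i * c)) (phi chevD4 (KK r) r m (phi chevD4 (KK r) r n b)) := by
      intro b
      have h1 : phi chevD4 (KK r) r n (phi chevD4 (KK r) r m b) = phi chevD4 (KK r) r m (phi chevD4 (KK r) r n b) := by
        show fld chevD4 _ (fld chevD4 _ b) = fld chevD4 _ (fld chevD4 _ b)
        rw [← MulAut.mul_apply, ← MulAut.mul_apply, ← fld_mul, ← fld_mul]
        congr 2
        ext a
        rw [RingAut.mul_apply, RingAut.mul_apply, frb_apply, frb_apply, frb_apply, frb_apply, ← pow_mul, ← pow_mul,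
          mul_comm]
      have h2 := fld_gam_pow (k := KK r) (frb (KK r) r n) (i * c) (phi chevD4 (KK r) r m b)
      rw [← h1]
      exact h2
    obtain ⟨w, hw⟩ : ∃ w : Y4 r, (gam (KK r) ^ (i * c)) (phi chevD4 (KK r) r m w) = z⁻¹ * phi chevD4 (KK r) r n z :=
      ⟨(phi chevD4 (KK r) r m).symm ((gam (KK r) ^ (i * c)).symm (z⁻¹ * phi chevD4 (KK r) r n z)), by
        rw [MulEquiv.apply_symm_apply, MulEquiv.apply_symm_apply]⟩
    have hw1 : w = 1 := by
      refine eq_one_of_comm hp4 hk r f (center_bot _) fun a => ?_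
      apply (phi chevD4 (KK r) r m).injective
      apply (gam (KK r) ^ (i * c)).injective
      rw [map_mul, map_mul, map_mul, map_mul, hw]
      have h1 := hz a
      have h2 := congrArg (phi chevD4 (KK r) r n) h1
      rw [phi_emb hp4 r f hn', map_mul, map_mul, map_inv, h1] at h2
      have h3 := hcomm (emb (hp4).inList f a)
      rw [phi_emb hp4 r f hn'] at h3
      have h4 : phi chevD4 (KK r) r n ((gam (KK r) ^ (i * c)) (fld chevD4 (frb (KK r) r m) (emb (hp4).inList f a))) =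
        (gam (KK r) ^ (i * c)) (fld chevD4 (frb (KK r) r m) (emb (hp4).inList f a)) := h3
      rw [h4] at h2
      have h5 : z * (gam (KK r) ^ (i * c)) (phi chevD4 (KK r) r m (emb (hp4).inList f a)) * z⁻¹ =
        phi chevD4 (KK r) r n z * (gam (KK r) ^ (i * c)) (phi chevD4 (KK r) r m (emb (hp4).inList f a)) *
          (phi chevD4 (KK r) r n z)⁻¹ := h2
      generalize (gam (KK r) ^ (i * c)) (phi chevD4 (KK r) r m (emb (hp4).inList f a)) = b at h5 ⊢
      generalize phi chevD4 (KK r) r n z = z' at h5 ⊢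
      have h6 : b = z⁻¹ * (z' * b * z'⁻¹) * z := by rw [← h5]; group
      calc z⁻¹ * z' * b = z⁻¹ * (z' * b * z'⁻¹) * z * (z⁻¹ * z') := by group
        _ = b * (z⁻¹ * z') := by rw [← h6]
    rw [hw1, map_one, map_one] at hw
    exact (inv_mul_eq_one.1 hw.symm).symm
  by_cases hτ1 : τ = 1
  · subst hτ1
    obtain ⟨y, hy, h⟩ := key 1 0 fun a => by rw [frb_apply, pow_zero, pow_one, pow_one]; rfl
    exact ⟨1, i * 1, 0, y, Nat.coprime_one_left 3, Or.inl rfl, hy, h⟩
  · obtain ⟨c, m, hc, hm0, hcard, hfr⟩ := exists_field r Nat.prime_three hτ3 hτ1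
    have hmn : n = 3 * m := by
      rw [hn'] at hcard
      rw [Nat.pow_right_injective (Fact.out : r.Prime).two_le hcard, mul_comm]
    obtain ⟨y, hy, h⟩ := key c m fun a => by rw [frb_apply, hfr, map_pow]
    exact ⟨c, i * c, m, y, hc, Or.inr hmn, hy, h⟩

/-- **TRI-10**, as in `tools/plans/S2187_tri.lean`. -/
theorem lift_D4 (_hr5 : 5 ≤ r) {F : Type} [Field F] [Fintype F] [CharP F r] {n : ℕ} (hn : Fintype.card F = r ^ n)
    (f : F →+* KK r) {x : MulAut ↥(chevD4.group F)} (hx : orderOf x = 3) :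
    ∃ (c i m : ℕ) (y : Y4 r), c.Coprime 3 ∧ (m = 0 ∨ n = 3 * m) ∧ phi chevD4 (KK r) r n y = y ∧
      ∀ a, emb Cfsg.Agent.Nodes.RGDTwD4.hp.inList f ((x ^ c) a) =
        y * (gr4 r ^ i) (phi chevD4 (KK r) r m (emb Cfsg.Agent.Nodes.RGDTwD4.hp.inList f a)) * y⁻¹ :=
  lift_D4' hn f (by rw [← hx, pow_orderOf_eq_one])

end Main

end Cfsg.Agent.H388.Tri.Lift
end

-- part: H350/Tri/Fin
section
prune_inst 0x40038040000020000000582f1002204140004b000208c01c5410a440200e32209a02900050011014208a20100010020020000c000100000002004000001000010824200f389010466009e800086000000000000000000000000000000000004000000000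
set_option linter.all false
open scoped Cfsg.Agent.FastGrp

-- part: H350/Tri/Str
section
/-!
# S2187, row TRI: the components of the centraliser of an element of order `3` (helper350)

* `compK_of_compY` : transport of `CompY` along `a ↦ z⁻¹ ι a z`;
* `compK` : `CompK m.ι e` from the pieces TRI-5 .. TRI-8.
-/

set_option autoImplicit false
set_option linter.unusedSectionVars false

namespace Cfsg.Agent.H350.Tri

open CoxeterSystem Cfsg Cfsg.Lie Cfsg.Agent.ChevalleyStructure Cfsg.Agent.ChevalleyStructure.Elts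
open Cfsg.Agent.ChevalleyStructure.CoxeterGeom Cfsg.Agent.ChevalleyStructure.CoxeterGeomTypes
  Cfsg.Agent.ChevalleyStructure.NPerm
open Cfsg.Agent.Tits.Roots Cfsg.Agent.Tits.Core Cfsg.Agent.Nodes Cfsg.Agent.Nodes.Reps Cfsg.Agent.Nodes.BNOf
  Cfsg.Agent.Nodes.Bruhat Cfsg.Agent.Nodes.RGDChev
open Cfsg.Agent.KFacts.RgdField Cfsg.Agent.KFacts.RgdChevCoord
open Cfsg.Agent.BpExc Cfsg.Agent.BpExc.TorCent Cfsg.Agent.BpExc.TorChev Cfsg.Agent.BpExc.Tow
  Cfsg.Agent.BpExc.TowChev Cfsg.Agent.BpExc.Fr Cfsg.Agent.BpExc.Pair Cfsg.Agent.BpExc.LangFr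
open Cfsg.Agent.H469.Exc Cfsg.Agent.H818.Gen Cfsg.Agent.H316.U6 Cfsg.Agent.H316.U3

universe u v

variable {r : ℕ} [hrf : Fact r.Prime]

theorem compK_of_compY {K₀ : Type v} [Group K₀] {ι : K₀ →* Y4 r} (hι : Function.Injective ι)
    {τ : MulAut (Y4 r)} {S : Set (Fin 4 → ℤ)} {e z : Y4 r} (h : CompY τ S)
    (hS : ∀ u : Y4 r, (u ∈ RGD.Sup (XX chevD4 4 (KK r)) S ∧ τ u = u ∧ ∃ j, u ^ r ^ j = 1) ↔
      ∃ a : K₀, (e * ι a = ι a * e ∧ ∃ j, a ^ r ^ j = 1) ∧ z⁻¹ * ι a * z = u) : CompK ι e := by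
  obtain ⟨n, hn, K, h1, h2, h3, h4⟩ := h
  let j : K₀ →* Y4 r := (MulAut.conj z⁻¹).toMonoidHom.comp ι
  have hj : Function.Injective j := (MulAut.conj z⁻¹).injective.comp hι
  have hja : ∀ a, j a = z⁻¹ * ι a * z := fun a => by
    show z⁻¹ * ι a * z⁻¹⁻¹ = _
    rw [inv_inv]
  have e1 : {u : Y4 r | u ∈ RGD.Sup (XX chevD4 4 (KK r)) S ∧ τ u = u ∧ ∃ j, u ^ r ^ j = 1} =
      j '' {u : K₀ | e * ι u = ι u * e ∧ ∃ j, u ^ r ^ j = 1} := by
    ext u
    rw [Set.mem_ofPred_eq, hS u]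
    constructor
    · rintro ⟨a, ha, rfl⟩
      exact ⟨a, ha, hja a⟩
    · rintro ⟨a, ha, rfl⟩
      exact ⟨a, ha, (hja a).symm⟩
  rw [e1, ← MonoidHom.map_closure] at h4
  have hle : ∀ i, K i ≤ j.range := fun i =>
    (le_iSup K i).trans (h4 ▸ Subgroup.map_le_range j _)
  have hmap : ∀ i, ((K i).comap j).map j = K i := fun i => Subgroup.map_comap_eq_self (hle i)
  have heq : ∀ i, Nonempty (↥((K i).comap j) ≃* ↥(K i)) := fun i =>
    ⟨(((K i).comap j).equivMapOfInjective j hj).trans (MulEquiv.subgroupCongr (hmap i))⟩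
  refine ⟨n, hn, fun i => (K i).comap j, fun i => ?_, fun i => ?_, ?_, ?_⟩
  · exact SignalizersComponents.PCompQuot.quasisimple_congr (heq i).some.symm (h1 i)
  · exact (h2 i).congr (heq i).some.symm
  · intro i i' hii a ha b hb
    apply hj
    rw [map_mul, map_mul]
    exact h3 i i' hii _ ha _ hb
  · apply Subgroup.map_injective hj
    rw [Subgroup.map_iSup, ← h4]
    exact iSup_congr hmap

theorem hp4 : IsType chevD4 4 coxeterD4 := Cfsg.Agent.Nodes.RGDTwD4.hp

/-- the Coxeter system of type `D₄` -/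
noncomputable abbrev cs4 : CoxeterSystem coxeterD4 (CoxeterMatrix.Group coxeterD4) := coxeterD4.toCoxeterSystem

/-- the hypotheses TRI-5 .. TRI-8 -/
structure Pieces (r : ℕ) [Fact r.Prime] : Prop where
  comp : ∀ (S : Set (Fin 4 → ℤ)), S = A2std ∨ S = A1std → ∀ {e : ℕ}, 0 < e → ∀ {τ : MulAut (Y4 r)}, IsFrob r e τ →
    ∀ {g : (Fin 4 → ℤ) ≃+ (Fin 4 → ℤ)},
    Fr cs4 (hp4).isCartan (TT chevD4 (KK r)) (XX chevD4 4 (KK r)) τ g →
    (∀ a ∈ S, g a ∈ S) → (∀ a ∈ S, 0 ≤ a → 0 ≤ g a) → CompY τ S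
  exc : ∀ {t : Y4 r}, t ∈ TT chevD4 (KK r) → t ^ 3 = 1 → t ≠ 1 →
    (∃ (z : Y4 r) (i : ℕ) (n : ℕ), ¬ 3 ∣ i ∧ z * ((gr4 r) ^ i) (t ^ n) * z⁻¹ = t) →
    ∃ n : Y4 r, n * t * n⁻¹ ∈ TT chevD4 (KK r) ∧ (Roots (n * t * n⁻¹) = A2std ∨ Roots (n * t * n⁻¹) = A1std)
  rmm : ∀ {t u : Y4 r}, t ∈ TT chevD4 (KK r) → t ^ 3 = 1 → u * t = t * u → (∃ j, u ^ r ^ j = 1) → u ∈ MMt t

/-- **The components of the centraliser.** -/
theorem compK (P : Pieces r) (hr3 : r ≠ 3) {q : ℕ} {K₀ : Type v} [Group K₀] (m : MData hp4 r q K₀)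
    {e : Y4 r} (he3 : e ^ 3 = 1) (he1 : e ≠ 1) (hσe : m.σ e = e)
    (hfus : ∃ (z : Y4 r) (i : ℕ) (n : ℕ), ¬ 3 ∣ i ∧ z * ((gr4 r) ^ i) (e ^ n) * z⁻¹ = e) : CompK m.ι e := by
  have hk := locFin r
  have : Finite (CoxeterMatrix.Group coxeterD4) := finite_W hp4 cs4
  have H := tow (k := KK r) hp4 cs4 hk r
  have hTL := TL_eq (k := KK r) hp4 hk
  have hXL := XL_eq (k := KK r) hp4 hk
  have C := coordsL (k := KK r) hp4 cs4 hk r
  have hA := chAddL (k := KK r) hp4 cs4 hk r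
  have hG := GG_eq_top (k := KK r) hp4 cs4 hk
  -- the torus
  obtain ⟨z₀, hz₀⟩ : ∃ z₀ : Y4 r, z₀ * e * z₀⁻¹ ∈ TT chevD4 (KK r) := by
    have hfin : Finite ↥(Subgroup.zpowers e) := by
      have : IsOfFinOrder e := isOfFinOrder_iff_pow_eq_one.2 ⟨3, by norm_num, he3⟩
      exact this.finite_zpowers
    have hE : IsElementaryAbelian 3 (Subgroup.zpowers e) := by
      refine ⟨⟨⟨fun a b => ?_⟩⟩, fun a ha => ?_⟩
      · obtain ⟨a, ha⟩ := a
        obtain ⟨b, hb⟩ := b
        obtain ⟨i, rfl⟩ := Subgroup.mem_zpowers_iff.1 ha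
        obtain ⟨j, rfl⟩ := Subgroup.mem_zpowers_iff.1 hb
        exact Subtype.ext ((Commute.refl e).zpow_zpow i j)
      · obtain ⟨i, rfl⟩ := Subgroup.mem_zpowers_iff.1 ha
        rw [← zpow_natCast, zpow_comm, zpow_natCast, he3, one_zpow]
    obtain ⟨z, hz⟩ := Tor.exists_toral (r := r) hp4 Nat.prime_three hr3.symm (Or.inr ⟨rfl, Or.inr rfl⟩) hE
    exact ⟨z, hz e (Subgroup.mem_zpowers e)⟩
  obtain ⟨n₁, hn₁, hRoots⟩ := P.exc hz₀ (by rw [conj_pow, he3, mul_one, mul_inv_cancel])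
    (fun h => he1 (by
      have h1 : z₀ * e * z₀⁻¹ = 1 := h
      rwa [conj_eq_one_iff] at h1)) (by
      obtain ⟨z, i, n, hi, hz⟩ := hfus
      refine ⟨z₀ * z * ((gr4 r ^ i) z₀)⁻¹, i, n, hi, ?_⟩
      rw [conj_pow, map_mul, map_mul, map_inv]
      calc z₀ * z * ((gr4 r ^ i) z₀)⁻¹ * ((gr4 r ^ i) z₀ * (gr4 r ^ i) (e ^ n) * ((gr4 r ^ i) z₀)⁻¹) *
            (z₀ * z * ((gr4 r ^ i) z₀)⁻¹)⁻¹ = z₀ * (z * (gr4 r ^ i) (e ^ n) * z⁻¹) * z₀⁻¹ := by group
        _ = _ := by rw [hz])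
  set t : Y4 r := n₁ * (z₀ * e * z₀⁻¹) * n₁⁻¹ with ht
  have ht' : t ∈ TL (Tj hp4 (k := KK r)) := by rw [hTL]; exact hn₁
  have C' : Coords cs4 (hp4).isCartan (TL (Tj hp4 (k := KK r))) (nc hp4 (KK r)) (XL (Xj hp4 (k := KK r)))
      (xc hp4) (ch hp4) := by
    rw [hTL, hXL]; exact C
  have hA' : ChAdd cs4 (hp4).isCartan (TL (Tj hp4 (k := KK r))) (ch (K := KK r) hp4) := by rw [hTL]; exact hA
  have Fσ' : Fr cs4 (hp4).isCartan (TL (Tj hp4 (k := KK r))) (XL (Xj hp4 (k := KK r))) m.σ m.g := by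
    rw [hTL, hXL]; exact m.fr
  obtain ⟨z', k', g', h1, h2, h3, h4, h5⟩ := pair_reduction H C' hA' hG Fσ' hσe (z := (n₁ * z₀)⁻¹) (t := t)
    (by rw [ht]; group) ht' (fun k' g' F' htt m' hm => by
      have h1 := fun a => F'.mem_Sx C' ht' htt a
      rw [hTL, hXL] at F'
      rw [hXL] at hm ⊢
      exact lang_fr hp4 cs4 m.he (m.frob.conj_mul k') F' (S := Sx cs4 (hp4).isCartan (ch hp4) t) (fun a ha => ha.1)
        (fun a ha => (h1 a).2 ha) hm)
  have hgS : ∀ a, g' a ∈ Sx cs4 (hp4).isCartan (ch hp4) t ↔ a ∈ Sx cs4 (hp4).isCartan (ch hp4) t := fun a =>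
    h3.mem_Sx C' ht' h4 a
  rw [hTL, hXL] at h3
  have hcomp : CompY (MulAut.conj k' * m.σ) (Roots t) :=
    P.comp (Roots t) hRoots m.he (m.frob.conj_mul k') h3 (fun a ha => (hgS a).2 ha) (fun a ha h0 => h5 a ha h0)
  have ht3 : t ^ 3 = 1 := by rw [ht, conj_pow, conj_pow, he3]; group
  refine compK_of_compY m.inj (z := z') hcomp fun u => ?_
  have hzz : z' * t * z'⁻¹ = e := by rw [← h1]; group
  constructor
  · rintro ⟨hu, hτu, j, hj⟩
    have hσ : m.σ (z' * u * z'⁻¹) = z' * u * z'⁻¹ := by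
      have h6 : k' * m.σ u * k'⁻¹ = u := hτu
      rw [map_mul, map_mul, map_inv]
      have h7 : m.σ z' = z' * k' := by rw [← h2]; group
      rw [h7]
      calc z' * k' * m.σ u * (z' * k')⁻¹ = z' * (k' * m.σ u * k'⁻¹) * z'⁻¹ := by group
        _ = _ := by rw [h6]
    have hj' : (z' * u * z'⁻¹) ^ r ^ j = 1 := by rw [conj_pow, hj]; group
    obtain ⟨a, ha⟩ := m.exists_eq hσ ⟨j, hj'⟩
    refine ⟨a, ⟨?_, j, ?_⟩, ?_⟩
    · rw [ha]
      have h8 : u * t = t * u := by
        have h9 : u ∈ MM cs4 (hp4).isCartan (XX chevD4 4 (KK r)) (ch hp4) t := hu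
        have h10 := MM_le_centralizer C hn₁ h9
        exact Subgroup.mem_centralizer_singleton_iff.1 h10
      rw [← hzz]
      calc z' * t * z'⁻¹ * (z' * u * z'⁻¹) = z' * (t * u) * z'⁻¹ := by group
        _ = z' * (u * t) * z'⁻¹ := by rw [h8]
        _ = _ := by group
    · apply m.inj
      rw [map_pow, ha, hj', map_one]
    · rw [ha]; group
  · rintro ⟨a, ⟨hea, j, hj⟩, rfl⟩
    have hj' : (z'⁻¹ * m.ι a * z') ^ r ^ j = 1 := by
      have h6 : z'⁻¹ * m.ι a * z' = z'⁻¹ * m.ι a * z'⁻¹⁻¹ := by rw [inv_inv]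
      rw [h6, conj_pow, ← map_pow, hj, map_one]; group
    refine ⟨P.rmm hn₁ ht3 ?_ ⟨j, hj'⟩, ?_, j, hj'⟩
    · rw [← h1]
      calc z'⁻¹ * m.ι a * z' * (z'⁻¹ * e * z') = z'⁻¹ * (m.ι a * e) * z' := by group
        _ = z'⁻¹ * (e * m.ι a) * z' := by rw [hea]
        _ = _ := by group
    · show k' * m.σ (z'⁻¹ * m.ι a * z') * k'⁻¹ = _
      rw [map_mul, map_mul, map_inv, m.fix]
      have h7 : m.σ z' = z' * k' := by rw [← h2]; group
      rw [h7]
      group

end Cfsg.Agent.H350.Tri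
end

-- part: H350/Tri/Top
section
/-!
# Generation by the `r`-elements of the centralisers of the hyperplanes of a toral group (S2187, row TRI)

`gen_top_r` : the form of `H225.Gen.gen_top` with the `r`-elements only (same proof, helper225).
-/

set_option autoImplicit false
set_option linter.unusedSectionVars false
set_option linter.unusedVariables false

namespace Cfsg.Agent.H350.Tri

open CoxeterSystem Cfsg Cfsg.Lie Cfsg.Lie.ChevalleyDatum
open Cfsg.Agent.ChevalleyStructure Cfsg.Agent.ChevalleyStructure.Elts Cfsg.Agent.ChevalleyStructure.CoxeterGeom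
  Cfsg.Agent.ChevalleyStructure.CoxeterGeomTypes Cfsg.Agent.ChevalleyStructure.NPerm
  Cfsg.Agent.ChevalleyStructure.XColumns
open Cfsg.Agent.Tits.Roots Cfsg.Agent.Tits.Core Cfsg.Agent.Nodes Cfsg.Agent.Nodes.Reps Cfsg.Agent.Nodes.BNOf
  Cfsg.Agent.Nodes.RGDChev Cfsg.Agent.Nodes.Bruhat Cfsg.Agent.Nodes.NormalForm Cfsg.Agent.Nodes.StabComb
  Cfsg.Agent.Nodes.Coroot Cfsg.Agent.Nodes.SubComb
open Cfsg.Agent.KFacts.RgdField Cfsg.Agent.KFacts.RgdChevCoord
open Cfsg.Agent.BpExc Cfsg.Agent.BpExc.TorCent Cfsg.Agent.BpExc.TorChev Cfsg.Agent.BpExc.Tow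
  Cfsg.Agent.BpExc.TowChev Cfsg.Agent.BpExc.Fr Cfsg.Agent.BpExc.Pair Cfsg.Agent.BpExc.LangFr Cfsg.Agent.GpExc.Field
  Cfsg.Agent.BpExc.NInst Cfsg.Agent.BpExc.NChev Cfsg.Agent.BpExc.Asm Cfsg.Agent.BpExc.CommZ
open Cfsg.Agent.H818.StrP.UTab Cfsg.Agent.H818.StrP.UAct Cfsg.Agent.H123.ExcComb Cfsg.Agent.H696.GmnToral
open Cfsg.Agent.H225.Gen
open Cfsg.Agent.H469.Exc Cfsg.Agent.H469.Exc.SigFr Cfsg.Agent.H316.U3 Cfsg.Agent.H316.U6
open scoped commutatorElement Matrix

universe u v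

variable {D : ChevalleyDatum} {l : ℕ} {M : CoxeterMatrix (Fin l)} (h : HiList D) {hp : IsType D l M}
  {r q : ℕ} [hr : Fact r.Prime] {K₀ : Type v} [Group K₀]

include h in
/-- **Generation by the centralisers of the hyperplanes.** -/
theorem gen_top_r (m : MData hp r q K₀) [Finite K₀] [IsSimpleGroup K₀] (hq : 3 ≤ q) (hG2 : D = chevG2 → 4 ≤ q)
    {p : ℕ} (hpp : p.Prime) {E : Subgroup ↥(D.group (KK r))} [Finite ↥E] (hEp : ∀ a ∈ E, a ^ p = 1)
    (hyp : ∃ F ≤ E, (F.subgroupOf E).index = p) (hEσ : ∀ a ∈ E, m.σ a = a)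
    {z : ↥(D.group (KK r))} (hz : ∀ a ∈ E, z * a * z⁻¹ ∈ TT D (KK r))
    (hNS : ¬ p ∣ q ^ 2 + 1 ∨ ∀ w, ∃ x,
      rep M.toCoxeterSystem hp.isCartan w (m.g (rep M.toCoxeterSystem hp.isCartan w (m.g x))) ≠ -x)
    {M₀ : Subgroup K₀} (hM : ∀ F ≤ E, (F.subgroupOf E).index = p → ∀ a : K₀, (∀ x ∈ F, m.ι a * x = x * m.ι a) →
      (∃ j, a ^ r ^ j = 1) → a ∈ M₀) : M₀ = ⊤ := by
  have hk := locFin r
  have hZ := center_KK h r
  have hd := density m hq hG2
  have hD : 0 < D.nroots := ChevalleyStructure.RootVec.nroots_pos h.checked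
  have hq1 : 1 < q := by omega
  obtain ⟨F, hF, hFi, y, hy, hcomm⟩ := long_fixed h hp M.toCoxeterSystem hk m.he hZ m.frob m.fr m.top hpp hEp hyp
    hEσ hz (by rw [m.hq]; exact hNS)
  have hyi : m.σ y⁻¹ = y⁻¹ := by rw [map_inv, hy]
  -- the subgroups
  set HH : Subgroup ↥(D.group (KK r)) := M₀.map m.ι with hHH
  set H' : Subgroup ↥(D.group (KK r)) := HH.map (MulAut.conj y⁻¹).toMonoidHom with hH'
  have hmem : ∀ u, u ∈ H' ↔ y * u * y⁻¹ ∈ HH := by
    intro u
    constructor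
    · rintro ⟨v, hv, rfl⟩
      have : y * ((MulAut.conj y⁻¹).toMonoidHom v) * y⁻¹ = v := by
        show y * (y⁻¹ * v * y⁻¹⁻¹) * y⁻¹ = v
        group
      rw [this]; exact hv
    · intro hu
      refine ⟨_, hu, ?_⟩
      show y⁻¹ * (y * u * y⁻¹) * y⁻¹⁻¹ = u
      group
  have hσ' : ∀ u ∈ H', m.σ u = u := by
    intro u hu
    obtain ⟨a, -, ha⟩ := (hmem u).1 hu
    have h1 := m.fix a
    rw [ha, map_mul, map_mul, hy, hyi] at h1
    exact mul_left_cancel (mul_right_cancel h1)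
  have hA : ∀ F ≤ E, (F.subgroupOf E).index = p → ∀ u, m.σ u = u → (∀ x ∈ F, u * x = x * u) →
      (∃ j, u ^ r ^ j = 1) → u ∈ HH := by
    intro F hF hFi u hu hux hur
    obtain ⟨a, rfl⟩ := m.exists_eq hu hur
    obtain ⟨j, hj⟩ := hur
    exact ⟨a, hM F hF hFi a hux ⟨j, m.inj (by rw [map_pow, hj, map_one])⟩, rfl⟩
  have hθ : IsRoot M.toCoxeterSystem hp.isCartan (th D l) := th_root h hp M.toCoxeterSystem
  have hA1 : ∀ u, m.σ u = u → (u ∈ XX D l (KK r) (th D l) ∨ u ∈ XX D l (KK r) (-th D l)) → u ∈ H' := by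
    intro u hu hux
    rw [hmem]
    refine hA F hF hFi _ (by rw [map_mul, map_mul, hy, hyi, hu]) (hcomm u hux) ?_
    obtain ⟨j, hj⟩ : ∃ j, u ^ r ^ j = 1 := by
      rcases hux with h1 | h1
      · exact pow_of_rootD hp M.toCoxeterSystem hk r hθ h1
      · exact pow_of_rootD hp M.toCoxeterSystem hk r hθ.neg h1
    exact ⟨j, by rw [conj_pow, hj, mul_one, mul_inv_cancel]⟩
  -- the submodule
  set L : Submodule (KK r) (D.Idx → KK r) := Submodule.span (KK r)
      {v | ∃ h ∈ H', v = ((h : GL D.Idx (KK r)) : Matrix D.Idx D.Idx (KK r)) *ᵥ ev D (KK r) (D.nroots - 1)} with hLdef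
  have hLH : ∀ h ∈ H', StabU L h := by
    intro h hh v hv
    have h1 : L ≤ L.comap (((h : GL D.Idx (KK r)) : Matrix D.Idx D.Idx (KK r)).mulVecLin) := by
      refine Submodule.span_le.2 ?_
      rintro _ ⟨h', hh', rfl⟩
      refine Submodule.subset_span ⟨h * h', mul_mem hh hh', ?_⟩
      rw [Matrix.mulVecLin_apply, Matrix.mulVec_mulVec]
      rfl
    exact h1 hv
  have hLtop : ev D (KK r) (D.nroots - 1) ∈ L := Submodule.subset_span ⟨1, one_mem _, by
    rw [Subgroup.coe_one, Units.val_one, Matrix.one_mulVec]⟩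
  have hall : ∀ u : ↥(D.group (KK r)), StabU L u := by
    intro u
    have h1 := stabU_topF hp M.toCoxeterSystem hk m.he hd m.frob m.fr hpp hEp hyp hEσ hz (L := tr L y⁻¹)
      (fun F hF hFi v hv hvx hvr => by
        rw [stabU_tr, inv_inv]
        refine hLH _ ((hmem _).2 ?_)
        have e1 : y * (y⁻¹ * v * y) * y⁻¹ = v := by group
        rw [e1]
        exact hA F hF hFi v hv hvx hvr) (y * u * y⁻¹)
    rw [stabU_tr, inv_inv] at h1
    have e1 : y⁻¹ * (y * u * y⁻¹) * y = u := by group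
    rwa [e1] at h1
  -- Theorem Z
  obtain ⟨i₀, hi, hi1, hZt⟩ := H818.StrP.UThm.thmZ m h hq
  obtain ⟨h1, h2⟩ := hZt H' hσ' (fun u hu hux => hA1 u hu (Or.inl hux)) (fun u hu hux => hA1 u hu (Or.inr hux))
    (fun s hs => by
      have h3 := H549.Exc.all_of_top hp.inList (L := L) (fun g v hv => hall g v hv) hLtop ⟨s, hs⟩
      rw [ChevalleyStructure.XColumns.ev_eq_single hs]
      exact h3)
  -- the conclusion
  have hN : NQ m i₀ ≤ H'.comap m.ι := by
    refine (Subgroup.closure_le _).2 ?_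
    rintro a (ha | ha)
    · exact h1 _ (m.fix a) ha
    · exact h2 _ (m.fix a) ha
  have hn := NQ_normal m hi
  have htop : H'.comap m.ι = ⊤ := by
    rcases hn.eq_bot_or_eq_top with h3 | h3
    · exfalso
      obtain ⟨a, ha1, ha⟩ := exists_top m hD hq1
      refine ha1 (Subgroup.mem_bot.1 ?_)
      rw [← h3]
      refine Subgroup.subset_closure (Or.inl ?_)
      exact RGD.le_Sup (X := XX D l (KK r)) (S := {a | IsRoot M.toCoxeterSystem hp.isCartan a ∧ 1 ≤ a i₀})
        ⟨hθ, hi1⟩ ha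
    · exact top_le_iff.1 (h3 ▸ hN)
  have h3 : Nat.card K₀ ≤ Nat.card ↥M₀ := by
    let f : K₀ → ↥M₀ := fun a => ⟨((hmem _).1 (show m.ι a ∈ H' from by
      have : a ∈ H'.comap m.ι := by rw [htop]; exact Subgroup.mem_top a
      exact this)).choose, ((hmem _).1 (show m.ι a ∈ H' from by
      have : a ∈ H'.comap m.ι := by rw [htop]; exact Subgroup.mem_top a
      exact this)).choose_spec.1⟩
    refine Nat.card_le_card_of_injective f ?_
    intro a b hab
    have ha := ((hmem _).1 (show m.ι a ∈ H' from by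
      have : a ∈ H'.comap m.ι := by rw [htop]; exact Subgroup.mem_top a
      exact this)).choose_spec.2
    have hb := ((hmem _).1 (show m.ι b ∈ H' from by
      have : b ∈ H'.comap m.ι := by rw [htop]; exact Subgroup.mem_top b
      exact this)).choose_spec.2
    have hab' := congrArg (fun x : ↥M₀ => m.ι x.1) hab
    simp only [f] at hab'
    rw [ha, hb] at hab'
    exact m.inj (mul_left_cancel (mul_right_cancel hab'))
  exact Subgroup.eq_top_of_le_card _ h3


end Cfsg.Agent.H350.Tri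
end

-- part: H350/Tri/Abs
section
/-!
# S2187, row TRI: abstract group theory (helper350)

* `enlarge` : enlarging an elementary abelian subgroup `E` of `X` so that `|E' ⊓ N| ≥ p ^ 2`;
* `Lift` : automorphisms of `Y` inducing automorphisms of `K₀`.
-/

set_option autoImplicit false
set_option linter.unusedSectionVars false

namespace Cfsg.Agent.H350.Tri

open Cfsg Subgroup Cfsg.Agent.H818.Gen

section grp

variable {X : Type*} [Group X] {p : ℕ}

theorem elab_comm {E : Subgroup X} (hE : IsElementaryAbelian p E) {a b : X} (ha : a ∈ E) (hb : b ∈ E) : a * b = b * a :=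
  congrArg (fun z : ↥E => (z : X)) (hE.1.1.1 ⟨a, ha⟩ ⟨b, hb⟩)

theorem elab_mk {E : Subgroup X} (h1 : ∀ a ∈ E, ∀ b ∈ E, a * b = b * a) (h2 : ∀ a ∈ E, a ^ p = 1) :
    IsElementaryAbelian p E :=
  ⟨⟨⟨fun a b => Subtype.ext (h1 a a.2 b b.2)⟩⟩, h2⟩

/-- two commuting elementary abelian subgroups -/
theorem elab_sup {A B : Subgroup X} (hA : IsElementaryAbelian p A) (hB : IsElementaryAbelian p B)
    (h : ∀ a ∈ A, ∀ b ∈ B, a * b = b * a) : IsElementaryAbelian p (A ⊔ B) ∧
      ∀ x ∈ A ⊔ B, ∃ a ∈ A, ∃ b ∈ B, a * b = x := by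
  have hs : ∀ x ∈ A ⊔ B, ∃ a ∈ A, ∃ b ∈ B, a * b = x := by
    have hN : ∃ S : Subgroup X, ∀ x, x ∈ S ↔ ∃ a ∈ A, ∃ b ∈ B, a * b = x := by
      refine ⟨⟨⟨⟨{x | ∃ a ∈ A, ∃ b ∈ B, a * b = x}, ?_⟩, ?_⟩, ?_⟩, fun x => Iff.rfl⟩
      · rintro _ _ ⟨a, ha, b, hb, rfl⟩ ⟨a', ha', b', hb', rfl⟩
        refine ⟨a * a', mul_mem ha ha', b * b', mul_mem hb hb', ?_⟩
        have := h a' ha' b hb
        calc a * a' * (b * b') = a * (a' * b) * b' := by group
          _ = a * (b * a') * b' := by rw [this]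
          _ = _ := by group
      · exact ⟨1, one_mem _, 1, one_mem _, mul_one 1⟩
      · rintro _ ⟨a, ha, b, hb, rfl⟩
        refine ⟨a⁻¹, inv_mem ha, b⁻¹, inv_mem hb, ?_⟩
        rw [← mul_inv_rev, h a ha b hb]
    obtain ⟨S, hS⟩ := hN
    have h1 : A ⊔ B ≤ S := sup_le (fun a ha => (hS a).2 ⟨a, ha, 1, one_mem _, mul_one a⟩)
      (fun b hb => (hS b).2 ⟨1, one_mem _, b, hb, one_mul b⟩)
    exact fun x hx => (hS x).1 (h1 hx)
  refine ⟨elab_mk ?_ ?_, hs⟩
  · intro x hx y hy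
    obtain ⟨a, ha, b, hb, rfl⟩ := hs x hx
    obtain ⟨a', ha', b', hb', rfl⟩ := hs y hy
    have h1 := h a' ha' b hb
    have h2 := h a ha b' hb'
    have h3 := elab_comm hA ha ha'
    have h4 := elab_comm hB hb hb'
    calc a * b * (a' * b') = a * (b * a') * b' := by group
      _ = a * (a' * b) * b' := by rw [h1]
      _ = (a * a') * (b * b') := by group
      _ = (a' * a) * (b' * b) := by rw [h3, h4]
      _ = a' * (a * b') * b := by group
      _ = a' * (b' * a) * b := by rw [h2]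
      _ = _ := by group
  · intro x hx
    obtain ⟨a, ha, b, hb, rfl⟩ := hs x hx
    have h1 : Commute a b := h a ha b hb
    rw [h1.mul_pow, hA.2 a ha, hB.2 b hb, one_mul]

theorem elab_zpowers {e : X} (he : e ^ p = 1) : IsElementaryAbelian p (zpowers e) := by
  refine elab_mk ?_ ?_
  · rintro _ ⟨i, rfl⟩ _ ⟨j, rfl⟩
    exact (Commute.refl e).zpow_zpow i j
  · rintro _ ⟨i, rfl⟩
    show (e ^ i) ^ p = 1
    rw [← zpow_natCast, zpow_comm, zpow_natCast, he, one_zpow]

theorem elab_map {Z : Type*} [Group Z] (f : X →* Z) {E : Subgroup X} (hE : IsElementaryAbelian p E) :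
    IsElementaryAbelian p (E.map f) := by
  refine elab_mk ?_ ?_
  · rintro _ ⟨a, ha, rfl⟩ _ ⟨b, hb, rfl⟩
    rw [← map_mul, elab_comm hE ha hb, map_mul]
  · rintro _ ⟨a, ha, rfl⟩
    rw [← map_pow, hE.2 a ha, map_one]

variable [Finite X] [hp : Fact p.Prime]

/-- a complement -/
theorem exists_compl {E : Subgroup X} (hE : IsElementaryAbelian p E) (E₀ : Subgroup X) :
    ∃ R ≤ E, R ⊓ E₀ = ⊥ ∧ E ≤ R ⊔ E₀ := by
  obtain ⟨R, ⟨h1, h2⟩, h3⟩ := Set.Finite.exists_maximalFor (fun R : Subgroup X => Nat.card R)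
    {R : Subgroup X | R ≤ E ∧ R ⊓ E₀ = ⊥} (Set.toFinite _) ⟨⊥, bot_le, bot_inf_eq _⟩
  refine ⟨R, h1, h2, fun x hx => ?_⟩
  by_contra hcon
  have hxR : x ∉ R := fun h => hcon (le_sup_left (b := E₀) h)
  have hR : IsElementaryAbelian p R := elab_mono h1 hE
  obtain ⟨-, hs⟩ := elab_sup hR (elab_zpowers (hE.2 x hx)) (fun a ha b hb => by
    obtain ⟨i, rfl⟩ := hb
    exact (Commute.zpow_right (elab_comm hE (h1 ha) hx : Commute a x) i))
  have h4 : (R ⊔ zpowers x) ⊓ E₀ = ⊥ := by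
    rw [eq_bot_iff]
    rintro y ⟨hy, hy0⟩
    obtain ⟨a, ha, b, ⟨i, rfl⟩, rfl⟩ := hs y hy
    have hb : (fun i => x ^ i) i = x ^ i := rfl
    by_cases hi : (p : ℤ) ∣ i
    · have h5 : x ^ i = 1 := by
        obtain ⟨j, rfl⟩ := hi
        rw [zpow_mul, zpow_natCast, hE.2 x hx, one_zpow]
      rw [hb, h5, mul_one] at hy0 ⊢
      rw [← h2]
      exact ⟨ha, hy0⟩
    · exfalso
      apply hcon
      have hcop : IsCoprime i (p : ℤ) := by
        rw [Int.isCoprime_iff_gcd_eq_one, Int.gcd_comm, Int.gcd_eq_natAbs, Int.natAbs_natCast]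
        refine (Nat.Prime.coprime_iff_not_dvd hp.out).2 ?_
        rwa [← Int.natCast_dvd]
      obtain ⟨u, v, huv⟩ := hcop
      have h6 : x ^ i = a⁻¹ * (a * x ^ i) := by group
      have h7 : x ^ i ∈ R ⊔ E₀ := by
        rw [h6]
        exact mul_mem (le_sup_left (b := E₀) (inv_mem ha)) (le_sup_right (a := R) hy0)
      have h8 : x = (x ^ i) ^ u := by
        rw [← zpow_mul]
        have h9 : i * u = 1 - (p : ℤ) * v := by linarith only [huv]
        rw [h9, zpow_sub, zpow_one, zpow_mul, zpow_natCast, hE.2 x hx, one_zpow, inv_one, mul_one]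
      rw [h8]
      exact zpow_mem h7 u
  have h5 := h3 (j := R ⊔ zpowers x) ⟨sup_le h1 (zpowers_le.2 hx), h4⟩ (card_le_of_le le_sup_left)
  have h6 : R = R ⊔ zpowers x := eq_of_le_of_card_ge le_sup_left h5
  exact hxR (h6 ▸ (le_sup_right (a := R) (mem_zpowers x)))

/-- an element of order `p` in a group with a noncyclic elementary abelian subgroup -/
theorem exists_elab {C A : Subgroup X} (hA : IsElementaryAbelian p A) (hAC : A ≤ C) (hc : p ^ 2 ≤ Nat.card A) {e : X}
    (he : e ∈ C) (hep : e ^ p = 1) :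
    ∃ B ≤ C, IsElementaryAbelian p B ∧ p ^ 2 ≤ Nat.card B ∧ e ∈ B := by
  -- Sylow subgroups of `C`
  obtain ⟨P, hP⟩ := IsPGroup.exists_le_sylow (G := ↥C) (P := (zpowers e).subgroupOf C) (p := p) (by
    intro x
    refine ⟨1, ?_⟩
    rw [pow_one]
    refine Subtype.ext (Subtype.ext ?_)
    exact (elab_zpowers hep).2 _ x.2)
  obtain ⟨Q, hQ⟩ := IsPGroup.exists_le_sylow (G := ↥C) (P := A.subgroupOf C) (p := p) (by
    intro x
    refine ⟨1, ?_⟩
    rw [pow_one]
    refine Subtype.ext (Subtype.ext ?_)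
    exact hA.2 _ x.2)
  obtain ⟨g, hg⟩ := MulAction.exists_smul_eq (↥C) Q P
  -- the conjugate of `A`
  obtain ⟨A', hA'⟩ : ∃ A' : Subgroup X, A' = A.map (MulAut.conj (g : X)).toMonoidHom := ⟨_, rfl⟩
  have h1 : IsElementaryAbelian p A' := hA' ▸ elab_map _ hA
  have h2 : Nat.card A' = Nat.card A := by
    rw [hA']
    exact Nat.card_congr (A.equivMapOfInjective _ (MulAut.conj (g : X)).injective).toEquiv.symm
  have hPX : ∀ a ∈ A', ∃ h : a ∈ C, (⟨a, h⟩ : ↥C) ∈ (P : Subgroup ↥C) := by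
    rw [hA']
    rintro _ ⟨a, ha, rfl⟩
    have h3 : (⟨a, hAC ha⟩ : ↥C) ∈ (Q : Subgroup ↥C) := hQ (mem_subgroupOf.2 ha)
    have h4 : g * (⟨a, hAC ha⟩ : ↥C) * g⁻¹ ∈ (P : Subgroup ↥C) := by
      rw [← hg]
      exact Subgroup.smul_mem_pointwise_smul (α := MulAut ↥C) _ (MulAut.conj g) _ h3
    exact ⟨(g * (⟨a, hAC ha⟩ : ↥C) * g⁻¹).2, h4⟩
  have hA'C : A' ≤ C := fun a ha => (hPX a ha).1
  -- an element of the center
  have hPbot : Nontrivial ↥(P : Subgroup ↥C) := by
    by_contra hcon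
    rw [not_nontrivial_iff_subsingleton] at hcon
    have h5 : Nat.card A' ≤ 1 := by
      rw [Finite.card_le_one_iff_subsingleton]
      refine ⟨fun a b => ?_⟩
      obtain ⟨h6, h7⟩ := hPX a a.2
      obtain ⟨h8, h9⟩ := hPX b b.2
      have h10 := Subsingleton.elim (⟨_, h7⟩ : ↥(P : Subgroup ↥C)) ⟨_, h9⟩
      exact Subtype.ext (congrArg (fun z : ↥(P : Subgroup ↥C) => ((z : ↥C) : X)) h10)
    rw [h2] at h5
    have := hp.out.one_lt
    have : 1 < p ^ 2 := by nlinarith only [this]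
    omega
  have hPp : IsPGroup p ↥(P : Subgroup ↥C) := P.isPGroup'
  have := hPp.center_nontrivial
  obtain ⟨⟨⟨z, hzC⟩, hzP⟩, hz, hz1, hzp⟩ : ∃ z : ↥(P : Subgroup ↥C), z ∈ center ↥(P : Subgroup ↥C) ∧ z ≠ 1 ∧ z ^ p = 1 := by
    obtain ⟨n, hn⟩ := (hPp.to_subgroup (center ↥(P : Subgroup ↥C))).exists_card_eq
    have hn0 : n ≠ 0 := by
      rintro rfl
      rw [pow_zero] at hn
      have := Finite.one_lt_card (α := ↥(center ↥(P : Subgroup ↥C)))
      omega
    obtain ⟨z, hz⟩ := exists_prime_orderOf_dvd_card' (G := ↥(center ↥(P : Subgroup ↥C))) p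
      (by rw [hn]; exact dvd_pow_self p hn0)
    refine ⟨z.1, z.2, ?_, ?_⟩
    · intro h
      have : z = 1 := Subtype.ext h
      rw [this, orderOf_one] at hz
      exact hp.out.one_lt.ne hz
    · have h5 : z ^ p = 1 := (orderOf_dvd_iff_pow_eq_one.1 (dvd_of_eq hz) :)
      exact congrArg Subtype.val h5
  have hzc : ∀ a (h : a ∈ C), (⟨a, h⟩ : ↥C) ∈ (P : Subgroup ↥C) → z * a = a * z := by
    intro a h ha
    have h5 := mem_center_iff.1 hz ⟨⟨a, h⟩, ha⟩
    have h6 := congrArg (fun z : ↥(P : Subgroup ↥C) => ((z : ↥C) : X)) h5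
    exact h6.symm
  have hz1' : z ≠ 1 := fun h => hz1 (Subtype.ext (Subtype.ext h))
  have hzp' : z ^ p = 1 := congrArg (fun z : ↥(P : Subgroup ↥C) => ((z : ↥C) : X)) hzp
  by_cases hez : e ∈ zpowers z
  · -- `⟨A', z⟩`
    obtain ⟨h5, -⟩ := elab_sup h1 (elab_zpowers hzp') (fun a ha b hb => by
      obtain ⟨i, rfl⟩ := hb
      obtain ⟨h6, h7⟩ := hPX a ha
      exact (Commute.zpow_right (hzc a h6 h7).symm i))
    refine ⟨A' ⊔ zpowers z, sup_le hA'C (zpowers_le.2 hzC), h5, ?_, le_sup_right (a := A') hez⟩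
    rw [← h2] at hc
    exact hc.trans (card_le_of_le le_sup_left)
  · have heP : (⟨e, he⟩ : ↥C) ∈ (P : Subgroup ↥C) := hP (mem_subgroupOf.2 (mem_zpowers e))
    have hcomm := hzc e he heP
    obtain ⟨h5, -⟩ := elab_sup (elab_zpowers hep) (elab_zpowers hzp') (fun a ha b hb => by
      obtain ⟨i, rfl⟩ := ha
      obtain ⟨j, rfl⟩ := hb
      exact (Commute.zpow_zpow (hcomm.symm : Commute e z) i j))
    refine ⟨zpowers e ⊔ zpowers z, sup_le (zpowers_le.2 he) (zpowers_le.2 hzC), h5, ?_, le_sup_left (b := zpowers z) (mem_zpowers e)⟩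
    obtain ⟨n, hn⟩ := (elab_isPGroup h5).exists_card_eq
    rw [hn]
    refine Nat.pow_le_pow_right hp.out.pos ?_
    by_contra hlt
    have hn1 : n ≤ 1 := by omega
    have h6 : Nat.card ↥(zpowers e ⊔ zpowers z) ≤ p := by
      rw [hn]
      exact (Nat.pow_le_pow_right hp.out.pos hn1).trans_eq (pow_one p)
    have h7 : Nat.card ↥(zpowers z) = p := by rw [Nat.card_zpowers, orderOf_eq_prime hzp' hz1']
    have h8 : zpowers z = zpowers e ⊔ zpowers z := eq_of_le_of_card_ge le_sup_right (by rw [h7]; exact h6)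
    exact hez (h8 ▸ (le_sup_left (b := zpowers z) (mem_zpowers e)))

/-- **Enlarging.** -/
theorem enlarge {N E : Subgroup X} (hE : IsElementaryAbelian p E)
    (hA : ∀ R ≤ E, R ⊓ N = ⊥ → E ≤ R ⊔ (E ⊓ N) →
      ∃ A ≤ N, IsElementaryAbelian p A ∧ p ^ 2 ≤ Nat.card A ∧ ∀ ρ ∈ R, ∀ a ∈ A, ρ * a = a * ρ) :
    ∃ E', E ≤ E' ∧ IsElementaryAbelian p E' ∧ p ^ 2 ≤ Nat.card ↥(E' ⊓ N) := by
  by_cases hbig : p ^ 2 ≤ Nat.card ↥(E ⊓ N)
  · exact ⟨E, le_rfl, hE, hbig⟩
  obtain ⟨R, hR, hR0, hRE⟩ := exists_compl hE (E ⊓ N)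
  have hRN : R ⊓ N = ⊥ := by
    rw [← hR0]
    refine le_antisymm (fun x hx => ⟨hx.1, hR hx.1, hx.2⟩) (fun x hx => ⟨hx.1, hx.2.2⟩)
  obtain ⟨A, hAN, hAe, hAc, hcomm⟩ := hA R hR hRN hRE
  -- `E ⊓ N` is cyclic
  obtain ⟨e, he, hez⟩ : ∃ e ∈ E ⊓ N, E ⊓ N ≤ zpowers e := by
    have h0 : IsElementaryAbelian p (E ⊓ N) := elab_mono inf_le_left hE
    by_cases hb : E ⊓ N = ⊥
    · exact ⟨1, one_mem _, by rw [hb]; exact bot_le⟩
    obtain ⟨e, he1⟩ := (Subgroup.ne_bot_iff_exists_ne_one.1 hb)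
    refine ⟨e, e.2, ?_⟩
    have h1 : (e : X) ≠ 1 := fun h => he1 (Subtype.ext h)
    have h2 : Nat.card ↥(zpowers (e : X)) = p := by rw [Nat.card_zpowers, orderOf_eq_prime (h0.2 _ e.2) h1]
    obtain ⟨n, hn⟩ := (elab_isPGroup h0).exists_card_eq
    have hn1 : n ≤ 1 := by
      by_contra hcon
      apply hbig
      rw [hn]
      exact Nat.pow_le_pow_right hp.out.pos (by omega)
    have h3 : Nat.card ↥(E ⊓ N) ≤ p := by
      rw [hn]; exact (Nat.pow_le_pow_right hp.out.pos hn1).trans_eq (pow_one p)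
    exact (eq_of_le_of_card_ge (zpowers_le.2 e.2) (by rw [h2]; exact h3)).ge
  -- the centralizer of `R` in `N`
  obtain ⟨B, hBC, hBe, hBc, heB⟩ := exists_elab (C := N ⊓ centralizer (R : Set X)) hAe
    (fun a ha => ⟨hAN ha, mem_centralizer_iff.2 fun ρ hρ => hcomm ρ hρ a ha⟩) hAc
    (e := e) ⟨he.2, mem_centralizer_iff.2 fun ρ hρ => elab_comm hE (hR hρ) he.1⟩ (hE.2 e he.1)
  obtain ⟨h1, -⟩ := elab_sup (elab_mono hR hE) hBe (fun ρ hρ b hb => mem_centralizer_iff.1 (hBC hb).2 ρ hρ)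
  refine ⟨R ⊔ B, ?_, h1, hBc.trans (card_le_of_le (le_inf le_sup_right fun b hb => (hBC hb).1))⟩
  refine hRE.trans (sup_le_sup le_rfl (hez.trans (zpowers_le.2 heB)))

end grp

section lift

variable {Y K₀ : Type*} [Group Y] [Group K₀] (ι : K₀ →* Y)

/-- `Θ` induces `x` -/
def Lift (Θ : MulAut Y) (x : MulAut K₀) : Prop := ∀ a, Θ (ι a) = ι (x a)

variable {ι}

theorem Lift.one : Lift ι 1 1 := fun _ => rfl

theorem Lift.mul {Θ Θ' : MulAut Y} {x x' : MulAut K₀} (h : Lift ι Θ x) (h' : Lift ι Θ' x') : Lift ι (Θ * Θ') (x * x') :=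
  fun a => by rw [MulAut.mul_apply, h', h, MulAut.mul_apply]

theorem Lift.inv {Θ : MulAut Y} {x : MulAut K₀} (h : Lift ι Θ x) : Lift ι Θ⁻¹ x⁻¹ := fun a => by
  have h1 := h (x⁻¹ a)
  rw [MulAut.apply_inv_self] at h1
  rw [← h1, MulAut.inv_apply_self]

theorem Lift.pow {Θ : MulAut Y} {x : MulAut K₀} (h : Lift ι Θ x) (n : ℕ) : Lift ι (Θ ^ n) (x ^ n) := by
  induction n with
  | zero => exact Lift.one
  | succ n ih => rw [pow_succ, pow_succ]; exact ih.mul h

variable (hc : ∀ z : Y, (∀ a, z * ι a = ι a * z) → z = 1)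

include hc

/-- two lifts differing by an inner automorphism agree -/
theorem Lift.eq_one {Θ : MulAut Y} {x : MulAut K₀} {w : Y} (h : Lift ι Θ x) (h' : Lift ι (MulAut.conj w * Θ) x) : w = 1 := by
  refine hc w fun b => ?_
  obtain ⟨a, rfl⟩ := x.surjective b
  have h1 := h' a
  rw [MulAut.mul_apply, h a, MulAut.conj_apply] at h1
  exact mul_inv_eq_iff_eq_mul.1 h1

theorem Lift.conj_eq {x : MulAut K₀} {y y' : Y} (h : Lift ι (MulAut.conj y) x) (h' : Lift ι (MulAut.conj y') x) : y = y' := by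
  have h1 := Lift.eq_one hc (w := y * y'⁻¹) h' (by rw [← map_mul, inv_mul_cancel_right]; exact h)
  exact mul_inv_eq_one.1 h1

/-- a lift commuting with an inner lift -/
theorem Lift.fixed {Θ : MulAut Y} {x e : MulAut K₀} {y : Y} (h : Lift ι Θ x) (hy : Lift ι (MulAut.conj y) e)
    (hcomm : x * e = e * x) : Θ y = y := by
  have h1 : Lift ι (Θ * MulAut.conj y * Θ⁻¹) (x * e * x⁻¹) := (h.mul hy).mul h.inv
  have h2 : Θ * MulAut.conj y * Θ⁻¹ = MulAut.conj (Θ y) := by
    ext a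
    rw [MulAut.mul_apply, MulAut.mul_apply, MulAut.conj_apply, MulAut.conj_apply, map_mul, map_mul, map_inv,
      MulAut.apply_inv_self]
  rw [h2, hcomm, mul_inv_cancel_right] at h1
  exact Lift.conj_eq hc h1 hy

/-- the inner-diagonal automorphisms -/
def InnL (ι : K₀ →* Y) : Subgroup (MulAut K₀) where
  carrier := {x | ∃ y, Lift ι (MulAut.conj y) x}
  one_mem' := ⟨1, by rw [map_one]; exact Lift.one⟩
  mul_mem' := by
    rintro x x' ⟨y, hy⟩ ⟨y', hy'⟩
    exact ⟨y * y', by rw [map_mul]; exact hy.mul hy'⟩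
  inv_mem' := by
    rintro x ⟨y, hy⟩
    exact ⟨y⁻¹, by rw [map_inv]; exact hy.inv⟩

/-- the lift of an inner-diagonal automorphism is fixed by `σ` -/
theorem Lift.sigma {σ : MulAut Y} (hσ : ∀ a, σ (ι a) = ι a) {x : MulAut K₀} {y : Y} (h : Lift ι (MulAut.conj y) x) :
    σ y = y :=
  Lift.fixed hc (Θ := σ) (x := 1) (fun a => by rw [hσ]; rfl) h (by rw [one_mul, mul_one])

omit hc in
/-- the lifts of an elementary abelian group of inner-diagonal automorphisms -/
theorem exists_Y (hι : Function.Injective ι) (hc : ∀ z : Y, (∀ a, z * ι a = ι a * z) → z = 1) {p : ℕ} {E : Subgroup (MulAut K₀)}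
    (hE : IsElementaryAbelian p E) (hin : E ≤ InnL ι) :
    ∃ E₁ : Subgroup Y, IsElementaryAbelian p E₁ ∧ Nat.card E₁ = Nat.card E ∧
      ∀ y ∈ E₁, ∃ x ∈ E, Lift ι (MulAut.conj y) x := by
  classical
  have hex : ∀ x : ↥E, ∃ y, Lift ι (MulAut.conj y) x.1 := fun x => hin x.2
  choose f hf using hex
  let F : ↥E →* Y := MonoidHom.mk' f fun x x' => by
    refine Lift.conj_eq hc (hf _) ?_
    rw [map_mul]
    exact (hf x).mul (hf x')
  have hF : ∀ x, Lift ι (MulAut.conj (F x)) x.1 := hf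
  have hinj : Function.Injective F := by
    rw [injective_iff_map_eq_one]
    intro x hx
    have h1 := hF x
    rw [hx, map_one] at h1
    refine Subtype.ext (MulEquiv.ext fun a => hι ?_)
    exact (h1 a).symm
  refine ⟨F.range, ?_, ?_, ?_⟩
  · refine elab_mk ?_ ?_
    · rintro _ ⟨a, rfl⟩ _ ⟨b, rfl⟩
      rw [← map_mul, ← map_mul, hE.1.1.1 a b]
    · rintro _ ⟨a, rfl⟩
      rw [← map_pow]
      have : a ^ p = 1 := Subtype.ext (hE.2 a a.2)
      rw [this, map_one]
  · exact (Nat.card_congr (MonoidHom.ofInjective hinj).toEquiv).symm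
  · rintro _ ⟨a, rfl⟩
    exact ⟨a, a.2, hF a⟩

end lift

end Cfsg.Agent.H350.Tri
end

-- part: H396/Comp/Comp
section
/-!
# S2187, TRI-1 (COMP): generation for invariant products of quasisimple groups, `p = 3`
-/

set_option autoImplicit false
set_option linter.unusedSectionVars false

namespace Cfsg.Agent.H396.Comp

open Cfsg Subgroup Cfsg.Agent.H818.Gen
open scoped commutatorElement

/-! ### cocyclic subgroups -/

/-- `E / F` is cyclic -/
def CoC {X : Type*} [Group X] (F E : Subgroup X) : Prop := F ≤ E ∧ ∃ y ∈ E, ∀ e ∈ E, ∃ j : ℕ, e * y ^ j ∈ F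

section coc

variable {X : Type*} [Group X] {p : ℕ} [hp : Fact p.Prime]

theorem comm_of {E : Subgroup X} (hE : IsElementaryAbelian p E) {a b : X} (ha : a ∈ E) (hb : b ∈ E) : a * b = b * a :=
  congrArg Subtype.val (hE.1.1.1 ⟨a, ha⟩ ⟨b, hb⟩)

theorem coc_of_index {E F : Subgroup X} (hE : IsElementaryAbelian p E) (hF : F ≤ E) (hi : F.relIndex E = p) :
    CoC F E := by
  refine ⟨hF, ?_⟩
  have hn : (F.subgroupOf E).Normal := ⟨fun a ha g => by
    have : g * a * g⁻¹ = a := by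
      rw [hE.1.1.1 g a]; group
    rwa [this]⟩
  have hcard : Nat.card (↥E ⧸ F.subgroupOf E) = p := hi
  obtain ⟨y, hy⟩ : ∃ y : ↥E, y ∉ F.subgroupOf E := by
    by_contra hcon
    push Not at hcon
    have h1 : F.subgroupOf E = ⊤ := eq_top_iff.2 fun x _ => hcon x
    have h2 : F.relIndex E = 1 := by
      show (F.subgroupOf E).index = 1
      rw [h1]; exact index_top
    rw [hi] at h2
    exact hp.out.one_lt.ne' h2
  refine ⟨y, y.2, fun e he => ?_⟩
  have h1 : (QuotientGroup.mk y : ↥E ⧸ F.subgroupOf E) ≠ 1 := fun h => hy ((QuotientGroup.eq_one_iff y).1 h)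
  obtain ⟨j, hj⟩ := mem_powers_of_prime_card hcard (g' := (QuotientGroup.mk (⟨e, he⟩ : ↥E) : ↥E ⧸ F.subgroupOf E)⁻¹) h1
  refine ⟨j, ?_⟩
  have h2 : (QuotientGroup.mk ((⟨e, he⟩ : ↥E) * y ^ j) : ↥E ⧸ F.subgroupOf E) = 1 := by
    rw [QuotientGroup.mk_mul, QuotientGroup.mk_pow]
    have hj' : (QuotientGroup.mk y : ↥E ⧸ F.subgroupOf E) ^ j = (QuotientGroup.mk (⟨e, he⟩ : ↥E))⁻¹ := hj
    rw [hj', mul_inv_cancel]
  exact mem_subgroupOf.1 ((QuotientGroup.eq_one_iff _).1 h2)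

theorem coc_bot {E : Subgroup X} [Finite E] (hE : IsElementaryAbelian p E) (h : Nat.card E < p ^ 2) :
    CoC (⊥ : Subgroup X) E := by
  obtain ⟨m, hm⟩ := (elab_isPGroup hE).exists_card_eq
  rw [hm] at h
  have hm2 : m < 2 := (Nat.pow_lt_pow_iff_right hp.out.one_lt).1 h
  interval_cases m
  · rw [pow_zero] at hm
    have h1 : E = ⊥ := card_eq_one.1 hm
    exact ⟨bot_le, 1, E.one_mem, fun e he => ⟨0, by rw [h1] at he; simpa only [_root_.pow_zero, _root_.mul_one, _root_.Subgroup.mem_bot] using he⟩⟩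
  · rw [pow_one] at hm
    refine coc_of_index hE bot_le ?_
    rw [relIndex_bot_left, hm]

theorem index_le_of_coc {E F : Subgroup X} [Finite E] (hE : IsElementaryAbelian p E) (h : CoC F E) :
    F.relIndex E = 1 ∨ F.relIndex E = p := by
  obtain ⟨hF, y, hy, hj⟩ := h
  have hyp : y ^ p = 1 := hE.2 y hy
  have h1 : F.relIndex E ≤ p := by
    show Nat.card (↥E ⧸ F.subgroupOf E) ≤ p
    have hsur : Function.Surjective (fun j : Fin p => (QuotientGroup.mk ((⟨y, hy⟩ : ↥E)⁻¹ ^ (j : ℕ)) : ↥E ⧸ F.subgroupOf E)) := by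
      intro q
      obtain ⟨e, rfl⟩ := QuotientGroup.mk_surjective q
      obtain ⟨j, hje⟩ := hj e e.2
      refine ⟨⟨j % p, Nat.mod_lt _ hp.out.pos⟩, ?_⟩
      show (QuotientGroup.mk ((⟨y, hy⟩ : ↥E)⁻¹ ^ (j % p)) : ↥E ⧸ F.subgroupOf E) = QuotientGroup.mk e
      have hyE : (⟨y, hy⟩ : ↥E) ^ p = 1 := Subtype.ext hyp
      have hmod : (⟨y, hy⟩ : ↥E)⁻¹ ^ (j % p) = (⟨y, hy⟩ : ↥E)⁻¹ ^ j := by
        conv_rhs => rw [← Nat.mod_add_div j p, pow_add, pow_mul, inv_pow _ p, hyE, inv_one, one_pow, mul_one]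
      rw [hmod, QuotientGroup.eq, mem_subgroupOf]
      have h3 : ((((⟨y, hy⟩ : ↥E)⁻¹ ^ j)⁻¹ * e : ↥E) : X) = (e : X) * y ^ j := by
        rw [inv_pow, inv_inv]
        exact comm_of hE (E.pow_mem hy j) e.2
      rw [h3]; exact hje
    have := Nat.card_le_card_of_surjective _ hsur
    rwa [Nat.card_eq_fintype_card (α := Fin p), Fintype.card_fin] at this
  obtain ⟨n, hn⟩ := (elab_isPGroup hE).exists_card_eq
  have hd : F.relIndex E ∣ p ^ n := by
    rw [← hn]
    exact (F.subgroupOf E).index_dvd_card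
  obtain ⟨m, -, hm⟩ := (Nat.dvd_prime_pow hp.out).1 hd
  rw [hm] at h1 ⊢
  have hm1 : m ≤ 1 := by
    by_contra hcon
    push Not at hcon
    have := Nat.pow_lt_pow_right hp.out.one_lt hcon
    rw [pow_one] at this
    omega
  interval_cases m
  · left; rfl
  · right; rw [pow_one]

end coc

section gen

variable {G : Type*} [Group G] [Finite G] {p : ℕ} [hp : Fact p.Prime]

theorem CF_le_of_coc {E F : Subgroup (MulAut G)} (hE : IsElementaryAbelian p E) (hc : p ≤ Nat.card E) (h : CoC F E) :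
    CF F ≤ Gam p E := by
  rcases index_le_of_coc hE h with h1 | h1
  · have h2 : E ≤ F := relIndex_eq_one.1 h1
    exact (CF_anti h2).trans (CF_le_Gam_of_card hE hc)
  · exact CF_le_Gam' h.1 h1

/-- restriction of automorphisms to an invariant subgroup -/
def rst {E₁ : Subgroup (MulAut G)} {K : Subgroup G} (hinv : ∀ φ ∈ E₁, ∀ a ∈ K, φ a ∈ K) : ↥E₁ →* MulAut ↥K where
  toFun φ :=
    { toFun := fun a => ⟨(φ : MulAut G) a, hinv φ φ.2 a a.2⟩
      invFun := fun a => ⟨(φ⁻¹ : MulAut G) a, hinv _ (E₁.inv_mem φ.2) a a.2⟩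
      left_inv := fun a => Subtype.ext ((φ : MulAut G).symm_apply_apply (a : G))
      right_inv := fun a => Subtype.ext ((φ : MulAut G).apply_symm_apply (a : G))
      map_mul' := fun a b => Subtype.ext (map_mul (φ : MulAut G) (a : G) (b : G)) }
  map_one' := by ext; rfl
  map_mul' _ _ := by ext; rfl

/-- **generation of `K` by the fixed points of the cocyclic subgroups** -/
theorem gen_coc {K : Subgroup G} (hgen : Gen p ↥K) {E₁ : Subgroup (MulAut G)} (hE : IsElementaryAbelian p E₁)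
    (hinv : ∀ φ ∈ E₁, ∀ a ∈ K, φ a ∈ K) {H : Subgroup G}
    (hH : ∀ B : Subgroup (MulAut G), CoC B E₁ → ∀ k ∈ K, (∀ φ ∈ B, φ k = k) → k ∈ H) : K ≤ H := by
  set R : Subgroup (MulAut ↥K) := (rst hinv).range with hR
  have hRE : IsElementaryAbelian p R := by
    refine ⟨⟨⟨?_⟩⟩, ?_⟩
    · rintro ⟨_, a, rfl⟩ ⟨_, b, rfl⟩
      refine Subtype.ext ?_
      show rst hinv a * rst hinv b = rst hinv b * rst hinv a
      rw [← map_mul, ← map_mul, hE.1.1.1 a b]
    · rintro _ ⟨a, rfl⟩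
      rw [← map_pow]
      have : a ^ p = 1 := Subtype.ext (hE.2 a a.2)
      rw [this, map_one]
  have key : ∀ F : Subgroup (MulAut ↥K), CoC F R → CoC ((F.comap (rst hinv)).map E₁.subtype) E₁ := by
    rintro F ⟨-, y', ⟨y, rfl⟩, hj⟩
    refine ⟨map_subtype_le _, y, y.2, fun e he => ?_⟩
    obtain ⟨j, hj'⟩ := hj (rst hinv ⟨e, he⟩) ⟨⟨e, he⟩, rfl⟩
    refine ⟨j, ⟨⟨e, he⟩ * y ^ j, ?_, rfl⟩⟩
    show rst hinv (⟨e, he⟩ * y ^ j) ∈ F
    rw [map_mul, map_pow]
    exact hj'
  rcases Nat.lt_or_ge (Nat.card R) (p ^ 2) with hlt | hge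
  · intro k hk
    refine hH _ (key ⊥ (coc_bot hRE hlt)) k hk ?_
    rintro _ ⟨φ, hφ, rfl⟩
    have h1 : rst hinv φ = 1 := by
      have h2 : rst hinv φ ∈ (⊥ : Subgroup (MulAut ↥K)) := hφ
      exact mem_bot.1 h2
    have h2 := congrArg (fun ψ : MulAut ↥K => (ψ ⟨k, hk⟩ : G)) h1
    exact h2
  · have h1 : Gam p R ≤ H.subgroupOf K := by
      refine Gam_le fun F hF hi => ?_
      intro k hk
      rw [mem_subgroupOf]
      refine hH _ (key F (coc_of_index hRE hF hi)) k k.2 ?_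
      rintro _ ⟨φ, hφ, rfl⟩
      have h2 : rst hinv φ k = k := hk _ hφ
      exact congrArg Subtype.val h2
    rw [hgen R hRE hge] at h1
    intro k hk
    exact h1 (x := ⟨k, hk⟩) trivial

/-- invariant subgroups -/
theorem le_Gam_of_inv {K : Subgroup G} (hgen : Gen p ↥K) {E : Subgroup (MulAut G)} (hE : IsElementaryAbelian p E)
    (hc : p ≤ Nat.card E) (hinv : ∀ φ ∈ E, ∀ a ∈ K, φ a ∈ K) : K ≤ Gam p E :=
  gen_coc hgen hE hinv fun _ hB _ _ hf => CF_le_of_coc hE hc hB hf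

end gen

/-! ### commutators -/

section comm

variable {K : Type*} [Group K]

theorem inv_mul_conj (φ : K →* K) (a k : K) :
    a * (k⁻¹ * φ k) * a⁻¹ = ((k * a⁻¹)⁻¹ * φ (k * a⁻¹)) * ((a⁻¹)⁻¹ * φ a⁻¹)⁻¹ := by
  rw [map_mul, map_inv]; group

/-- `[K, φ] = K` for a nontrivial endomorphism of a quasisimple group -/
theorem closure_eq_top (hK : IsQuasisimple K) {φ : K →* K} (hφ : ∃ k, φ k ≠ k) :
    _root_.Subgroup.closure {x : K | ∃ k, x = k⁻¹ * φ k} = ⊤ := by
  have hn : (_root_.Subgroup.closure {x : K | ∃ k, x = k⁻¹ * φ k}).Normal := by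
    refine ⟨fun x hx a => ?_⟩
    induction hx using closure_induction with
    | mem x hx =>
      obtain ⟨k, rfl⟩ := hx
      rw [inv_mul_conj]
      exact mul_mem (subset_closure ⟨_, rfl⟩) (inv_mem (subset_closure ⟨_, rfl⟩))
    | one => rw [mul_one, mul_inv_cancel]; exact one_mem _
    | mul x y _ _ hx hy =>
      have : a * (x * y) * a⁻¹ = (a * x * a⁻¹) * (a * y * a⁻¹) := by group
      rw [this]; exact mul_mem hx hy
    | inv x _ hx =>
      have : a * x⁻¹ * a⁻¹ = (a * x * a⁻¹)⁻¹ := by group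
      rw [this]; exact inv_mem hx
  rcases normal_cases hK hn with h | h
  · exfalso
    have hz : ∀ k g : K, g * (k⁻¹ * φ k) = (k⁻¹ * φ k) * g := fun k g =>
      mem_center_iff.1 (h (subset_closure ⟨k, rfl⟩)) g
    let f : K →* K :=
      { toFun := fun k => k⁻¹ * φ k
        map_one' := by simp
        map_mul' := fun a b => by
          show (a * b)⁻¹ * φ (a * b) = (a⁻¹ * φ a) * (b⁻¹ * φ b)
          rw [map_mul]
          calc (a * b)⁻¹ * (φ a * φ b) = b⁻¹ * (a⁻¹ * φ a) * φ b := by group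
            _ = (a⁻¹ * φ a) * b⁻¹ * φ b := by rw [hz a b⁻¹]
            _ = (a⁻¹ * φ a) * (b⁻¹ * φ b) := by group }
    obtain ⟨k, hk⟩ := hφ
    have h1 := perfect_hom hK.1 f (fun x y => (hz x (f y)).symm) k
    have h2 : k⁻¹ * φ k = 1 := h1
    exact hk (inv_mul_eq_one.1 h2).symm
  · exact h

/-- a non-central commutator -/
theorem exists_noncentral (hK : IsQuasisimple K) {φ ψ : K →* K} (hφ : ∃ k, φ k ≠ k) (hψ : ∃ k, ψ k ≠ k) :
    ∃ k k' : K, ⁅k⁻¹ * φ k, k'⁻¹ * ψ k'⁆ ∉ center K := by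
  by_contra hcon
  push Not at hcon
  have hq : ∀ a b : K, ⁅a, b⁆ ∈ center K ↔ (QuotientGroup.mk a : K ⧸ center K) * QuotientGroup.mk b =
      QuotientGroup.mk b * QuotientGroup.mk a := by
    intro a b
    rw [← QuotientGroup.mk_mul, ← QuotientGroup.mk_mul, eq_comm, QuotientGroup.eq]
    have hn : (center K).Normal := inferInstance
    constructor
    · intro h
      have h1 := hn.conj_mem _ h (b * a)⁻¹
      have h2 : (b * a)⁻¹ * ⁅a, b⁆ * ((b * a)⁻¹)⁻¹ = (b * a)⁻¹ * (a * b) := by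
        rw [commutatorElement_def]; group
      rwa [h2] at h1
    · intro h
      have h1 := hn.conj_mem _ h (b * a)
      have h2 : (b * a) * ((b * a)⁻¹ * (a * b)) * (b * a)⁻¹ = ⁅a, b⁆ := by
        rw [commutatorElement_def]; group
      rwa [h2] at h1
  -- first variable
  have h1 : ∀ k' : K, ∀ x : K, ⁅x, k'⁻¹ * ψ k'⁆ ∈ center K := by
    intro k' x
    have hx : x ∈ _root_.Subgroup.closure {x : K | ∃ k, x = k⁻¹ * φ k} := by rw [closure_eq_top hK hφ]; trivial
    rw [hq]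
    induction hx using closure_induction with
    | mem x hx =>
      obtain ⟨k, rfl⟩ := hx
      exact (hq _ _).1 (hcon k k')
    | one => rw [QuotientGroup.mk_one, one_mul, mul_one]
    | mul x y _ _ hx hy =>
      rw [QuotientGroup.mk_mul, mul_assoc, hy, ← mul_assoc, hx, mul_assoc]
    | inv x _ hx =>
      rw [QuotientGroup.mk_inv]
      exact (Commute.inv_left (show Commute _ _ from hx)).eq
  have h2 : ∀ x y : K, ⁅x, y⁆ ∈ center K := by
    intro x y
    have hy : y ∈ _root_.Subgroup.closure {x : K | ∃ k, x = k⁻¹ * ψ k} := by rw [closure_eq_top hK hψ]; trivial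
    rw [hq]
    induction hy using closure_induction with
    | mem y hy =>
      obtain ⟨k, rfl⟩ := hy
      exact (hq _ _).1 (h1 k x)
    | one => rw [QuotientGroup.mk_one, one_mul, mul_one]
    | mul y z _ _ hy hz =>
      rw [QuotientGroup.mk_mul, ← mul_assoc, hy, mul_assoc, hz, mul_assoc]
    | inv y _ hy =>
      rw [QuotientGroup.mk_inv]
      exact (Commute.inv_right (show Commute _ _ from hy)).eq
  have h3 : commutator K ≤ center K := by
    rw [commutator_def, Subgroup.commutator_le]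
    intro a _ b _
    exact h2 a b
  rw [hK.1.commutator_eq_top] at h3
  obtain ⟨a, b, hab⟩ := not_comm hK
  exact hab (mem_center_iff.1 (h3 (show b ∈ ⊤ from trivial)) a)

end comm

/-! ### three permuted groups -/

section perm

variable {G : Type*} [Group G] [Finite G]

theorem perm3 {E : Subgroup (MulAut G)} (hE : IsElementaryAbelian 3 E) (hc : 3 ≤ Nat.card E) {K : Subgroup G}
    (hK : IsQuasisimple ↥K) (hgen : Gen 3 ↥K) {ρ : MulAut G} (hρ : ρ ∈ E) {E₁ : Subgroup (MulAut G)} (h1E : E₁ ≤ E)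
    (hinv : ∀ φ ∈ E₁, ∀ a ∈ K, φ a ∈ K) (hcos : ∀ e ∈ E, ∃ j : ℕ, e * ρ ^ j ∈ E₁)
    (hc1 : ∀ a ∈ K, ∀ b ∈ K, a * ρ b = ρ b * a) (hc2 : ∀ a ∈ K, ∀ b ∈ K, a * ρ (ρ b) = ρ (ρ b) * a) :
    K ≤ Gam 3 E := by
  have hE₁ : IsElementaryAbelian 3 E₁ := elab_mono h1E hE
  have hcomm : ∀ {φ ψ : MulAut G}, φ ∈ E → ψ ∈ E → ∀ a, φ (ψ a) = ψ (φ a) := by
    intro φ ψ hφ hψ a
    have h := comm_of hE hφ hψ
    exact DFunLike.congr_fun h a
  have hcube : ∀ {φ : MulAut G}, φ ∈ E → ∀ a, φ (φ (φ a)) = a := by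
    intro φ hφ a
    have h := hE.2 φ hφ
    have h1 : φ ^ 3 = φ * (φ * φ) := by rw [pow_succ, pow_two, mul_assoc]
    rw [h1] at h
    exact DFunLike.congr_fun h a
  by_cases hC : ∀ φ ∈ E₁, ∀ a ∈ K, φ a = a
  · intro k hk
    exact CF_le_of_coc hE hc ⟨h1E, ρ, hρ, hcos⟩ fun φ hφ => hC φ hφ k hk
  push Not at hC
  obtain ⟨f, hf, a₀, ha₀, hfa⟩ := hC
  have hfE := h1E hf
  -- the diagonals
  have hdiag : ∀ g ∈ E₁, ∀ k ∈ K, k * ρ (g k) * ρ (ρ (g (g k))) ∈ Gam 3 E := by
    intro g hg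
    have hgE := h1E hg
    have hgK : ∀ k ∈ K, g k ∈ K := hinv g hg
    set σ : MulAut G := ρ * g with hσ
    have hσE : σ ∈ E := E.mul_mem hρ hgE
    have e1 : ∀ k, σ k = ρ (g k) := fun k => rfl
    have e2 : ∀ k, σ (σ k) = ρ (ρ (g (g k))) := by
      intro k
      rw [e1, e1, hcomm hgE hρ]
    have c1 : ∀ a ∈ K, ∀ b ∈ K, a * σ b = σ b * a := fun a ha b hb => by rw [e1]; exact hc1 a ha _ (hgK b hb)
    have c2 : ∀ a ∈ K, ∀ b ∈ K, a * σ (σ b) = σ (σ b) * a := fun a ha b hb => by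
      rw [e2]; exact hc2 a ha _ (hgK _ (hgK b hb))
    have c3 : ∀ a ∈ K, ∀ b ∈ K, σ a * σ (σ b) = σ (σ b) * σ a := fun a ha b hb => by
      rw [← map_mul, c1 a ha b hb, map_mul]
    let D : ↥K →* G :=
      { toFun := fun k => k * σ k * σ (σ k)
        map_one' := by simp only [_root_.OneMemClass.coe_one, _root_.map_one, _root_.mul_one]
        map_mul' := fun a b => by
          show (a : G) * b * σ ((a : G) * b) * σ (σ ((a : G) * b)) = (a * σ a * σ (σ a)) * (b * σ b * σ (σ b))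
          rw [map_mul, map_mul]
          calc (a : G) * b * (σ a * σ b) * (σ (σ a) * σ (σ b))
              = a * (b * σ a) * σ b * σ (σ a) * σ (σ b) := by group
            _ = a * (σ a * b) * σ b * σ (σ a) * σ (σ b) := by rw [c1 b b.2 a a.2]
            _ = a * σ a * b * (σ b * σ (σ a)) * σ (σ b) := by group
            _ = a * σ a * b * (σ (σ a) * σ b) * σ (σ b) := by rw [c3 b b.2 a a.2]
            _ = a * σ a * (b * σ (σ a)) * σ b * σ (σ b) := by group
            _ = a * σ a * (σ (σ a) * b) * σ b * σ (σ b) := by rw [c2 b b.2 a a.2]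
            _ = (a * σ a * σ (σ a)) * (b * σ b * σ (σ b)) := by group }
    have hDa : ∀ k : ↥K, D k = k * σ k * σ (σ k) := fun _ => rfl
    have hle : K ≤ ((Gam 3 E).comap D).map K.subtype := by
      refine gen_coc hgen hE₁ hinv fun B hB k hk hfix => ?_
      refine ⟨⟨k, hk⟩, ?_, rfl⟩
      show D ⟨k, hk⟩ ∈ Gam 3 E
      have hBE : B ≤ E := hB.1.trans h1E
      have hcoc : CoC (B ⊔ zpowers σ) E := by
        refine ⟨sup_le hBE (zpowers_le.2 hσE), ?_⟩
        obtain ⟨-, y, hy, hj⟩ := hB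
        refine ⟨y, h1E hy, fun e he => ?_⟩
        obtain ⟨j, hj1⟩ := hcos e he
        obtain ⟨i, hi⟩ := hj (e * ρ ^ j * g ^ j) (E₁.mul_mem hj1 (E₁.pow_mem hg j))
        refine ⟨i, ?_⟩
        have h3 : e * y ^ i = (e * ρ ^ j * g ^ j * y ^ i) * (σ ^ j)⁻¹ := by
          have h4 : σ ^ j = ρ ^ j * g ^ j := by
            rw [hσ]; exact (show Commute ρ g from comm_of hE hρ hgE).mul_pow j
          have h5 : (ρ ^ j * g ^ j) * y ^ i = y ^ i * (ρ ^ j * g ^ j) :=
            comm_of hE (E.mul_mem (E.pow_mem hρ j) (E.pow_mem hgE j)) (E.pow_mem (h1E hy) i)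
          rw [h4]
          calc e * y ^ i = e * (y ^ i * (ρ ^ j * g ^ j)) * (ρ ^ j * g ^ j)⁻¹ := by group
            _ = e * ((ρ ^ j * g ^ j) * y ^ i) * (ρ ^ j * g ^ j)⁻¹ := by rw [h5]
            _ = (e * ρ ^ j * g ^ j * y ^ i) * (ρ ^ j * g ^ j)⁻¹ := by group
        rw [h3]
        exact mul_mem (mem_sup_left hi) (inv_mem (mem_sup_right (pow_mem (mem_zpowers σ) j)))
      refine CF_le_of_coc hE hc hcoc ?_
      have hst : B ⊔ zpowers σ ≤ MulAction.stabilizer (MulAut G) (D ⟨k, hk⟩) := by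
        refine sup_le ?_ (zpowers_le.2 ?_)
        · intro φ hφ
          show φ (D ⟨k, hk⟩) = D ⟨k, hk⟩
          rw [hDa]
          show φ (k * σ k * σ (σ k)) = k * σ k * σ (σ k)
          rw [map_mul, map_mul, hcomm (hBE hφ) hσE, hcomm (hBE hφ) hσE, hcomm (hBE hφ) hσE, hfix φ hφ]
        · show σ (D ⟨k, hk⟩) = D ⟨k, hk⟩
          rw [hDa]
          show σ (k * σ k * σ (σ k)) = k * σ k * σ (σ k)
          rw [map_mul, map_mul, hcube hσE, mul_assoc, ← c2 k hk k hk, ← mul_assoc, ← c1 k hk k hk]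
      exact fun φ hφ => hst hφ
    intro k hk
    obtain ⟨k', hk', hkk⟩ := hle hk
    have h1 : k' = ⟨k, hk⟩ := Subtype.ext hkk
    rw [h1] at hk'
    have h2 : D ⟨k, hk⟩ ∈ Gam 3 E := hk'
    rw [hDa] at h2
    have h3 : k * σ k * σ (σ k) ∈ Gam 3 E := h2
    rwa [e2, e1] at h3
  set M := Gam 3 E with hM
  have hMρ : ∀ m ∈ M, ρ m ∈ M := fun m hm => conj_Gam (φ := ρ)
    (fun e he => E.mul_mem (E.mul_mem hρ he) (E.inv_mem hρ)) (fun e he => E.mul_mem (E.mul_mem (E.inv_mem hρ) he) hρ) hm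
  have hd1 : ∀ k ∈ K, k * ρ k * ρ (ρ k) ∈ M := fun k hk => hdiag 1 E₁.one_mem k hk
  have hdf := hdiag f hf
  have hfK : ∀ k ∈ K, f k ∈ K := hinv f hf
  -- `K` normalises `M ⊓ K`
  have hnorm : ∀ a ∈ K, ∀ d ∈ M ⊓ K, a * d * a⁻¹ ∈ M ⊓ K := by
    intro a ha d hd
    refine ⟨?_, K.mul_mem (K.mul_mem ha hd.2) (K.inv_mem ha)⟩
    have h1 : a * d * a⁻¹ = (a * ρ a * ρ (ρ a)) * d * (a * ρ a * ρ (ρ a))⁻¹ := by
      have h2 : (a * ρ a * ρ (ρ a)) * d * (a * ρ a * ρ (ρ a))⁻¹ =
          a * (ρ a * ((ρ (ρ a)) * d) * (ρ (ρ a))⁻¹ * (ρ a)⁻¹) * a⁻¹ := by group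
      rw [h2, ← hc2 d hd.2 a ha]
      have h3 : ρ a * (d * ρ (ρ a)) * (ρ (ρ a))⁻¹ * (ρ a)⁻¹ = (ρ a * d) * (ρ a)⁻¹ := by group
      rw [h3, ← hc1 d hd.2 a ha, mul_inv_cancel_right]
    rw [h1]
    exact M.mul_mem (M.mul_mem (hd1 a ha) hd.1) (M.inv_mem (hd1 a ha))
  have k1 : ∀ a ∈ K, ∀ b ∈ K, Commute a (ρ b) := hc1
  have k2 : ∀ a ∈ K, ∀ b ∈ K, Commute a (ρ (ρ b)) := hc2
  have k3 : ∀ a ∈ K, ∀ b ∈ K, Commute (ρ a) (ρ (ρ b)) := fun a ha b hb => by
    have := congrArg ρ (hc1 a ha b hb)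
    rw [map_mul, map_mul] at this
    exact this
  -- the commutators
  have hcom : ∀ k ∈ K, ∀ k' ∈ K, ⁅k⁻¹ * f (f k), k'⁻¹ * f k'⁆ ∈ M := by
    -- `v k = ρ (k⁻¹ f k) ρ² (k⁻¹ f² k)`
    have hv : ∀ k ∈ K, ρ (k⁻¹ * f k) * ρ (ρ (k⁻¹ * f (f k))) ∈ M := by
      intro k hk
      have h1 := M.mul_mem (M.inv_mem (hd1 k hk)) (hdf k hk)
      have h2 : (k * ρ k * ρ (ρ k))⁻¹ * (k * ρ (f k) * ρ (ρ (f (f k)))) =
          ρ (k⁻¹ * f k) * ρ (ρ (k⁻¹ * f (f k))) := by
        have h3 : (ρ (ρ k))⁻¹ * ρ (k⁻¹ * f k) = ρ (k⁻¹ * f k) * (ρ (ρ k))⁻¹ :=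
          ((k3 _ (K.mul_mem (K.inv_mem hk) (hfK k hk)) k hk).inv_right).eq.symm
        have h7 : ρ (ρ (k⁻¹ * f (f k))) = (ρ (ρ k))⁻¹ * ρ (ρ (f (f k))) := by
          rw [map_mul, map_mul, map_inv, map_inv]
        have h6 : (k * ρ k * ρ (ρ k))⁻¹ * (k * ρ (f k) * ρ (ρ (f (f k)))) =
            ((ρ (ρ k))⁻¹ * ρ (k⁻¹ * f k)) * ρ (ρ (f (f k))) := by
          rw [map_mul, map_inv]; group
        rw [h6, h3, h7, mul_assoc]
      rwa [h2] at h1
    intro k hk k' hk'
    set s := k⁻¹ * f k with hs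
    set t := k⁻¹ * f (f k) with ht
    set s' := k'⁻¹ * f k' with hs'
    set t' := k'⁻¹ * f (f k') with ht'
    have hsK : s ∈ K := K.mul_mem (K.inv_mem hk) (hfK k hk)
    have htK : t ∈ K := K.mul_mem (K.inv_mem hk) (hfK _ (hfK k hk))
    have hs'K : s' ∈ K := K.mul_mem (K.inv_mem hk') (hfK k' hk')
    have ht'K : t' ∈ K := K.mul_mem (K.inv_mem hk') (hfK _ (hfK k' hk'))
    have h1 : ρ s * ρ (ρ t) ∈ M := hv k hk
    have h2 : ρ (ρ s') * t' ∈ M := by
      have h3 := hMρ _ (hv k' hk')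
      rw [map_mul, hcube hρ] at h3
      exact h3
    -- the commutator of the two
    have h3 : (ρ s * ρ (ρ t)) * (ρ (ρ s') * t') * (ρ s * ρ (ρ t))⁻¹ * (ρ (ρ s') * t')⁻¹ ∈ M :=
      M.mul_mem (M.mul_mem (M.mul_mem h1 h2) (M.inv_mem h1)) (M.inv_mem h2)
    have h4 : (ρ s * ρ (ρ t)) * (ρ (ρ s') * t') * (ρ s * ρ (ρ t))⁻¹ * (ρ (ρ s') * t')⁻¹ =
        ρ (ρ t) * ρ (ρ s') * (ρ (ρ t))⁻¹ * (ρ (ρ s'))⁻¹ := by
      have c1 : Commute (ρ s) (ρ (ρ t) * (ρ (ρ s') * t') * (ρ (ρ t))⁻¹) :=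
        ((k3 s hsK t htK).mul_right ((k3 s hsK s' hs'K).mul_right (k1 t' ht'K s hsK).symm)).mul_right
          (k3 s hsK t htK).inv_right
      have c2 : Commute t' (ρ (ρ t))⁻¹ := (k2 t' ht'K t htK).inv_right
      calc (ρ s * ρ (ρ t)) * (ρ (ρ s') * t') * (ρ s * ρ (ρ t))⁻¹ * (ρ (ρ s') * t')⁻¹
          = ρ s * (ρ (ρ t) * (ρ (ρ s') * t') * (ρ (ρ t))⁻¹) * (ρ s)⁻¹ * (ρ (ρ s') * t')⁻¹ := by group
        _ = (ρ (ρ t) * (ρ (ρ s') * t') * (ρ (ρ t))⁻¹) * ρ s * (ρ s)⁻¹ * (ρ (ρ s') * t')⁻¹ := by rw [c1.eq]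
        _ = ρ (ρ t) * ρ (ρ s') * (t' * (ρ (ρ t))⁻¹) * t'⁻¹ * (ρ (ρ s'))⁻¹ := by group
        _ = ρ (ρ t) * ρ (ρ s') * ((ρ (ρ t))⁻¹ * t') * t'⁻¹ * (ρ (ρ s'))⁻¹ := by rw [c2.eq]
        _ = ρ (ρ t) * ρ (ρ s') * (ρ (ρ t))⁻¹ * (ρ (ρ s'))⁻¹ := by group
    rw [h4] at h3
    have h5 := hMρ _ h3
    rw [map_mul, map_mul, map_mul, map_inv, map_inv, hcube hρ, hcube hρ] at h5
    rw [commutatorElement_def]
    exact h5
  -- a noncentral commutator
  let φ₁ : MulAut ↥K := rst hinv ⟨f, hf⟩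
  have hφ1 : ∀ k : ↥K, (φ₁ k : G) = f k := fun k => rfl
  obtain ⟨k, k', hkk⟩ := exists_noncentral (K := ↥K) hK (φ := (φ₁ * φ₁ : MulAut ↥K).toMonoidHom)
    (ψ := φ₁.toMonoidHom) (by
      refine ⟨⟨f a₀, hfK a₀ ha₀⟩, fun h => hfa ?_⟩
      have h1 : f (f (f a₀)) = f a₀ := congrArg Subtype.val h
      rw [hcube hfE] at h1
      exact h1.symm) ⟨⟨a₀, ha₀⟩, fun h => hfa (congrArg Subtype.val h)⟩
  have hz : ⁅(k : G)⁻¹ * f (f k), (k' : G)⁻¹ * f k'⁆ ∈ M := hcom k k.2 k' k'.2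
  rcases le_or_central hK (D := M ⊓ K) inf_le_right hnorm with h | h
  · rw [← h]; exact inf_le_left
  · exfalso
    apply hkk
    rw [mem_center_iff]
    intro g
    apply Subtype.ext
    have h2 := h ⁅(k : G)⁻¹ * f (f k), (k' : G)⁻¹ * f k'⁆ ⟨hz, by
      have := (⁅k⁻¹ * (φ₁ * φ₁ : MulAut ↥K).toMonoidHom k, k'⁻¹ * φ₁.toMonoidHom k'⁆ : ↥K).2
      exact this⟩ g g.2
    exact h2.symm

/-- **TRI-1 (COMP)**, `p = 3`, at most three factors -/
theorem comp_le {E : Subgroup (MulAut G)} (hE : IsElementaryAbelian 3 E) (hc : 3 ≤ Nat.card E)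
    {n : ℕ} (hn : n ≤ 3) (K : Fin n → Subgroup G) (hK : ∀ i, IsQuasisimple ↥(K i))
    (hcomm : ∀ i j, i ≠ j → ∀ a ∈ K i, ∀ b ∈ K j, a * b = b * a)
    (hinv : ∀ φ ∈ E, (⨆ i, K i).map φ.toMonoidHom = ⨆ i, K i)
    (hgen : ∀ i, Gen 3 ↥(K i)) : ⨆ i, K i ≤ Gam 3 E := by
  refine iSup_le fun i => ?_
  have hKinj : ∀ j j', K j = K j' → j = j' := by
    intro j j' h
    by_contra hne
    exact not_comm' (hK j) fun a ha b hb => hcomm j j' hne a ha b (by rw [← h]; exact hb)
  have hperm : ∀ φ ∈ E, ∀ j, ∃ j', (K j).map φ.toMonoidHom = K j' := by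
    intro φ hφ j
    refine eq_of_comm hK hcomm (quasi_congr (φ.subgroupMap (K j)) (hK j)) ?_ ?_
    · calc (K j).map φ.toMonoidHom ≤ (⨆ i, K i).map φ.toMonoidHom := map_mono (le_iSup K j)
        _ = ⨆ i, K i := hinv φ hφ
    · rintro a ha _ ⟨x, hx, rfl⟩
      rw [← hinv φ hφ] at ha
      obtain ⟨a', ha', rfl⟩ := ha
      exact ⟨a' * x * a'⁻¹, conj_mem_of_comm hcomm j ha' hx, by simp only [_root_.MulEquiv.toMonoidHom_eq_coe, _root_.MonoidHom.coe_coe, _root_.map_mul, _root_.map_inv]⟩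
  have hmm : ∀ (φ ψ : MulAut G) (H : Subgroup G), (H.map φ.toMonoidHom).map ψ.toMonoidHom = H.map (ψ * φ).toMonoidHom := by
    intro φ ψ H
    rw [Subgroup.map_map]
    rfl
  have hmi : ∀ (φ : MulAut G) (H H' : Subgroup G), H.map φ.toMonoidHom = H'.map φ.toMonoidHom → H = H' :=
    fun φ H H' h => map_injective φ.injective h
  have hm1 : ∀ H : Subgroup G, H.map (1 : MulAut G).toMonoidHom = H := fun H => Subgroup.map_id H
  by_cases hi : ∀ φ ∈ E, (K i).map φ.toMonoidHom = K i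
  · exact le_Gam_of_inv (hgen i) hE hc fun φ hφ a ha => by
      rw [← hi φ hφ]; exact ⟨a, ha, rfl⟩
  push Not at hi
  obtain ⟨ρ, hρ, hρi⟩ := hi
  have hρ3 : ρ ^ 3 = 1 := hE.2 ρ hρ
  let E₁ : Subgroup (MulAut G) :=
    { carrier := {φ | φ ∈ E ∧ (K i).map φ.toMonoidHom = K i}
      one_mem' := ⟨E.one_mem, hm1 _⟩
      mul_mem' := fun {a b} ha hb => ⟨E.mul_mem ha.1 hb.1, by rw [← hmm, hb.2, ha.2]⟩
      inv_mem' := fun {a} ha => ⟨E.inv_mem ha.1, by
        apply hmi a
        rw [hmm, mul_inv_cancel, hm1, ha.2]⟩ }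
  obtain ⟨j1, hj1⟩ := hperm ρ hρ i
  obtain ⟨j2, hj2⟩ := hperm ρ hρ j1
  obtain ⟨j3, hj3⟩ := hperm ρ hρ j2
  have h1 : j1 ≠ i := fun h => hρi (by rw [hj1, h])
  have hj3i : K j3 = K i := by
    have h3 : (K i).map (ρ * (ρ * ρ)).toMonoidHom = K j3 := by rw [← hmm, ← hmm, hj1, hj2, hj3]
    have h4 : ρ * (ρ * ρ) = 1 := by rw [← hρ3, pow_succ, pow_two, mul_assoc]
    rw [h4, hm1] at h3
    exact h3.symm
  rw [hj3i] at hj3
  have h2 : j2 ≠ j1 := fun h => h1 (hKinj _ _ (hmi ρ _ _ (by rw [hj2, h, hj1])))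
  have h3 : j2 ≠ i := by
    intro h
    rw [h, hj1] at hj3
    exact h1 (hKinj _ _ hj3)
  refine perm3 hE hc (hK i) (hgen i) hρ (E₁ := E₁) (fun φ hφ => hφ.1) (fun φ hφ a ha => ?_) (fun e he => ?_)
    (fun a ha b hb => ?_) (fun a ha b hb => ?_)
  · rw [← hφ.2]; exact ⟨a, ha, rfl⟩
  · obtain ⟨j, hj⟩ := hperm e he i
    have hj' : j = i ∨ j = j1 ∨ j = j2 := by
      by_contra hcon
      push Not at hcon
      have a1 := fun h => hcon.1 (Fin.ext h)
      have a2 := fun h => hcon.2.1 (Fin.ext h)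
      have a3 := fun h => hcon.2.2 (Fin.ext h)
      have a4 := fun h => h1 (Fin.ext h)
      have a5 := fun h => h2 (Fin.ext h)
      have a6 := fun h => h3 (Fin.ext h)
      have b1 := j.2
      have b2 := i.2
      have b3 := j1.2
      have b4 := j2.2
      (clear * - hn h1 h2 h3 hcon; (solve | lia | omega))
    have hcm : ∀ m : ℕ, (K i).map (e * ρ ^ m).toMonoidHom = (K j).map (ρ ^ m).toMonoidHom := by
      intro m
      have h5 : e * ρ ^ m = ρ ^ m * e := comm_of hE he (E.pow_mem hρ m)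
      rw [h5, ← hmm, hj]
    rcases hj' with rfl | rfl | rfl
    · exact ⟨0, E.mul_mem he (E.pow_mem hρ 0), by rw [hcm, pow_zero, hm1]⟩
    · refine ⟨2, E.mul_mem he (E.pow_mem hρ 2), ?_⟩
      rw [hcm, pow_two, ← hmm, hj2, hj3]
    · refine ⟨1, E.mul_mem he (E.pow_mem hρ 1), ?_⟩
      rw [hcm, pow_one, hj3]
  · exact hcomm i j1 h1.symm a ha _ (by rw [← hj1]; exact ⟨b, hb, rfl⟩)
  · exact hcomm i j2 h3.symm a ha _ (by rw [← hj2, ← hj1]; exact ⟨ρ b, ⟨b, hb, rfl⟩, rfl⟩)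

end perm

end Cfsg.Agent.H396.Comp
end

-- part: H350/Tri/Core
section
/-!
# S2187, row TRI: the core (helper350)

`core` : `E` elementary abelian of exponent `3`, `|E ∩ Inndiag| ≥ 9`, `E` not in `Inndiag · field` ⟹ `Gam 3 E = ⊤`.
-/

set_option autoImplicit false
set_option linter.unusedSectionVars false

namespace Cfsg.Agent.H350.Tri

open CoxeterSystem Cfsg Cfsg.Lie Cfsg.Agent.ChevalleyStructure Cfsg.Agent.ChevalleyStructure.Elts
open Cfsg.Agent.ChevalleyStructure.CoxeterGeom Cfsg.Agent.ChevalleyStructure.CoxeterGeomTypes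
  Cfsg.Agent.ChevalleyStructure.NPerm
open Cfsg.Agent.Tits.Roots Cfsg.Agent.Tits.Core Cfsg.Agent.Nodes Cfsg.Agent.Nodes.Reps Cfsg.Agent.Nodes.BNOf
  Cfsg.Agent.Nodes.Bruhat Cfsg.Agent.Nodes.RGDChev
open Cfsg.Agent.KFacts.RgdField Cfsg.Agent.KFacts.RgdChevCoord
open Cfsg.Agent.BpExc Cfsg.Agent.BpExc.TorCent Cfsg.Agent.BpExc.TorChev Cfsg.Agent.BpExc.Tow
  Cfsg.Agent.BpExc.TowChev Cfsg.Agent.BpExc.Fr Cfsg.Agent.BpExc.Pair Cfsg.Agent.BpExc.LangFr
open Cfsg.Agent.BpExc.FamTw.Gr Cfsg.Agent.BpExc.FamUntw Cfsg.Agent.H818.StrP.UTab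
open Cfsg.Agent.H469.Exc Cfsg.Agent.H818.Gen Cfsg.Agent.H316.U6 Cfsg.Agent.H316.U3

universe u v

variable {r : ℕ} [hrf : Fact r.Prime]

theorem core (P : Pieces r) (hr5 : 5 ≤ r) {q : ℕ} {K₀ : Type v} [Group K₀] [Finite K₀]
    [IsSimpleGroup K₀] (m : MData hp4 r q K₀) (hc : ∀ z, (∀ a, z * m.ι a = m.ι a * z) → z = 1)
    {E : Subgroup (MulAut K₀)} (hE : IsElementaryAbelian 3 E) (h9 : 3 ^ 2 ≤ Nat.card ↥(E ⊓ InnL m.ι))
    {x : MulAut K₀} (hx : x ∈ E) {y : Y4 r} {i m' : ℕ} (hi : ¬ 3 ∣ i)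
    (hL : Lift m.ι (MulAut.conj y * gr4 r ^ i * phi chevD4 (KK r) r m') x) : Gam 3 E = ⊤ := by
  have : Fact (Nat.Prime 3) := ⟨Nat.prime_three⟩
  have hr3 : r ≠ 3 := by omega
  have hk := locFin r
  have hhi : HiList chevD4 := by simp [HiList]
  have hZ := H225.Gen.center_KK hhi r
  obtain ⟨E₁, hE₁, hcard, hlift⟩ := exists_Y m.inj hc (elab_mono inf_le_left hE) (inf_le_right : E ⊓ InnL m.ι ≤ _)
  have hfinE : Finite ↥E₁ := Nat.finite_of_card_ne_zero (by rw [hcard]; omega)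
  have hσ : ∀ y ∈ E₁, m.σ y = y := fun y hy => by
    obtain ⟨x, -, h⟩ := hlift y hy
    exact Lift.sigma hc m.fix h
  obtain ⟨z, hz⟩ := Tor.exists_toral (r := r) hp4 Nat.prime_three hr3.symm (Or.inr ⟨rfl, Or.inr rfl⟩) hE₁
  have hE9 : 3 ^ 2 ≤ Nat.card ↥E := h9.trans (Subgroup.card_le_of_le inf_le_left)
  have hK : ∀ e ∈ E₁, e ≠ 1 → ∀ u : K₀, m.ι u * e = e * m.ι u → (∃ j, u ^ r ^ j = 1) → u ∈ Gam 3 E := by
    intro e he he1 u hu hur
    obtain ⟨xe, hxe, hxl⟩ := hlift e he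
    have he3 := hE₁.2 e he
    have hfix : (MulAut.conj y * gr4 r ^ i * phi chevD4 (KK r) r m') e = e :=
      hL.fixed hc hxl (elab_comm hE hx hxe.1)
    -- the Frobenius on `e`
    have hphi : phi chevD4 (KK r) r m' e =
        ((phi chevD4 (KK r) r m' z)⁻¹ * z) * e ^ r ^ m' * ((phi chevD4 (KK r) r m' z)⁻¹ * z)⁻¹ := by
      have h1 := H696.GmnInv.phi_tors hp4 (k := KK r) hk cs4 hZ (n := m') (hz e he)
      rw [map_mul, map_mul, map_inv, conj_pow] at h1
      have h2 : phi chevD4 (KK r) r m' e = (phi chevD4 (KK r) r m' z)⁻¹ *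
          (phi chevD4 (KK r) r m' z * phi chevD4 (KK r) r m' e * (phi chevD4 (KK r) r m' z)⁻¹) *
          phi chevD4 (KK r) r m' z := by group
      rw [h2, h1]
      group
    obtain ⟨n, hn, K, h1, h2, h3, h4⟩ := compK P hr3 m he3 he1 (hσ e he)
      ⟨y * (gr4 r ^ i) ((phi chevD4 (KK r) r m' z)⁻¹ * z), i, r ^ m', hi, by
        have h5 : y * (gr4 r ^ i) (phi chevD4 (KK r) r m' e) * y⁻¹ = e := hfix
        rw [hphi, map_mul, map_mul, map_inv] at h5
        rw [mul_inv_rev]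
        calc _ = y * ((gr4 r ^ i) ((phi chevD4 (KK r) r m' z)⁻¹ * z) * (gr4 r ^ i) (e ^ r ^ m') *
              ((gr4 r ^ i) ((phi chevD4 (KK r) r m' z)⁻¹ * z))⁻¹) * y⁻¹ := by group
          _ = _ := h5⟩
    have hmem : ∀ a : K₀, e * m.ι a = m.ι a * e ↔ xe a = a := by
      intro a
      have h5 : e * m.ι a * e⁻¹ = m.ι (xe a) := hxl a
      constructor
      · intro h6
        apply m.inj
        rw [← h5, h6, mul_inv_cancel_right]
      · intro h6
        rw [h6] at h5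
        exact mul_inv_eq_iff_eq_mul.1 h5
    refine H396.Comp.comp_le hE (by omega) hn K h1 h3 ?_ h2 ?_
    rotate_left
    · rw [h4]
      exact Subgroup.subset_closure ⟨hu.symm, hur⟩
    · -- invariance
      have h8 : ∀ φ ∈ E, (⨆ i, K i).map φ.toMonoidHom ≤ ⨆ i, K i := by
        intro φ hφ
        rw [h4, MonoidHom.map_closure]
        refine (Subgroup.closure_le _).2 ?_
        rintro _ ⟨a, ⟨ha, j, hj⟩, rfl⟩
        refine Subgroup.subset_closure ⟨?_, j, ?_⟩
        · rw [hmem] at ha ⊢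
          have h9 := elab_comm hE hxe.1 hφ
          have h10 : xe (φ a) = φ (xe a) := by
            rw [← MulAut.mul_apply, h9, MulAut.mul_apply]
          show xe (φ a) = φ a
          rw [h10, ha]
        · show (φ a) ^ r ^ j = 1
          rw [← map_pow, hj, map_one]
      intro φ hφ
      refine le_antisymm (h8 φ hφ) fun a ha => ⟨φ⁻¹ a, h8 φ⁻¹ (inv_mem hφ) ⟨a, ha, rfl⟩, ?_⟩
      exact MulAut.apply_inv_self _ φ a
  -- generation
  have hq : 3 ≤ q := by
    rw [← m.hq]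
    calc 3 ≤ r ^ 1 := by rw [pow_one]; omega
      _ ≤ r ^ m.e := Nat.pow_le_pow_right (by omega) m.he
  obtain ⟨F₀, hF₀, hF₀i⟩ := exists_hyperplane (p := 3) hE₁ (by rw [hcard]; omega)
  refine gen_top_r hhi m hq (fun h => absurd (congrArg ChevalleyDatum.nroots h) (by decide)) Nat.prime_three (E := E₁) (fun a ha => hE₁.2 a ha)
    ⟨F₀, hF₀, hF₀i⟩ hσ hz (Or.inl (H225.Gen.three_not_dvd_sq q)) (M₀ := Gam 3 E) ?_
  intro F hF hFi a ha har
  obtain ⟨e, heF, he1⟩ : ∃ e ∈ F, e ≠ 1 := by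
    by_contra hcon
    push Not at hcon
    have h5 : F = ⊥ := by rw [eq_bot_iff]; exact fun e he => Subgroup.mem_bot.2 (hcon e he)
    rw [h5, Subgroup.bot_subgroupOf, Subgroup.index_bot, hcard] at hFi
    omega
  exact hK e (hF heF) he1 a (ha e heF) har

end Cfsg.Agent.H350.Tri
end

-- part: H350/Tri/Cases
section
/-!
# S2187, row TRI: the elementary abelian groups meeting `Inndiag` trivially (helper350)

`Y` a group with commuting automorphisms `γ`, `Φ`, `γ ^ 3 = 1`, `σ = Φ` or `σ = Φ ^ 3`; `R` an elementary abelian `3`-subgroup of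
`Aut K₀` with `R ∩ Inndiag = 1` whose elements lift to `conj y * γ ^ i * Φ ^ j`, one of them with `3 ∤ i`.

`tri_cases` : `R` is covered by the lifts in `⟨θ, F⟩`, `θ = conj u * γ ^ i`, `F = conj w * Φ` or `conj w * Φ ^ 3`, or by the lifts in
`⟨conj w * γ ^ i * Φ⟩`.
-/

set_option autoImplicit false
set_option linter.unusedSectionVars false
set_option maxHeartbeats 400000

namespace Cfsg.Agent.H350.Tri

open Cfsg Subgroup Cfsg.Agent.H818.Gen

variable {Y K₀ : Type*} [Group Y] [Group K₀] {ι : K₀ →* Y}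

theorem Lift.unique (hι : Function.Injective ι) {Θ : MulAut Y} {x x' : MulAut K₀} (h : Lift ι Θ x) (h' : Lift ι Θ x') :
    x = x' := MulEquiv.ext fun a => hι (by rw [← h a, ← h' a])

/-- the automorphisms of `K₀` with a lift in `𝒢` -/
def LiftsIn (ι : K₀ →* Y) (𝒢 : Subgroup (MulAut Y)) : Subgroup (MulAut K₀) where
  carrier := {x | ∃ Θ ∈ 𝒢, Lift ι Θ x}
  one_mem' := ⟨1, one_mem _, Lift.one⟩
  mul_mem' := by
    rintro x x' ⟨y, h, hy⟩ ⟨y', h', hy'⟩
    exact ⟨y * y', mul_mem h h', hy.mul hy'⟩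
  inv_mem' := by
    rintro x ⟨y, h, hy⟩
    exact ⟨y⁻¹, inv_mem h, hy.inv⟩

theorem mem_of_pow3 {X : Type*} [Group X] {H : Subgroup X} {x : X} (hx : x ^ 3 = 1) {c : ℕ} (hc : c.Coprime 3)
    (h : x ^ c ∈ H) : x ∈ H := by
  have h1 : x = (x ^ c) ^ c := by
    have h2 : c % 3 = 1 ∨ c % 3 = 2 := by
      have h3 : ¬ 3 ∣ c := fun h4 => by
        have := Nat.Coprime.eq_one_of_dvd (Nat.Coprime.symm hc) h4
        omega
      omega
    have h3 : c * c % 3 = 1 := by
      rcases h2 with h2 | h2 <;> rw [Nat.mul_mod, h2]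
    rw [← pow_mul, ← Nat.div_add_mod (c * c) 3, h3, pow_add, pow_mul, hx, one_pow, one_mul, pow_one]
  rw [h1]
  exact pow_mem h c

section

variable {γ Φ σ : MulAut Y}

theorem conj_map (Θ : MulAut Y) (y : Y) : Θ * MulAut.conj y = MulAut.conj (Θ y) * Θ := by
  ext a
  simp only [MulAut.mul_apply, MulAut.conj_apply, map_mul, map_inv]

/-- the automorphisms `conj y * γ ^ i * Φ ^ j` -/
theorem ty_mul (hcomm : Commute γ Φ) {y y' : Y} {i j i' j' : ℕ} : ∃ y'',
    (MulAut.conj y * γ ^ i * Φ ^ j) * (MulAut.conj y' * γ ^ i' * Φ ^ j') = MulAut.conj y'' * γ ^ (i + i') * Φ ^ (j + j') := by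
  refine ⟨y * (γ ^ i * Φ ^ j) y', ?_⟩
  have h1 : (γ ^ i * Φ ^ j) * MulAut.conj y' = MulAut.conj ((γ ^ i * Φ ^ j) y') * (γ ^ i * Φ ^ j) := conj_map _ _
  have h2 : Φ ^ j * γ ^ i' = γ ^ i' * Φ ^ j := ((hcomm.pow_pow i' j).eq).symm
  calc (MulAut.conj y * γ ^ i * Φ ^ j) * (MulAut.conj y' * γ ^ i' * Φ ^ j')
      = MulAut.conj y * ((γ ^ i * Φ ^ j) * MulAut.conj y') * (γ ^ i' * Φ ^ j') := by group
    _ = MulAut.conj y * MulAut.conj ((γ ^ i * Φ ^ j) y') * (γ ^ i * (Φ ^ j * γ ^ i') * Φ ^ j') := by rw [h1]; group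
    _ = _ := by rw [h2, map_mul, pow_add, pow_add]; group

variable (ι γ Φ)

/-- `x` lifts to `conj y * γ ^ i * Φ ^ j` -/
def Ty (x : MulAut K₀) (i j : ℕ) : Prop := ∃ y, Lift ι (MulAut.conj y * γ ^ i * Φ ^ j) x

variable {ι γ Φ}

theorem Ty.mul (hcomm : Commute γ Φ) {x x' : MulAut K₀} {i j i' j' : ℕ} (h : Ty ι γ Φ x i j) (h' : Ty ι γ Φ x' i' j') :
    Ty ι γ Φ (x * x') (i + i') (j + j') := by
  obtain ⟨y, hy⟩ := h
  obtain ⟨y', hy'⟩ := h'
  obtain ⟨y'', hy''⟩ := ty_mul (y := y) (y' := y') (i := i) (j := j) (i' := i') (j' := j') hcomm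
  exact ⟨y'', by rw [← hy'']; exact hy.mul hy'⟩

theorem Ty.pow (hcomm : Commute γ Φ) {x : MulAut K₀} {i j : ℕ} (h : Ty ι γ Φ x i j) (n : ℕ) :
    Ty ι γ Φ (x ^ n) (n * i) (n * j) := by
  induction n with
  | zero =>
    rw [Nat.zero_mul, Nat.zero_mul]
    exact ⟨1, by rw [map_one, pow_zero, pow_zero, pow_zero, one_mul, one_mul]; exact Lift.one⟩
  | succ n ih =>
    rw [pow_succ, Nat.succ_mul, Nat.succ_mul]
    exact ih.mul hcomm h

variable (hγ : γ ^ 3 = 1) (hcomm : Commute γ Φ) (hΦ : Lift ι (Φ ^ 3) 1)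

include hγ in
theorem gam_mod (i : ℕ) : γ ^ i = γ ^ (i % 3) := by
  conv_lhs => rw [← Nat.div_add_mod i 3, pow_add, pow_mul, hγ, one_pow, one_mul]

include hγ hΦ in
theorem Ty.mod {x : MulAut K₀} {i j i' j' : ℕ} (h : Ty ι γ Φ x i j) (hi : i % 3 = i' % 3) (hj : j % 3 = j' % 3) :
    Ty ι γ Φ x i' j' := by
  obtain ⟨y, hy⟩ := h
  refine ⟨y, fun a => ?_⟩
  have h1 : ∀ n b, (Φ ^ (3 * n)) (ι b) = ι b := by
    intro n b
    have := (hΦ.pow n) b
    rw [one_pow, ← pow_mul] at this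
    exact this
  have h2 : ∀ n b, (Φ ^ n) (ι b) = (Φ ^ (n % 3)) (ι b) := by
    intro n b
    conv_lhs => rw [← Nat.mod_add_div n 3, pow_add, MulAut.mul_apply, h1]
  have h3 := hy a
  rw [MulAut.mul_apply, gam_mod hγ i, hi, ← gam_mod hγ i', h2, hj, ← h2] at h3
  exact h3

include hγ hΦ in
theorem Ty.inn {x : MulAut K₀} {i j : ℕ} (h : Ty ι γ Φ x i j) (hi : i % 3 = 0) (hj : j % 3 = 0) : x ∈ InnL ι := by
  obtain ⟨y, hy⟩ := h.mod hγ hΦ (i' := 0) (j' := 0) hi hj
  exact ⟨y, by rwa [pow_zero, pow_zero, mul_one, mul_one] at hy⟩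

variable (hc : ∀ z : Y, (∀ a, z * ι a = ι a * z) → z = 1)

include hc in
/-- lifts of commuting automorphisms commute -/
theorem lift_comm (hcomm : Commute γ Φ) {x x' : MulAut K₀} (hxx : x * x' = x' * x) {y y' : Y} {i j i' j' : ℕ}
    (h : Lift ι (MulAut.conj y * γ ^ i * Φ ^ j) x) (h' : Lift ι (MulAut.conj y' * γ ^ i' * Φ ^ j') x') :
    Commute (MulAut.conj y * γ ^ i * Φ ^ j) (MulAut.conj y' * γ ^ i' * Φ ^ j') := by
  obtain ⟨z, hz⟩ := ty_mul (y := y) (y' := y') (i := i) (j := j) (i' := i') (j' := j') hcomm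
  obtain ⟨z', hz'⟩ := ty_mul (y := y') (y' := y) (i := i') (j := j') (i' := i) (j' := j) hcomm
  have h1 := h.mul h'
  have h2 := h'.mul h
  rw [hz] at h1
  rw [hz', ← hxx, add_comm i', add_comm j'] at h2
  have h3 : MulAut.conj (z' * z⁻¹) * (MulAut.conj z * γ ^ (i + i') * Φ ^ (j + j')) =
      MulAut.conj z' * γ ^ (i + i') * Φ ^ (j + j') := by
    rw [map_mul, map_inv]; group
  have h4 := Lift.eq_one hc (w := z' * z⁻¹) h1 (by rw [h3]; exact h2)
  have h5 : z' = z := mul_inv_eq_one.1 h4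
  show (MulAut.conj y * γ ^ i * Φ ^ j) * (MulAut.conj y' * γ ^ i' * Φ ^ j') = _
  rw [hz, hz', h5, add_comm i', add_comm j']

end

/-- the fixing property of the conclusion -/
theorem tri_cases {γ Φ σ : MulAut Y} (hγ : γ ^ 3 = 1) (hcomm : Commute γ Φ) (hσ : Lift ι σ 1)
    (hd : Φ = σ ∨ Φ ^ 3 = σ) (hc : ∀ z : Y, (∀ a, z * ι a = ι a * z) → z = 1)
    {R : Subgroup (MulAut K₀)} (hR : IsElementaryAbelian 3 R) (hR0 : R ⊓ InnL ι = ⊥)
    (hty : ∀ ρ ∈ R, ∃ c i j : ℕ, c.Coprime 3 ∧ Ty ι γ Φ (ρ ^ c) i j)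
    (hx : ∃ x ∈ R, ∃ i j : ℕ, ¬ 3 ∣ i ∧ Ty ι γ Φ x i j) :
    (∃ (u w : Y) (i : ℕ) (F : MulAut Y), ¬ 3 ∣ i ∧ (F = MulAut.conj w * Φ ∨ F = MulAut.conj w * Φ ^ 3) ∧
      Commute (MulAut.conj u * γ ^ i) F ∧ (MulAut.conj u * γ ^ i) ^ 3 = 1 ∧ σ ∈ _root_.Subgroup.closure {MulAut.conj u * γ ^ i, F} ∧
      R ≤ LiftsIn ι (_root_.Subgroup.closure {MulAut.conj u * γ ^ i, F})) ∨
    (∃ (w : Y) (i : ℕ), ¬ 3 ∣ i ∧ σ ∈ _root_.Subgroup.closure {MulAut.conj w * γ ^ i * Φ} ∧
      R ≤ LiftsIn ι (_root_.Subgroup.closure {MulAut.conj w * γ ^ i * Φ})) := by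
  have hΦ : Lift ι (Φ ^ 3) 1 := by
    rcases hd with h | h
    · rw [h]
      have := hσ.pow 3
      rwa [one_pow] at this
    · rw [h]; exact hσ
  have hR1 : ∀ x ∈ R, x ∈ InnL ι → x = 1 := fun x h1 h2 => by
    have : x ∈ R ⊓ InnL ι := ⟨h1, h2⟩
    rwa [hR0, mem_bot] at this
  -- elements of `R` with `3`-divisible type are trivial
  have hR2 : ∀ x ∈ R, ∀ i j, Ty ι γ Φ x i j → i % 3 = 0 → j % 3 = 0 → x = 1 :=
    fun x h1 i j h2 h3 h4 => hR1 x h1 (h2.inn hγ hΦ h3 h4)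
  have hcube : ∀ {y : Y} {i j : ℕ} {x : MulAut K₀}, x ∈ R → Lift ι (MulAut.conj y * γ ^ i * Φ ^ j) x →
      ∃ w, (MulAut.conj y * γ ^ i * Φ ^ j) ^ 3 = MulAut.conj w * Φ ^ (3 * j) ∧ Lift ι (MulAut.conj w * Φ ^ (3 * j)) 1 := by
    intro y i j x hxR hL
    obtain ⟨z, hz⟩ := ty_mul (y := y) (y' := y) (i := i) (j := j) (i' := i) (j' := j) hcomm
    obtain ⟨z', hz'⟩ := ty_mul (y := z) (y' := y) (i := i + i) (j := j + j) (i' := i) (j' := j) hcomm
    have h1 : (MulAut.conj y * γ ^ i * Φ ^ j) ^ 3 = MulAut.conj z' * Φ ^ (3 * j) := by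
      rw [pow_succ, pow_two, hz, hz', gam_mod hγ]
      have e1 : (i + i + i) % 3 = 0 := by omega
      have e2 : j + j + j = 3 * j := by ring
      rw [e1, e2, pow_zero, mul_one]
    refine ⟨z', h1, ?_⟩
    have h2 := hL.pow 3
    rw [h1, hR.2 x hxR] at h2
    exact h2
  obtain ⟨x, hxR, i, j, hi, hxty⟩ := hx
  rcases hd with hd | hd
  · -- `Φ = σ`
    left
    have hΦ1 : Lift ι Φ 1 := by rw [hd]; exact hσ
    have hstrip : ∀ {x : MulAut K₀} {i j : ℕ}, Ty ι γ Φ x i j → ∃ y, Lift ι (MulAut.conj y * γ ^ i) x := by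
      rintro x i j ⟨y, hy⟩
      refine ⟨y, fun a => ?_⟩
      have h1 := hy a
      have h2 := (hΦ1.pow j) a
      rw [one_pow, MulAut.one_apply] at h2
      rwa [MulAut.mul_apply, h2] at h1
    obtain ⟨u, hu⟩ := hstrip hxty
    have hu' : Lift ι (MulAut.conj u * γ ^ i * Φ ^ 0) x := by rwa [pow_zero, mul_one]
    refine ⟨u, 1, i, Φ, hi, Or.inl (by rw [map_one, one_mul]), ?_, ?_, hd ▸ Subgroup.subset_closure (Or.inr rfl), ?_⟩
    · have h1 := lift_comm hc hcomm (x := x) (x' := 1) (by rw [one_mul, mul_one]) hu' (y' := 1) (i' := 0) (j' := 1)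
        (by rw [map_one, pow_zero, pow_one, one_mul, one_mul]; exact hΦ1)
      rwa [pow_zero, mul_one, map_one, pow_zero, pow_one, one_mul, one_mul] at h1
    · obtain ⟨w, h1, h2⟩ := hcube hxR hu'
      rw [Nat.mul_zero, pow_zero, mul_one, mul_one] at h1
      rw [Nat.mul_zero, pow_zero, mul_one] at h2
      rw [h1, Lift.eq_one hc (w := w) Lift.one (by rw [mul_one]; exact h2), map_one]
    · intro ρ hρ
      obtain ⟨c, i', j', hcc, hρty⟩ := hty ρ hρ
      refine mem_of_pow3 (hR.2 ρ hρ) hcc ?_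
      obtain ⟨y', hy'⟩ := hstrip hρty
      obtain ⟨s, hs⟩ : ∃ s, (s * i + i') % 3 = 0 := by
        have h1 : i % 3 = 1 ∨ i % 3 = 2 := by omega
        rcases h1 with h1 | h1
        · refine ⟨3 - i' % 3, ?_⟩
          rw [Nat.add_mod, Nat.mul_mod, h1]; omega
        · refine ⟨i' % 3, ?_⟩
          rw [Nat.add_mod, Nat.mul_mod, h1]; (clear * -; solve | lia | omega)
      have h1 : Ty ι γ Φ (x ^ s * ρ ^ c) (s * i + i') (s * 0 + 0) :=
        Ty.mul hcomm (Ty.pow hcomm ⟨u, hu'⟩ s) ⟨y', by rwa [pow_zero, mul_one]⟩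
      have h2 := hR2 _ (mul_mem (pow_mem hxR s) (pow_mem hρ c)) _ _ h1 hs (by simp)
      have h3 : ρ ^ c = (x ^ s)⁻¹ := eq_inv_of_mul_eq_one_right h2
      rw [h3]
      refine inv_mem (pow_mem ?_ s)
      exact ⟨_, Subgroup.subset_closure (Or.inl rfl), hu⟩
  · -- `Φ ^ 3 = σ`
    by_cases hg : ∃ ρ ∈ R, ∃ i, ¬ 3 ∣ i ∧ Ty ι γ Φ ρ i 0
    · left
      obtain ⟨ρ₀, hρ₀, i, hi, u, hu⟩ := hg
      have hu1 : Lift ι (MulAut.conj u * γ ^ i) ρ₀ := by rwa [pow_zero, mul_one] at hu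
      have hθ3 : (MulAut.conj u * γ ^ i) ^ 3 = 1 := by
        obtain ⟨w, h1, h2⟩ := hcube hρ₀ hu
        rw [Nat.mul_zero, pow_zero, mul_one, mul_one] at h1
        rw [Nat.mul_zero, pow_zero, mul_one] at h2
        rw [h1, Lift.eq_one hc (w := w) Lift.one (by rw [mul_one]; exact h2), map_one]
      -- kill the graph part
      have hkill : ∀ i' : ℕ, ∃ s, (s * i + i') % 3 = 0 := by
        intro i'
        have h1 : i % 3 = 1 ∨ i % 3 = 2 := by omega
        rcases h1 with h1 | h1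
        · refine ⟨3 - i' % 3, ?_⟩
          rw [Nat.add_mod, Nat.mul_mod, h1]; omega
        · refine ⟨i' % 3, ?_⟩
          rw [Nat.add_mod, Nat.mul_mod, h1]; (clear * -; solve | lia | omega)
      by_cases hf : ∃ φ ∈ R, Ty ι γ Φ φ 0 1
      · obtain ⟨φ₀, hφ₀, w, hw⟩ := hf
        have hw1 : Lift ι (MulAut.conj w * Φ) φ₀ := by rwa [pow_zero, pow_one, mul_one] at hw
        refine ⟨u, w, i, MulAut.conj w * Φ, hi, Or.inl rfl, ?_, hθ3, ?_, ?_⟩
        · have h1 := lift_comm hc hcomm (x := ρ₀) (x' := φ₀) (elab_comm hR hρ₀ hφ₀) hu hw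
          rwa [pow_zero, mul_one, pow_zero, mul_one, pow_one] at h1
        · obtain ⟨w', h1, h2⟩ := hcube hφ₀ hw
          rw [pow_zero, mul_one, pow_one, mul_one] at h1
          rw [mul_one] at h2
          rw [Lift.eq_one hc (w := w') (Θ := Φ ^ 3) hΦ h2, map_one, one_mul, hd] at h1
          have h3 : MulAut.conj w * Φ ∈ _root_.Subgroup.closure {MulAut.conj u * γ ^ i, MulAut.conj w * Φ} :=
            Subgroup.subset_closure (Set.mem_insert_of_mem _ rfl)
          have h4 := pow_mem h3 3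
          rw [h1] at h4
          exact h4
        · intro ρ hρ
          obtain ⟨c, i', j', hcc, hρty⟩ := hty ρ hρ
          refine mem_of_pow3 (hR.2 ρ hρ) hcc ?_
          obtain ⟨s, hs⟩ := hkill i'
          obtain ⟨t, ht⟩ : ∃ t, (t * 1 + j') % 3 = 0 := ⟨3 - j' % 3, by omega⟩
          have h1 : Ty ι γ Φ (x := φ₀ ^ t * (ρ₀ ^ s * ρ ^ c)) (t * 0 + (s * i + i')) (t * 1 + (s * 0 + j')) :=
            Ty.mul hcomm (Ty.pow hcomm ⟨w, hw⟩ t) (Ty.mul hcomm (Ty.pow hcomm ⟨u, hu⟩ s) hρty)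
          have h2 := hR2 _ (mul_mem (pow_mem hφ₀ t) (mul_mem (pow_mem hρ₀ s) (pow_mem hρ c))) _ _ h1
            (by rw [Nat.mul_zero, Nat.zero_add]; exact hs) (by rw [Nat.mul_zero, Nat.zero_add]; exact ht)
          have h3 : ρ ^ c = (φ₀ ^ t * ρ₀ ^ s)⁻¹ := eq_inv_of_mul_eq_one_right (by rw [mul_assoc]; exact h2)
          rw [h3]
          refine inv_mem (mul_mem (pow_mem ?_ t) (pow_mem ?_ s))
          · exact ⟨_, Subgroup.subset_closure (Or.inr rfl), hw1⟩
          · exact ⟨_, Subgroup.subset_closure (Or.inl rfl), hu1⟩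
      · refine ⟨u, 1, i, σ, hi, Or.inr (by rw [map_one, one_mul, hd]), ?_, hθ3, Subgroup.subset_closure (Or.inr rfl), ?_⟩
        · have h1 := lift_comm hc hcomm (x := ρ₀) (x' := 1) (by rw [one_mul, mul_one]) hu (y' := 1) (i' := 0) (j' := 3)
            (by rw [map_one, pow_zero, one_mul, one_mul]; exact hΦ)
          rwa [pow_zero, mul_one, map_one, pow_zero, one_mul, one_mul, hd] at h1
        · intro ρ hρ
          obtain ⟨c, i', j', hcc, hρty⟩ := hty ρ hρ
          refine mem_of_pow3 (hR.2 ρ hρ) hcc ?_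
          obtain ⟨s, hs⟩ := hkill i'
          have h1 : Ty ι γ Φ (ρ₀ ^ s * ρ ^ c) (s * i + i') (s * 0 + j') :=
            Ty.mul hcomm (Ty.pow hcomm ⟨u, hu⟩ s) hρty
          have hmem : ρ₀ ^ s * ρ ^ c ∈ R := mul_mem (pow_mem hρ₀ s) (pow_mem hρ c)
          have h2 : ρ₀ ^ s * ρ ^ c = 1 := by
            have h3 : j' % 3 = 0 ∨ j' % 3 = 1 ∨ j' % 3 = 2 := by omega
            rcases h3 with h3 | h3 | h3
            · exact hR2 _ hmem _ _ h1 hs (by rw [Nat.mul_zero, Nat.zero_add]; exact h3)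
            · exact absurd ⟨_, hmem, h1.mod hγ hΦ (by rw [hs]) (by rw [Nat.mul_zero, Nat.zero_add, h3])⟩ hf
            · refine absurd ⟨_, pow_mem hmem 2, (h1.pow hcomm 2).mod hγ hΦ (i' := 0) (j' := 1) ?_ ?_⟩ hf
              · rw [Nat.mul_mod, hs]
              · rw [Nat.mul_zero, Nat.zero_add, Nat.mul_mod, h3]
          have h3 : ρ ^ c = (ρ₀ ^ s)⁻¹ := eq_inv_of_mul_eq_one_right h2
          rw [h3]
          refine inv_mem (pow_mem ?_ s)
          exact ⟨_, Subgroup.subset_closure (Or.inl rfl), hu1⟩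
    · right
      -- the generator with `j = 1`
      obtain ⟨x₀, hx₀, i₀, hi₀, w, hw⟩ : ∃ x₀ ∈ R, ∃ i₀, ¬ 3 ∣ i₀ ∧ Ty ι γ Φ x₀ i₀ 1 := by
        have h3 : j % 3 = 0 ∨ j % 3 = 1 ∨ j % 3 = 2 := by omega
        rcases h3 with h3 | h3 | h3
        · exact absurd ⟨x, hxR, i, hi, hxty.mod hγ hΦ rfl (by rw [h3])⟩ hg
        · exact ⟨x, hxR, i, hi, hxty.mod hγ hΦ rfl (by rw [h3])⟩
        · refine ⟨x ^ 2, pow_mem hxR 2, 2 * i, by omega, (hxty.pow hcomm 2).mod hγ hΦ rfl ?_⟩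
          rw [Nat.mul_mod, h3]
      have hw1 : Lift ι (MulAut.conj w * γ ^ i₀ * Φ) x₀ := by rwa [pow_one] at hw
      refine ⟨w, i₀, hi₀, ?_, ?_⟩
      · obtain ⟨w', h1, h2⟩ := hcube hx₀ hw
        rw [pow_one, mul_one] at h1
        rw [mul_one] at h2
        rw [Lift.eq_one hc (w := w') (Θ := Φ ^ 3) hΦ h2, map_one, one_mul, hd] at h1
        have h3 : MulAut.conj w * γ ^ i₀ * Φ ∈ _root_.Subgroup.closure {MulAut.conj w * γ ^ i₀ * Φ} :=
          Subgroup.subset_closure (Set.mem_singleton _)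
        have h4 := pow_mem h3 3
        rw [h1] at h4
        exact h4
      · intro ρ hρ
        obtain ⟨c, i', j', hcc, hρty⟩ := hty ρ hρ
        refine mem_of_pow3 (hR.2 ρ hρ) hcc ?_
        obtain ⟨t, ht⟩ : ∃ t, (t * 1 + j') % 3 = 0 := ⟨3 - j' % 3, by omega⟩
        have h1 : Ty ι γ Φ (x₀ ^ t * ρ ^ c) (t * i₀ + i') (t * 1 + j') :=
          Ty.mul hcomm (Ty.pow hcomm ⟨w, hw⟩ t) hρty
        have hmem : x₀ ^ t * ρ ^ c ∈ R := mul_mem (pow_mem hx₀ t) (pow_mem hρ c)
        have h2 : x₀ ^ t * ρ ^ c = 1 := by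
          by_cases h3 : 3 ∣ t * i₀ + i'
          · exact hR2 _ hmem _ _ h1 (by omega) ht
          · exact absurd ⟨_, hmem, _, h3, h1.mod hγ hΦ rfl (by rw [ht])⟩ hg
        have h3 : ρ ^ c = (x₀ ^ t)⁻¹ := eq_inv_of_mul_eq_one_right h2
        rw [h3]
        refine inv_mem (pow_mem ?_ t)
        exact ⟨_, Subgroup.subset_closure rfl, hw1⟩

/-- the twisted case `σ = γ * Φ` -/
theorem tri_cases_tw {γ Φ σ : MulAut Y} (hγ : γ ^ 3 = 1) (hcomm : Commute γ Φ) (hσ : Lift ι σ 1)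
    (hd : γ * Φ = σ) (hc : ∀ z : Y, (∀ a, z * ι a = ι a * z) → z = 1)
    {R : Subgroup (MulAut K₀)} (hR : IsElementaryAbelian 3 R) (hR0 : R ⊓ InnL ι = ⊥)
    (hty : ∀ ρ ∈ R, ∃ c i : ℕ, c.Coprime 3 ∧ ∃ y, Lift ι (MulAut.conj y * γ ^ i) (ρ ^ c))
    (hx : ∃ x ∈ R, ∃ i : ℕ, ¬ 3 ∣ i ∧ ∃ y, Lift ι (MulAut.conj y * γ ^ i) x) :
    ∃ (u w : Y) (i : ℕ) (F : MulAut Y), ¬ 3 ∣ i ∧ (F = MulAut.conj w * Φ ∨ F = MulAut.conj w * Φ ^ 3) ∧
      Commute (MulAut.conj u * γ ^ i) F ∧ (MulAut.conj u * γ ^ i) ^ 3 = 1 ∧ σ ∈ _root_.Subgroup.closure {MulAut.conj u * γ ^ i, F} ∧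
      R ≤ LiftsIn ι (_root_.Subgroup.closure {MulAut.conj u * γ ^ i, F}) := by
  obtain ⟨x, hxR, i, hi, u, hu⟩ := hx
  have hkill : ∀ i' : ℕ, ∃ s, (s * i + i') % 3 = 0 := by
    intro i'
    have h1 : i % 3 = 1 ∨ i % 3 = 2 := by omega
    rcases h1 with h1 | h1
    · refine ⟨3 - i' % 3, ?_⟩
      rw [Nat.add_mod, Nat.mul_mod, h1]; (clear * -; solve | lia | omega)
    · refine ⟨i' % 3, ?_⟩
      rw [Nat.add_mod, Nat.mul_mod, h1]; (clear * -; solve | lia | omega)
  obtain ⟨θ, hθ⟩ : ∃ θ, θ = MulAut.conj u * γ ^ i := ⟨_, rfl⟩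
  rw [← hθ] at hu
  -- powers of `θ`
  have hpow : ∀ n : ℕ, ∃ y, θ ^ n = MulAut.conj y * γ ^ (n * i) := by
    intro n
    induction n with
    | zero => exact ⟨1, by rw [map_one, Nat.zero_mul, pow_zero, pow_zero, one_mul]⟩
    | succ n ih =>
      obtain ⟨y, hy⟩ := ih
      refine ⟨y * (γ ^ (n * i)) u, ?_⟩
      have h1 := conj_map (γ ^ (n * i)) u
      rw [pow_succ, hy, hθ, Nat.succ_mul, pow_add, map_mul]
      calc MulAut.conj y * γ ^ (n * i) * (MulAut.conj u * γ ^ i)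
          = MulAut.conj y * (γ ^ (n * i) * MulAut.conj u) * γ ^ i := by group
        _ = _ := by rw [h1]; group
  have hθ3 : θ ^ 3 = 1 := by
    obtain ⟨y, hy⟩ := hpow 3
    rw [gam_mod hγ, Nat.mul_mod_right, pow_zero, mul_one] at hy
    have h1 := hu.pow 3
    rw [hR.2 x hxR, hy] at h1
    rw [hy, Lift.eq_one hc (w := y) Lift.one (by rw [mul_one]; exact h1), map_one]
  have hθσ : Commute θ σ := by
    have h1 : σ * θ = MulAut.conj (σ u * u⁻¹) * (θ * σ) := by
      have h2 := conj_map σ u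
      have h3 : σ * γ ^ i = γ ^ i * σ := by
        rw [← hd]
        exact ((((Commute.refl γ).mul_left hcomm.symm).pow_right i)).eq
      rw [hθ]
      calc σ * (MulAut.conj u * γ ^ i) = (σ * MulAut.conj u) * γ ^ i := by group
        _ = MulAut.conj (σ u) * (σ * γ ^ i) := by rw [h2]; group
        _ = _ := by rw [h3, map_mul, map_inv]; group
    have h2 : Lift ι (θ * σ) x := by
      have := hu.mul hσ
      rwa [mul_one] at this
    have h3 : Lift ι (σ * θ) x := by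
      have := hσ.mul hu
      rwa [one_mul] at this
    rw [h1] at h3
    have h4 := Lift.eq_one hc h2 h3
    show θ * σ = σ * θ
    rw [h1, h4, map_one, one_mul]
  obtain ⟨s, hs⟩ := hkill 1
  obtain ⟨y, hy⟩ := hpow s
  have hF : θ ^ s * σ = MulAut.conj y * Φ := by
    rw [hy, ← hd]
    have h1 : γ ^ (s * i) * γ = 1 := by rw [← pow_succ, gam_mod hγ, hs, pow_zero]
    calc MulAut.conj y * γ ^ (s * i) * (γ * Φ) = MulAut.conj y * (γ ^ (s * i) * γ) * Φ := by group
      _ = _ := by rw [h1, mul_one]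
  have hθc : θ ∈ _root_.Subgroup.closure {θ, θ ^ s * σ} := Subgroup.subset_closure (Or.inl rfl)
  have hFc : θ ^ s * σ ∈ _root_.Subgroup.closure {θ, θ ^ s * σ} := Subgroup.subset_closure (Or.inr rfl)
  refine ⟨u, y, i, θ ^ s * σ, hi, Or.inl hF, ?_, ?_, ?_, ?_⟩
  · rw [← hθ]
    exact ((Commute.refl θ).pow_right s).mul_right hθσ
  · rw [← hθ]; exact hθ3
  · rw [← hθ]
    have h1 := mul_mem (inv_mem (pow_mem hθc s)) hFc
    rwa [inv_mul_cancel_left] at h1
  · rw [← hθ]
    intro ρ hρ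
    obtain ⟨c, i', hcc, y', hy'⟩ := hty ρ hρ
    refine mem_of_pow3 (hR.2 ρ hρ) hcc ?_
    obtain ⟨t, ht⟩ := hkill i'
    obtain ⟨z, hz⟩ := hpow t
    have h1 : Lift ι (MulAut.conj (z * (γ ^ (t * i)) y')) (x ^ t * ρ ^ c) := by
      have h2 := (hu.pow t).mul hy'
      have h3 : θ ^ t * (MulAut.conj y' * γ ^ i') = MulAut.conj (z * (γ ^ (t * i)) y') := by
        have h4 := conj_map (γ ^ (t * i)) y'
        have h5 : γ ^ (t * i) * γ ^ i' = 1 := by rw [← pow_add, gam_mod hγ, ht, pow_zero]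
        rw [hz, map_mul]
        calc MulAut.conj z * γ ^ (t * i) * (MulAut.conj y' * γ ^ i')
            = MulAut.conj z * (γ ^ (t * i) * MulAut.conj y') * γ ^ i' := by group
          _ = MulAut.conj z * MulAut.conj ((γ ^ (t * i)) y') * (γ ^ (t * i) * γ ^ i') := by rw [h4]; group
          _ = _ := by rw [h5, mul_one]
      rwa [h3] at h2
    have h2 : x ^ t * ρ ^ c ∈ R ⊓ InnL ι := ⟨mul_mem (pow_mem hxR t) (pow_mem hρ c), _, h1⟩
    rw [hR0, mem_bot] at h2
    have h3 : ρ ^ c = (x ^ t)⁻¹ := eq_inv_of_mul_eq_one_right h2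
    rw [h3]
    exact inv_mem (pow_mem (show x ∈ LiftsIn ι _ from ⟨θ, hθc, hu⟩) t)

end Cfsg.Agent.H350.Tri
end

-- part: H350/Tri/Model
section
/-!
# The data of `D.group F` and of `³D₄(q)` with explicit Frobenius and embedding (S2187, row TRI)

`mdata_std`, `mdata_td4` : the proofs of `H316.U6.mdata_untw'`, `mdata_twD4'` (helper316) with `σ` and `ι` in the statement.
-/

set_option autoImplicit false
set_option linter.unusedSectionVars false

namespace Cfsg.Agent.H350.Tri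

open CoxeterSystem Cfsg Cfsg.Lie Cfsg.Lie.ChevalleyDatum
open Cfsg.Agent.ChevalleyStructure Cfsg.Agent.ChevalleyStructure.Elts Cfsg.Agent.ChevalleyStructure.CoxeterGeom
  Cfsg.Agent.ChevalleyStructure.CoxeterGeomTypes Cfsg.Agent.ChevalleyStructure.NPerm
open Cfsg.Agent.Tits.Roots Cfsg.Agent.Tits.Core Cfsg.Agent.Nodes Cfsg.Agent.Nodes.Reps Cfsg.Agent.Nodes.BNOf
  Cfsg.Agent.Nodes.OppDec
  Cfsg.Agent.Nodes.RGDChev Cfsg.Agent.Nodes.Bruhat Cfsg.Agent.Nodes.NormalForm
open Cfsg.Agent.KFacts.RgdField Cfsg.Agent.KFacts.RgdChevCoord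
open Cfsg.Agent.BpExc Cfsg.Agent.BpExc.FamField Cfsg.Agent.BpExc.TorCent Cfsg.Agent.BpExc.TorChev Cfsg.Agent.BpExc.Tow
  Cfsg.Agent.BpExc.TowChev Cfsg.Agent.BpExc.Fr Cfsg.Agent.BpExc.Pair Cfsg.Agent.BpExc.LangFr Cfsg.Agent.GpExc.Field
  Cfsg.Agent.BpExc.FamUntw Cfsg.Agent.BpExc.FamInst
open Cfsg.Agent.H316.U6
open Cfsg.Agent.H469.Exc Cfsg.Agent.H469.Exc.SigFr
open Cfsg.Agent.ChevalleyStructure.SignedSymm Cfsg.Agent.ChevalleyStructure.GraphSymm
open Cfsg.Agent.LangThm (mem_XX_vec)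

universe u v

variable {D : ChevalleyDatum} {l : ℕ} {M : CoxeterMatrix (Fin l)} {r : ℕ} [hr : Fact r.Prime]

theorem mdata_std (hp : IsType D l M) (F : Type) [Field F] [Fintype F] [CharP F r] {d : ℕ}
    {B : Fin l → Fin l → ℤ} (hB : H129.TorusChar.InvC D l d B) (hd : d ≠ 0) (hd1 : d = 1 ∨ d.Prime) :
    ∃ (n : ℕ) (f : F →+* KK r) (m : MData hp r (Fintype.card F) ↥(D.group F)), 0 < n ∧ Fintype.card F = r ^ n ∧
      m.σ = phi D (KK r) r n ∧ m.ι = emb hp.inList f ∧ m.g = AddEquiv.refl _ := by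
  obtain ⟨f⟩ := RowsUntw.exists_emb r F
  obtain ⟨n, hn0, hn⟩ := exists_card (F := F) r
  have hk := locFin r
  have hfin := RowsUntw.finite_phi (D := D) (k := AlgebraicClosure (ZMod r)) (r := r) hn0
  have hq : Fintype.card F = r ^ n := by rw [← hn, Nat.card_eq_fintype_card]
  let φ : AlgebraicClosure (ZMod r) →+* AlgebraicClosure (ZMod r) :=
    ((frb (AlgebraicClosure (ZMod r)) r n : AlgebraicClosure (ZMod r) ≃+* AlgebraicClosure (ZMod r)) :
      AlgebraicClosure (ZMod r) →+* AlgebraicClosure (ZMod r))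
  have hφ : ∀ t, φ t = t ^ Fintype.card F := by
    intro t
    rw [hq]
    exact frb_apply _ r n t
  have hσφ : ∀ y : ↥(D.group (AlgebraicClosure (ZMod r))),
      ((phi D (AlgebraicClosure (ZMod r)) r n y : ↥(D.group (AlgebraicClosure (ZMod r)))) :
        GL D.Idx (AlgebraicClosure (ZMod r))) = glMap D φ (y : GL D.Idx (AlgebraicClosure (ZMod r))) := by
    intro y
    apply Units.ext
    rfl
  have hfix : ∀ a, phi D (AlgebraicClosure (ZMod r)) r n (emb hp.inList f a) = emb hp.inList f a :=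
    fun a => Emb.emb_fix hp.inList hφ hσφ a
  have hxs : ∀ s t, phi D (AlgebraicClosure (ZMod r)) r n (xs hp.inList s t) =
      xs hp.inList s (t ^ Fintype.card F) := by
    intro s t
    apply Subtype.ext
    rw [hσφ]
    apply Units.ext
    rw [coe_xs, coe_xs, coe_xG]
    rw [← hφ t]
    exact Cfsg.Agent.ChevStructure.FieldMap.x_map D φ s t
  have hnorm : ∀ y, phi D (AlgebraicClosure (ZMod r)) r n y = y → ∀ x, ∃ x', emb hp.inList f x' =
      y * emb hp.inList f x * y⁻¹ := by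
    intro y hy x
    obtain ⟨b, hb⟩ := Emb.conj_mem_range hp.inList (f := f) hφ hσφ hy (n := emb hp.inList f x) ⟨x, rfl⟩
    exact ⟨b, hb⟩
  have hpow : ∀ y, phi D (AlgebraicClosure (ZMod r)) r n y = y →
      y ^ Nat.gcd d (Fintype.card F - 1) ∈ (emb hp.inList f).range := by
    intro y hy
    have hy' : H129.TorusUntw.phi D (KK r) r n y = y := by
      apply Subtype.ext
      rw [H129.TorusUntw.coe_phi]
      refine Eq.trans ?_ (congrArg Subtype.val hy)
      rw [hσφ]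
      congr 1
      congr 1
      ext t
      rw [hφ, hq, iterateFrobenius_def]
    have h1 := fix_pow_range hp f hq hB hd hy'
    have h2 : Nat.gcd d (Fintype.card F - 1) = d ∨ Nat.gcd d (Fintype.card F - 1) = 1 := by
      rcases hd1 with h3 | h3
      · right; rw [h3, Nat.gcd_one_left]
      · rcases (Nat.dvd_prime h3).1 (Nat.gcd_dvd_left d (Fintype.card F - 1)) with h4 | h4
        · exact Or.inr h4
        · exact Or.inl h4
    rcases h2 with h2 | h2
    · rw [h2]; exact h1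
    · rw [h2, pow_one]
      exact H129.TorusUntw.fix_range hp M.toCoxeterSystem f hq hB hd
        (exists_root_of_coprime hd (Nat.Coprime.symm h2)) hy'
  refine ⟨n, f, {
    σ := phi D (AlgebraicClosure (ZMod r)) r n
    π := Equiv.refl _
    dd := Nat.gcd d (Fintype.card F - 1)
    norm := hnorm
    pow_dd := hpow
    g := AddEquiv.refl _
    e := n
    ι := emb hp.inList f
    he := hn0
    hq := hq.symm
    frob := phi_isFrob r n
    fr := phi_fr hp M.toCoxeterSystem r hk n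
    fin := hfin
    inj := emb_injective hp.inList f
    fix := hfix
    idx := ?_
    act := ?_
    perm := fun v i => rfl
    top := rfl
    gen := ?_ }, hn0, hq, rfl, rfl, rfl⟩
  · intro y hy
    have hy' : glMap D φ (y : GL D.Idx (AlgebraicClosure (ZMod r))) = y := by rw [← hσφ, hy]
    obtain ⟨a, ha, t, ht, e⟩ := EmbSplit.untw_split hp.inList (Emb.fix_iff_range hφ) y.2 hy'
    have hta : t ∈ D.group (AlgebraicClosure (ZMod r)) := by
      have h1 : t = ((emb hp.inList f ⟨a, ha⟩ : ↥(D.group (AlgebraicClosure (ZMod r)))) :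
          GL D.Idx (AlgebraicClosure (ZMod r)))⁻¹ * y := by
        rw [coe_emb]
        exact eq_inv_mul_of_mul_eq e.symm
      rw [h1]
      exact mul_mem (inv_mem (SetLike.coe_mem _)) y.2
    have e' : y = emb hp.inList f ⟨a, ha⟩ * ⟨t, hta⟩ := Subtype.ext e
    have hσt : phi D (AlgebraicClosure (ZMod r)) r n ⟨t, hta⟩ = ⟨t, hta⟩ := by
      have h1 := hy
      rw [e', map_mul, hfix] at h1
      exact mul_left_cancel h1
    have hft : IsOfFinOrder (⟨t, hta⟩ : ↥(D.group (AlgebraicClosure (ZMod r)))) := by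
      have h1 : IsOfFinOrder (⟨⟨t, hta⟩, hσt⟩ : ↥(fixedSubgroup (phi D (AlgebraicClosure (ZMod r)) r n))) :=
        (isOfFinOrder_of_finite _ : _)
      exact ((fixedSubgroup (phi D (AlgebraicClosure (ZMod r)) r n)).subtype.isOfFinOrder h1 :)
    obtain ⟨m, hm, hm1⟩ := RowsN.exists_coprime hp.inList (Subgroup.mem_subgroupOf.2 ht) hft
    refine ⟨m, hm, ?_⟩
    rw [e']
    exact RowsN.pow_mem_of_split (N := (emb hp.inList f).range) ⟨_, rfl⟩
      (fun b hb => Emb.conj_mem_range hp.inList (f := f) hφ hσφ hσt hb) hm1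
  · intro s hs
    exact ⟨s, rfl, hs, 1, one_ne_zero, fun t => by rw [hxs, one_mul], fun t => by rw [hxs, inv_one, one_mul]⟩
  · intro N hpos hneg
    have hxe : ∀ s (t : F), emb hp.inList f (xs hp.inList s t) = xs hp.inList s (f t) := by
      intro s t
      apply Subtype.ext
      rw [coe_emb]
      apply Units.ext
      rw [coe_xs, coe_xs, coe_xG]
      exact Cfsg.Agent.ChevStructure.FieldMap.x_map D f s t
    rw [eq_top_iff, ← G1_eq_top (K := F) hp M.toCoxeterSystem]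
    refine iSup_le ?_
    rintro ⟨x, hx⟩
    intro y hy
    obtain ⟨s, hs, rfl⟩ := (isRoot_iff hp _ _).1 hx
    obtain ⟨t, ht⟩ := (mem_XX_vec hp hs).1 hy
    have e : y = xs hp.inList s t := Subtype.ext ht
    rw [e]
    rcases hx.pos_or_neg with h0 | h0
    · exact hpos _ (by rw [hxe]; exact xs_mem_Sup_Pos hp hs h0 _)
    · exact hneg _ (by rw [hxe]; exact xs_mem_Sup_Neg hp hs h0 _)


section Tw

open Cfsg.Agent.H469.Exc (hD4)
open Cfsg.Agent.CpAut.RgdUntw (fld)
open Cfsg.Agent.BpExc.FamTw.Gr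

/-- **`³D₄(q)`.** -/
theorem mdata_td4 {K : Type} [Field K] [Fintype K] [CharP K r] {q : ℕ} (hq : IsPrimePow q)
    (hK : Fintype.card K = q ^ 3) :
    ∃ (n : ℕ) (f : K →+* KK r) (m : MData Nodes.RGDTwD4.hp r q ↥(twistedD4 K q)), 0 < n ∧ q = r ^ n ∧
      m.σ = gr hD4 symmD4a * phi chevD4 (KK r) r n ∧
      (∀ g : ↥(twistedD4 K q), ((m.ι g : ↥(chevD4.group (KK r))) : GL chevD4.Idx (KK r)) =
        glMap chevD4 f (g : GL chevD4.Idx K)) ∧ m.g = H720.TwFr.permE H720.TwFr.rho4 := by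
  obtain ⟨f⟩ := RowsUntw.exists_emb r K
  obtain ⟨m, hm0, hm⟩ := exists_eq_pow (r := r) hq hK
  have hk := locFin r
  obtain ⟨Φ, hΦe⟩ : ∃ Φ : KK r ≃+* KK r, Φ = frb (KK r) r m := ⟨_, rfl⟩
  have hΦ : ∀ a, Φ a = a ^ r ^ m := by
    intro a
    rw [hΦe]
    exact frb_apply _ r m a
  have hφ : ∀ a, (Φ : KK r →+* KK r) a = a ^ q := by
    intro a
    rw [hm]
    exact hΦ a
  have hγ := coe_gr (L := KK r) hD4 symmD4a
  have hσ := SigFr.isFrob_symm_fld (p := r) symmD4a hγ hΦ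
  have Fσ := (SigFr.fr_D4 hγ coxeterD4.toCoxeterSystem).mul
    (SigFr.fr_fld Nodes.RGDTwD4.hp coxeterD4.toCoxeterSystem Φ)
  have hfin := Sig.finite_fixed hk hm0 hσ
  have hsg : ∀ y : ↥(chevD4.group (KK r)),
      (((gr hD4 symmD4a * fld chevD4 Φ : MulAut ↥(chevD4.group (KK r))) y :
        ↥(chevD4.group (KK r))) : GL chevD4.Idx (KK r)) =
      D4Fixed.sig (Φ : KK r →+* KK r) (y : GL chevD4.Idx (KK r)) := by
    intro y
    rfl
  let em4 : ↥(twistedD4 K q) →* ↥(chevD4.group (KK r)) :=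
    (Cfsg.Agent.GpExc.Field.emb hD4 f).comp (Subgroup.inclusion (twisted_le_D4 hq hK))
  have hem : ∀ g : ↥(twistedD4 K q), ((em4 g : ↥(chevD4.group (KK r))) : GL chevD4.Idx (KK r)) =
      glMap chevD4 f (g : GL chevD4.Idx K) := fun _ => rfl
  have hinj : Function.Injective em4 :=
    (Cfsg.Agent.GpExc.Field.emb_injective hD4 f).comp (Subgroup.inclusion_injective _)
  have hfix : ∀ a, (gr hD4 symmD4a * fld chevD4 Φ : MulAut ↥(chevD4.group (KK r))) (em4 a) = em4 a := by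
    intro a
    apply Subtype.ext
    rw [hsg, hem]
    exact (EmbInst.twD4_fix (f := f) hq hK hφ a.2).2
  have hnorm : ∀ y, (gr hD4 symmD4a * fld chevD4 Φ : MulAut ↥(chevD4.group (KK r))) y = y → ∀ x, ∃ x',
      em4 x' = y * em4 x * y⁻¹ := by
    intro y hy x
    have h1 : D4Fixed.sig (Φ : KK r →+* KK r) (y : GL chevD4.Idx (KK r)) = y := by rw [← hsg, hy]
    have hn := EmbInst.twD4_normalizer (f := f) hq hK hφ y.2 h1
    obtain ⟨b, hb, hb'⟩ := (Subgroup.mem_normalizer_iff.1 hn (glMap chevD4 f x)).1 ⟨x, x.2, rfl⟩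
    exact ⟨⟨b, hb⟩, Subtype.ext hb'⟩
  have hpow : ∀ y, (gr hD4 symmD4a * fld chevD4 Φ : MulAut ↥(chevD4.group (KK r))) y = y →
      y ^ 1 ∈ em4.range := by
    intro y hy
    rw [pow_one]
    have h1 : D4Fixed.sig (Φ : KK r →+* KK r) (y : GL chevD4.Idx (KK r)) = y := by rw [← hsg, hy]
    have h2 : iterateFrobenius (KK r) r m = (Φ : KK r →+* KK r) := by
      ext t
      rw [iterateFrobenius_def, ← hm, hφ]
    have h3 := H720.TwFr.coe_sig4 (k := KK r) r m y
    rw [h2, h1] at h3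
    exact H720.TwFr.desc4 f r (twisted_le_D4 hq hK) hk hm0 hm hK (Subtype.ext h3)
  refine ⟨m, f, {
    σ := _
    π := symmD4a.σ₀.symm
    dd := 1
    norm := hnorm
    pow_dd := hpow
    g := _
    e := m
    ι := em4
    he := hm0
    hq := hm.symm
    frob := hσ
    fr := Fσ
    fin := hfin
    inj := hinj
    fix := hfix
    idx := ?_
    act := ?_
    perm := fun v i => rfl
    top := topD4
    gen := gen_of_words Nodes.RGDTwD4.hp f hem (wordsD4 q) }, hm0, hm, ?_, fun _ => rfl, g_eq_four⟩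
  · intro y hy
    have h1 : D4Fixed.sig (Φ : KK r →+* KK r) (y : GL chevD4.Idx (KK r)) = y := by rw [← hsg, hy]
    obtain ⟨g, hg, t, ht, e⟩ := EmbInst.twD4_split (f := f) hq hK hφ y.2 h1
    have ht' : t ∈ chevD4.group (KK r) := diagonal_le_group hD4 _ ht
    have hn := EmbInst.twD4_normalizer (f := f) hq hK hφ y.2 h1
    refine pow_mem_range Nodes.RGDTwD4.hp em4 hfix hy (fun a => ?_) (a := ⟨g, hg⟩) (t := ⟨t, ht'⟩) ht
      (Subtype.ext e)
    obtain ⟨b, hb, hb'⟩ := (Subgroup.mem_normalizer_iff.1 hn (glMap chevD4 f a)).1 ⟨a, a.2, rfl⟩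
    exact ⟨⟨b, hb⟩, Subtype.ext hb'⟩
  · intro s hs
    refine ⟨symmD4a.σ ⟨s, hs⟩, ?_, actF_symm_fld symmD4a _ hγ (fun a => (hφ a)) ⟨s, hs⟩⟩
    funext i
    exact piD4 ⟨s, hs⟩ i
  · have h1 : fld chevD4 Φ = phi chevD4 (KK r) r m := by
      apply MulEquiv.ext
      intro y
      apply Subtype.ext
      apply Units.ext
      rw [phi_coe, Cfsg.Agent.CpAut.RgdUntw.fld_coe]
      ext i j
      exact hΦ _
    show gr hD4 symmD4a * fld chevD4 Φ = gr hD4 symmD4a * phi chevD4 (KK r) r m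
    rw [h1]

end Tw

end Cfsg.Agent.H350.Tri
end

-- part: H350/Tri/Fin
section
/-!
# S2187, row TRI: enlarging `E` (helper350)

* `Nine r` : the statement TRI-9;
* `gam_of_alpha`, `gam_of_beta`, `gam_top` : `Gam 3 E = ⊤`.
-/

set_option autoImplicit false
set_option linter.unusedSectionVars false

namespace Cfsg.Agent.H350.Tri

open CoxeterSystem Cfsg Cfsg.Lie Cfsg.Agent.ChevalleyStructure Cfsg.Agent.ChevalleyStructure.Elts
open Cfsg.Agent.ChevalleyStructure.CoxeterGeom Cfsg.Agent.ChevalleyStructure.CoxeterGeomTypes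
  Cfsg.Agent.ChevalleyStructure.NPerm
open Cfsg.Agent.ChevalleyStructure.GraphSymm (symmD4a)
open Cfsg.Agent.Tits.Roots Cfsg.Agent.Tits.Core Cfsg.Agent.Nodes Cfsg.Agent.Nodes.Reps Cfsg.Agent.Nodes.BNOf
  Cfsg.Agent.Nodes.Bruhat Cfsg.Agent.Nodes.RGDChev
open Cfsg.Agent.KFacts.RgdField Cfsg.Agent.KFacts.RgdChevCoord
open Cfsg.Agent.BpExc Cfsg.Agent.BpExc.TorCent Cfsg.Agent.BpExc.TorChev Cfsg.Agent.BpExc.Tow
  Cfsg.Agent.BpExc.TowChev Cfsg.Agent.BpExc.Fr Cfsg.Agent.BpExc.Pair Cfsg.Agent.BpExc.LangFr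
open Cfsg.Agent.BpExc.FamTw.Gr Cfsg.Agent.BpExc.FamUntw Cfsg.Agent.BpExc.FamInst
open Cfsg.Agent.H469.Exc Cfsg.Agent.H469.Exc.SigFr Cfsg.Agent.H818.Gen Cfsg.Agent.H316.U6 Cfsg.Agent.H316.U3

universe u v

variable {r : ℕ} [hrf : Fact r.Prime]

/-- the statement TRI-9 -/
structure Nine (r : ℕ) [Fact r.Prime] : Prop where
  nine : ∀ {n : ℕ}, 0 < n → ∀ {θ : MulAut (Y4 r)}, (∃ u, θ = MulAut.conj u * gr4 r ∨ θ = MulAut.conj u * gr4 r ^ 2) →
    θ ^ 3 = 1 → Commute θ (phi chevD4 (KK r) r n) →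
    ∃ A : Subgroup (Y4 r), IsElementaryAbelian 3 A ∧ Nat.card ↥A = 9 ∧ ∀ y ∈ A, θ y = y ∧ phi chevD4 (KK r) r n y = y
  std : ∀ n : ℕ, ∃ A : Subgroup (Y4 r), IsElementaryAbelian 3 A ∧ Nat.card ↥A = 9 ∧
    ∀ y ∈ A, gr4 r y = y ∧ phi chevD4 (KK r) r n y = y

theorem gr4_cube : gr4 r ^ 3 = 1 := Cfsg.Agent.H28.FamFour.gr_cube_D4

theorem gr4_comm (n : ℕ) : Commute (gr4 r) (phi chevD4 (KK r) r n) :=
  gr_mul_fld Cfsg.Agent.Nodes.RGDTwD4.hp.inList symmD4a _

theorem isFrob_gr4 (i n : ℕ) : IsFrob r n (gr4 r ^ i * phi chevD4 (KK r) r n) := by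
  have h1 : IsFrob r 0 (gr4 r) := isFrob_symm symmD4a (p := r) (coe_gr (L := KK r) _ symmD4a)
  have h2 := (h1.pow i).mul (phi_isFrob (D := chevD4) (k := KK r) r n)
  rwa [Nat.mul_zero, Nat.zero_add] at h2

theorem fr_gr4 (i n : ℕ) : ∃ g : (Fin 4 → ℤ) ≃+ (Fin 4 → ℤ),
    Fr cs4 (hp4).isCartan (TT chevD4 (KK r)) (XX chevD4 4 (KK r)) (gr4 r ^ i * phi chevD4 (KK r) r n) g := by
  have h0 : Fr cs4 (hp4).isCartan (TT chevD4 (KK r)) (XX chevD4 4 (KK r)) (gr4 r) _ :=
    fr_D4 (coe_gr (L := KK r) _ symmD4a) cs4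
  induction i with
  | zero => exact ⟨_, by rw [pow_zero, one_mul]; exact phi_fr hp4 cs4 r (locFin r) n⟩
  | succ i ih =>
    obtain ⟨g, hg⟩ := ih
    exact ⟨_, by rw [pow_succ', mul_assoc]; exact h0.mul hg⟩

/-- Lang -/
theorem lang' {i n : ℕ} (hn : 0 < n) (w : Y4 r) : ∃ z : Y4 r,
    MulAut.conj w * (gr4 r ^ i * phi chevD4 (KK r) r n) =
      MulAut.conj z * (gr4 r ^ i * phi chevD4 (KK r) r n) * (MulAut.conj z)⁻¹ := by
  obtain ⟨g, hg⟩ := fr_gr4 (r := r) i n
  obtain ⟨z, hz⟩ := lang_all hp4 cs4 hn (isFrob_gr4 i n) hg 1 w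
  refine ⟨z⁻¹, ?_⟩
  rw [map_one, one_mul] at hz
  obtain ⟨τ, hτ⟩ : ∃ τ, τ = gr4 r ^ i * phi chevD4 (KK r) r n := ⟨_, rfl⟩
  rw [← hτ] at hz ⊢
  have h1 := conj_map τ z
  rw [map_inv, inv_inv, mul_assoc, h1, hz, map_mul, map_inv, mul_assoc]

section

variable {q : ℕ} {K₀ : Type v} [Group K₀] (m : MData hp4 r q K₀)
  (hc : ∀ z, (∀ a, z * m.ι a = m.ι a * z) → z = 1)

include hc in
/-- the automorphisms of `K₀` induced by a group fixed by the lifts -/
theorem A_of {A₀ : Subgroup (Y4 r)} (hA₀ : IsElementaryAbelian 3 A₀) (h9 : Nat.card ↥A₀ = 9)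
    {𝒢 : Subgroup (MulAut (Y4 r))} (hfix : ∀ Θ ∈ 𝒢, ∀ a ∈ A₀, Θ a = a) (hσ : m.σ ∈ 𝒢) {R : Subgroup (MulAut K₀)}
    (hR : R ≤ LiftsIn m.ι 𝒢) : ∃ A ≤ InnL m.ι, IsElementaryAbelian 3 A ∧ 3 ^ 2 ≤ Nat.card ↥A ∧
      ∀ ρ ∈ R, ∀ a ∈ A, ρ * a = a * ρ := by
  obtain ⟨f, hf⟩ := exists_hom m.inj m.norm (X := A₀) (fun y hy => hfix _ hσ y hy)
  have hinj : Function.Injective f := by
    rw [injective_iff_map_eq_one]
    intro y hy
    refine Subtype.ext (hc _ fun a => ?_)
    have h1 := hf y a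
    rw [hy] at h1
    exact (eq_mul_inv_iff_mul_eq.1 h1).symm
  refine ⟨f.range, ?_, ?_, ?_, ?_⟩
  · rintro _ ⟨y, rfl⟩
    exact ⟨y, fun a => (hf y a).symm⟩
  · refine elab_mk ?_ ?_
    · rintro _ ⟨a, rfl⟩ _ ⟨b, rfl⟩
      rw [← map_mul, ← map_mul, hA₀.1.1.1 a b]
    · rintro _ ⟨a, rfl⟩
      have : a ^ 3 = 1 := Subtype.ext (hA₀.2 a a.2)
      rw [← map_pow, this, map_one]
  · rw [← Nat.card_congr (MonoidHom.ofInjective hinj).toEquiv, h9]
    norm_num
  · rintro ρ hρ _ ⟨y, rfl⟩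
    obtain ⟨Θ, hΘ, hL⟩ := hR hρ
    have h1 : Lift m.ι (MulAut.conj (y : Y4 r)) (f y) := fun a => (hf y a).symm
    refine Lift.unique m.inj (hL.mul h1) ?_
    have h2 := h1.mul hL
    rw [conj_map, hfix Θ hΘ y y.2]
    exact h2

/-- the fixed points of two automorphisms -/
theorem fix_closure {S : Set (MulAut (Y4 r))} {A₀ : Subgroup (Y4 r)} (h : ∀ Θ ∈ S, ∀ a ∈ A₀, Θ a = a) :
    ∀ Θ ∈ Subgroup.closure S, ∀ a ∈ A₀, Θ a = a := by
  intro Θ hΘ
  induction hΘ using Subgroup.closure_induction with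
  | mem x hx => exact h x hx
  | one => exact fun a _ => rfl
  | mul x y _ _ h1 h2 => exact fun a ha => by rw [MulAut.mul_apply, h2 a ha, h1 a ha]
  | inv x _ h1 =>
    intro a ha
    conv_lhs => rw [← h1 a ha]
    exact MulAut.inv_apply_self _ x a

include hc in
/-- case `α` -/
theorem A_alpha (N : Nine r) {n : ℕ} (hn : 0 < n) {R : Subgroup (MulAut K₀)} {u w : Y4 r} {i : ℕ} {F : MulAut (Y4 r)}
    (hi : ¬ 3 ∣ i)
    (hF : F = MulAut.conj w * phi chevD4 (KK r) r n ∨ F = MulAut.conj w * phi chevD4 (KK r) r n ^ 3)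
    (hcomm : Commute (MulAut.conj u * gr4 r ^ i) F) (h3 : (MulAut.conj u * gr4 r ^ i) ^ 3 = 1)
    (hσ : m.σ ∈ Subgroup.closure {MulAut.conj u * gr4 r ^ i, F})
    (hR : R ≤ LiftsIn m.ι (Subgroup.closure {MulAut.conj u * gr4 r ^ i, F})) :
    ∃ A ≤ InnL m.ι, IsElementaryAbelian 3 A ∧ 3 ^ 2 ≤ Nat.card ↥A ∧ ∀ ρ ∈ R, ∀ a ∈ A, ρ * a = a * ρ := by
  obtain ⟨n', hn', hF⟩ : ∃ n', 0 < n' ∧ F = MulAut.conj w * phi chevD4 (KK r) r n' := by
    rcases hF with h | h
    · exact ⟨n, hn, h⟩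
    · exact ⟨n * 3, by omega, by rw [h, phi_pow]⟩
  obtain ⟨z, hz⟩ := lang' (r := r) (i := 0) hn' w
  rw [pow_zero, one_mul] at hz
  rw [hz] at hF
  set θ : MulAut (Y4 r) := MulAut.conj u * gr4 r ^ i with hθ
  obtain ⟨θ', hθ'⟩ : ∃ θ' : MulAut (Y4 r), θ' = (MulAut.conj z)⁻¹ * θ * MulAut.conj z := ⟨_, rfl⟩
  have h1 : θ' ^ 3 = 1 := by
    have h2 : θ' = (MulAut.conj z)⁻¹ * θ * ((MulAut.conj z)⁻¹)⁻¹ := by rw [hθ', inv_inv]
    rw [h2, conj_pow, h3]
    group
  have h2 : Commute θ' (phi chevD4 (KK r) r n') := by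
    have h4 : phi chevD4 (KK r) r n' = (MulAut.conj z)⁻¹ * F * MulAut.conj z := by rw [hF]; group
    rw [h4, hθ']
    have h5 : θ * F = F * θ := hcomm
    show _ * _ = _ * _
    calc (MulAut.conj z)⁻¹ * θ * MulAut.conj z * ((MulAut.conj z)⁻¹ * F * MulAut.conj z)
        = (MulAut.conj z)⁻¹ * (θ * F) * MulAut.conj z := by group
      _ = (MulAut.conj z)⁻¹ * (F * θ) * MulAut.conj z := by rw [h5]
      _ = _ := by group
  have hmod : gr4 r ^ i = gr4 r ∨ gr4 r ^ i = gr4 r ^ 2 := by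
    have h4 : i % 3 = 1 ∨ i % 3 = 2 := by omega
    rw [gam_mod gr4_cube i]
    rcases h4 with h4 | h4 <;> rw [h4]
    · left; rw [pow_one]
    · right; rfl
  have h4 : ∃ u', θ' = MulAut.conj u' * gr4 r ^ i := by
    refine ⟨z⁻¹ * u * (gr4 r ^ i) z, ?_⟩
    have h5 := conj_map (gr4 r ^ i) z
    rw [hθ', hθ, map_mul, map_mul, map_inv]
    calc (MulAut.conj z)⁻¹ * (MulAut.conj u * gr4 r ^ i) * MulAut.conj z
        = (MulAut.conj z)⁻¹ * MulAut.conj u * (gr4 r ^ i * MulAut.conj z) := by group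
      _ = _ := by rw [h5]; group
  obtain ⟨A₁, hA₁, hcard, hfix⟩ := N.nine hn' (θ := θ') (by
    obtain ⟨u', hu'⟩ := h4
    refine ⟨u', ?_⟩
    rcases hmod with h5 | h5
    · left; rw [hu', h5]
    · right; rw [hu', h5]) h1 h2
  obtain ⟨A₀, hA₀⟩ : ∃ A₀ : Subgroup (Y4 r), A₀ = A₁.map (MulAut.conj z).toMonoidHom := ⟨_, rfl⟩
  refine A_of m hc (A₀ := A₀) (hA₀ ▸ elab_map _ hA₁) ?_ (𝒢 := Subgroup.closure {θ, F}) (fix_closure ?_) hσ hR
  · rw [hA₀, ← hcard]
    exact (Nat.card_congr (A₁.equivMapOfInjective _ (MulAut.conj z).injective).toEquiv).symm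
  · rw [hA₀]
    rintro Θ hΘ _ ⟨a, ha, rfl⟩
    rw [Set.mem_insert_iff, Set.mem_singleton_iff] at hΘ
    rcases hΘ with hΘ | hΘ <;> rw [hΘ]
    · have h5 : θ = MulAut.conj z * θ' * (MulAut.conj z)⁻¹ := by rw [hθ']; group
      show θ (MulAut.conj z a) = MulAut.conj z a
      rw [h5, MulAut.mul_apply, MulAut.mul_apply, MulAut.inv_apply_self, (hfix a ha).1]
    · show F (MulAut.conj z a) = MulAut.conj z a
      rw [hF, MulAut.mul_apply, MulAut.mul_apply, MulAut.inv_apply_self, (hfix a ha).2]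

include hc in
/-- case `β` -/
theorem A_beta (N : Nine r) {n : ℕ} (hn : 0 < n) {R : Subgroup (MulAut K₀)} {w : Y4 r} {i : ℕ}
    (hσ : m.σ ∈ Subgroup.closure {MulAut.conj w * gr4 r ^ i * phi chevD4 (KK r) r n})
    (hR : R ≤ LiftsIn m.ι (Subgroup.closure {MulAut.conj w * gr4 r ^ i * phi chevD4 (KK r) r n})) :
    ∃ A ≤ InnL m.ι, IsElementaryAbelian 3 A ∧ 3 ^ 2 ≤ Nat.card ↥A ∧ ∀ ρ ∈ R, ∀ a ∈ A, ρ * a = a * ρ := by
  obtain ⟨z, hz⟩ := lang' (r := r) (i := i) hn w
  rw [mul_assoc, hz] at hσ hR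
  obtain ⟨A₁, hA₁, hcard, hfix⟩ := N.std n
  obtain ⟨A₀, hA₀⟩ : ∃ A₀ : Subgroup (Y4 r), A₀ = A₁.map (MulAut.conj z).toMonoidHom := ⟨_, rfl⟩
  refine A_of m hc (A₀ := A₀) (hA₀ ▸ elab_map _ hA₁) ?_ (fix_closure ?_) hσ hR
  · rw [hA₀, ← hcard]
    exact (Nat.card_congr (A₁.equivMapOfInjective _ (MulAut.conj z).injective).toEquiv).symm
  · rw [hA₀]
    rintro Θ hΘ _ ⟨a, ha, rfl⟩
    rw [Set.mem_singleton_iff] at hΘ
    subst hΘ
    show (MulAut.conj z * (gr4 r ^ i * phi chevD4 (KK r) r n) * (MulAut.conj z)⁻¹) (MulAut.conj z a) = MulAut.conj z a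
    rw [MulAut.mul_apply, MulAut.mul_apply, MulAut.inv_apply_self, MulAut.mul_apply, (hfix a ha).2]
    congr 1
    have h1 : ∀ j : ℕ, (gr4 r ^ j) a = a := by
      intro j
      induction j with
      | zero => rfl
      | succ j ih => rw [pow_succ, MulAut.mul_apply, (hfix a ha).1, ih]
    exact h1 i

end

/-- **`Gam 3 E = ⊤`, `σ = Φ` or `σ = Φ ^ 3`, `Φ` standard.** -/
theorem gam_top (P : Pieces r) (N : Nine r) (hr5 : 5 ≤ r) {q : ℕ} {K₀ : Type v} [Group K₀] [Finite K₀]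
    [IsSimpleGroup K₀] (m : MData hp4 r q K₀) (hc : ∀ z, (∀ a, z * m.ι a = m.ι a * z) → z = 1) {n : ℕ} (hn : 0 < n)
    (hd : phi chevD4 (KK r) r n = m.σ ∨ phi chevD4 (KK r) r n ^ 3 = m.σ)
    {E : Subgroup (MulAut K₀)} (hE : IsElementaryAbelian 3 E) (hE9 : 3 ≤ Nat.card ↥E)
    (hty : ∀ ρ ∈ E, ∃ c i j : ℕ, c.Coprime 3 ∧ Ty m.ι (gr4 r) (phi chevD4 (KK r) r n) (ρ ^ c) i j)
    (hx : ∃ x ∈ E, ∃ i j : ℕ, ¬ 3 ∣ i ∧ Ty m.ι (gr4 r) (phi chevD4 (KK r) r n) x i j) : Gam 3 E = ⊤ := by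
  have : Fact (Nat.Prime 3) := ⟨Nat.prime_three⟩
  have hσ : Lift m.ι m.σ 1 := fun a => m.fix a
  have hΦ : Lift m.ι (phi chevD4 (KK r) r n ^ 3) 1 := by
    rcases hd with h | h
    · rw [h]
      have := hσ.pow 3
      rwa [one_pow] at this
    · rw [h]; exact hσ
  obtain ⟨x, hxE, i, j, hi, hxty⟩ := hx
  obtain ⟨E', hEE', hE', h9⟩ := enlarge (X := MulAut K₀) (N := InnL m.ι) hE (fun R hR hR0 hRE => by
    have hRab := elab_mono hR hE
    have h0 : IsElementaryAbelian 3 (E ⊓ InnL m.ι) := elab_mono inf_le_left hE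
    obtain ⟨-, hs⟩ := elab_sup hRab h0 (fun a ha b hb => elab_comm hE (hR ha) hb.1)
    obtain ⟨ρ, hρ, e, he, hρe⟩ := hs x (hRE hxE)
    -- `ρ` has the type of `x`
    have hρty : Ty m.ι (gr4 r) (phi chevD4 (KK r) r n) ρ i j := by
      obtain ⟨y, hy⟩ : e⁻¹ ∈ InnL m.ι := inv_mem he.2
      have h1 : Ty m.ι (gr4 r) (phi chevD4 (KK r) r n) e⁻¹ 0 0 := ⟨y, by rwa [pow_zero, pow_zero, mul_one, mul_one]⟩
      have h2 := Ty.mul (gr4_comm n) hxty h1
      rwa [← hρe, mul_inv_cancel_right, Nat.add_zero, Nat.add_zero] at h2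
    rcases tri_cases gr4_cube (gr4_comm n) hσ hd hc hRab hR0 (fun ρ hρ => hty ρ (hR hρ)) ⟨ρ, hρ, i, j, hi, hρty⟩ with
      ⟨u, w, i', F, h1, h2, h3, h4, h5, h6⟩ | ⟨w, i', h1, h2, h3⟩
    · exact A_alpha m hc N hn h1 h2 h3 h4 h5 h6
    · exact A_beta m hc N hn h2 h3)
  have hE'9 : 3 ^ 2 ≤ Nat.card ↥E' := h9.trans (Subgroup.card_le_of_le inf_le_left)
  have htop : Gam 3 E' = ⊤ := by
    obtain ⟨y, hy⟩ := hxty
    have h1 : phi chevD4 (KK r) r n ^ j = phi chevD4 (KK r) r (n * j) := phi_pow (k := KK r) r n j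
    rw [h1] at hy
    exact core P hr5 m hc hE' h9 (hEE' hxE) hi hy
  rw [eq_top_iff, ← htop]
  exact Gam_mono hEE' hE' hE9

/-- **`Gam 3 E = ⊤`, `σ = γ Φ`.** -/
theorem gam_top_tw (P : Pieces r) (N : Nine r) (hr5 : 5 ≤ r) {q : ℕ} {K₀ : Type v} [Group K₀] [Finite K₀]
    [IsSimpleGroup K₀] (m : MData hp4 r q K₀) (hc : ∀ z, (∀ a, z * m.ι a = m.ι a * z) → z = 1) {n : ℕ} (hn : 0 < n)
    (hd : gr4 r * phi chevD4 (KK r) r n = m.σ)
    {E : Subgroup (MulAut K₀)} (hE : IsElementaryAbelian 3 E) (hE9 : 3 ≤ Nat.card ↥E)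
    (hty : ∀ ρ ∈ E, ∃ c i : ℕ, c.Coprime 3 ∧ ∃ y, Lift m.ι (MulAut.conj y * gr4 r ^ i) (ρ ^ c))
    (hx : ∃ x ∈ E, ∃ i : ℕ, ¬ 3 ∣ i ∧ ∃ y, Lift m.ι (MulAut.conj y * gr4 r ^ i) x) : Gam 3 E = ⊤ := by
  have : Fact (Nat.Prime 3) := ⟨Nat.prime_three⟩
  have hσ : Lift m.ι m.σ 1 := fun a => m.fix a
  obtain ⟨x, hxE, i, hi, y, hy⟩ := hx
  obtain ⟨E', hEE', hE', h9⟩ := enlarge (X := MulAut K₀) (N := InnL m.ι) hE (fun R hR hR0 hRE => by
    have hRab := elab_mono hR hE
    have h0 : IsElementaryAbelian 3 (E ⊓ InnL m.ι) := elab_mono inf_le_left hE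
    obtain ⟨-, hs⟩ := elab_sup hRab h0 (fun a ha b hb => elab_comm hE (hR ha) hb.1)
    obtain ⟨ρ, hρ, e, he, hρe⟩ := hs x (hRE hxE)
    have hρty : ∃ y, Lift m.ι (MulAut.conj y * gr4 r ^ i) ρ := by
      obtain ⟨y', hy'⟩ : e⁻¹ ∈ InnL m.ι := inv_mem he.2
      have h2 := hy.mul hy'
      rw [← hρe, mul_inv_cancel_right, mul_assoc, conj_map, ← mul_assoc, ← map_mul] at h2
      exact ⟨_, h2⟩
    obtain ⟨u, w, i', F, h1, h2, h3, h4, h5, h6⟩ := tri_cases_tw gr4_cube (gr4_comm n) hσ hd hc hRab hR0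
      (fun ρ hρ => hty ρ (hR hρ)) ⟨ρ, hρ, i, hi, hρty⟩
    exact A_alpha m hc N hn h1 h2 h3 h4 h5 h6)
  have htop : Gam 3 E' = ⊤ := by
    refine core P hr5 m hc hE' h9 (hEE' hxE) hi (y := y) (m' := 0) ?_
    have h1 : phi chevD4 (KK r) r 0 = 1 := by
      have := phi_pow (k := KK r) (D := chevD4) r n 0
      rw [pow_zero, Nat.mul_zero] at this
      exact this.symm
    rwa [h1, mul_one]
  rw [eq_top_iff, ← htop]
  exact Gam_mono hEE' hE' hE9

end Cfsg.Agent.H350.Tri
end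
end

-- part: H496/Mono/Root_mg
section
prune_inst 0x20000022000000000580510000040400000000000400840000040000040009000800000000000808000000000028134c00800000000000200400000000000088000430000000000006000080000000000000000000000000000000000004000000000
set_option linter.all false
open scoped Cfsg.Agent.FastGrp

-- part: H696/Core2
section
/-!
# `{2, 3}`-subgroups of `C_Y(t)^τ` above a Sylow `2`-subgroup, over fields with more than two elements (helper696)

* `Cop R S τ g` : in the rank one groups `⟨X a, X (-a)⟩`, `a ∈ SP S`, there is an element `y₂ y' ≠ 1` of order prime to `6`,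
  `y₂ ∈ X a`, `y' ∈ X (-a)` fixed by `τ ^ m`, `m` the period of `a`;
* `core2` : a subgroup `E` above `U ∩ C`, containing an element of `N ∩ C` moving a positive root of `S` to a negative one
  contains an element `z ≠ 1`, `z ^ n = 1`, `n` prime to `6`.
-/

set_option autoImplicit false
set_option linter.unusedSectionVars false

namespace Cfsg.Agent.H696.Core2

open CoxeterSystem Cfsg.Agent.ChevalleyStructure.CoxeterGeom Cfsg.Agent.Tits.Roots Cfsg.Agent.Tits.Core
  Cfsg.Agent.Tits.RootComb Cfsg.Agent.Tits.Exchange Cfsg.Agent.Nodes.Reps Cfsg.Agent.Nodes.BNOf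
  Cfsg.Agent.Nodes.StabComb Cfsg.Agent.Nodes.Bruhat Cfsg.Agent.Nodes.OppDec Cfsg.Agent.Nodes.LeviDec
  Cfsg.Agent.Nodes.NormalForm Cfsg.Agent.Nodes.Unique Cfsg.Agent.KFacts.RgdField
  Cfsg.Agent.BpExc.Fr Cfsg.Agent.BpExc.Pair Cfsg.Agent.BpExc.NSol Cfsg.Agent.BpExc.NInst
open Cfsg.Agent.H666.FixP
open scoped commutatorElement

variable {I W Y : Type*} [Fintype I] [DecidableEq I] [Group W] [Group Y] {M : CoxeterMatrix I}
  {cs : CoxeterSystem M W} {A : I → I → ℤ} {h : IsCartan M A} {p : ℕ} {T : Subgroup Y} {n : I → Y}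
  {X : (I → ℤ) → Subgroup Y}

variable {R : RGD cs h p T n X} {t : Y} {S : Set (I → ℤ)} {τ : MulAut Y} {g : (I → ℤ) ≃+ (I → ℤ)}
  (D : Cfsg.Agent.BpExc.NInst.Dat R t S τ g)

include D

end Cfsg.Agent.H696.Core2
end

-- part: H696/RankEl
section
/-!
# Elements of order prime to `6` in `SL₂(2 ^ f)`, `f ≥ 2` (helper696)

* `sl_pow` : `(x(t (ζ + ζ⁻¹)) y(-t⁻¹)) ^ n = 1` if `ζ ^ n = 1 ≠ ζ`, characteristic `2`;
* `exists_zeta` : `v = ζ + ζ⁻¹` with `v ^ Q = v`, `ζ ^ n = 1`, `ζ ≠ 1`, `n` prime to `6`, `Q = 2 ^ f`, `f ≥ 2`.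
-/

set_option autoImplicit false

namespace Cfsg.Agent.H696.RankEl

open Cfsg.Lie Cfsg.Agent.ChevalleyStructure Cfsg.Agent.ChevalleyStructure.Elts
  Cfsg.Agent.ChevalleyStructure.CoxeterGeomTypes Cfsg.Agent.ChevalleyStructure.NPerm
open Cfsg.Agent.ChevalleyStructure.SL2Hom Cfsg.Agent.ETable.Exc

universe u

variable {k : Type u} [Field k]

end Cfsg.Agent.H696.RankEl
end

-- part: H696/LevCop
section
/-!
# The condition `Cop` for the finite levels of `D.group k`, characteristic `2` (helper696)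
-/

set_option autoImplicit false
set_option linter.unusedSectionVars false

namespace Cfsg.Agent.H696.LevCop

open CoxeterSystem Cfsg Cfsg.Lie Cfsg.Lie.ChevalleyDatum
open Cfsg.Agent.ChevalleyStructure Cfsg.Agent.ChevalleyStructure.Elts Cfsg.Agent.ChevalleyStructure.CoxeterGeom
  Cfsg.Agent.ChevalleyStructure.CoxeterGeomTypes Cfsg.Agent.ChevalleyStructure.NPerm
open Cfsg.Agent.Tits.Roots Cfsg.Agent.Tits.Core Cfsg.Agent.Nodes Cfsg.Agent.Nodes.Reps Cfsg.Agent.Nodes.BNOf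
  Cfsg.Agent.Nodes.RGDChev Cfsg.Agent.Nodes.Bruhat Cfsg.Agent.Nodes.NormalForm
open Cfsg.Agent.KFacts.RgdField Cfsg.Agent.KFacts.RgdChevCoord
open Cfsg.Agent.BpExc Cfsg.Agent.BpExc.TorCent Cfsg.Agent.BpExc.TorChev Cfsg.Agent.BpExc.Tow
  Cfsg.Agent.BpExc.TowChev Cfsg.Agent.BpExc.Fr Cfsg.Agent.BpExc.Pair Cfsg.Agent.BpExc.LangFr Cfsg.Agent.GpExc.Field
  Cfsg.Agent.BpExc.NInst Cfsg.Agent.BpExc.NChev
open Cfsg.Agent.ChevalleyStructure.SL2Hom Cfsg.Agent.ETable.Exc Cfsg.Agent.H666.FixChev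
open scoped commutatorElement

universe u

/-- conjugation by a representative is linear on the root groups -/
theorem rp_x {I W Y F : Type*} [Fintype I] [DecidableEq I] [Group W] [Group Y] [Field F] {M : CoxeterMatrix I}
    {cs : CoxeterSystem M W} {A : I → I → ℤ} {h : IsCartan M A} {T : Subgroup Y} {n : I → Y}
    {X : (I → ℤ) → Subgroup Y} {x : (I → ℤ) → F → Y} {χ : (I → ℤ) → Y → F}
    (C : Coords cs h T n X x χ) (hN : NSys M T n) {w : W} {g : Y} (hg : Rp cs hN w g)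
    {r : I → ℤ} (hr : IsRoot cs h r) : ∃ c, c ≠ 0 ∧ ∀ a, g * x r a * g⁻¹ = x (rep cs h w r) (c * a) := by
  obtain ⟨ω, rfl⟩ := cs.wordProd_surjective w
  induction ω generalizing g with
  | nil =>
    rw [wordProd_nil] at hg ⊢
    rw [map_one, Module.End.one_apply]
    exact ⟨χ r g, (C.coord r hr).chi_ne_zero hg.mem_of_one, (C.coord r hr).act g hg.mem_of_one⟩
  | cons i ω ih =>
    rw [wordProd_cons] at hg ⊢
    have h1 : Rp cs hN (cs.wordProd ω) ((n i)⁻¹ * g) := by
      have := (rp_simple cs hN i).inv.mul hg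
      rwa [inv_mul_cancel_left] at this
    obtain ⟨c, hc, h2⟩ := ih h1
    obtain ⟨c', hc', h4⟩ := C.nact i _ (hr.act (cs.wordProd ω))
    refine ⟨c' * c, mul_ne_zero hc' hc, fun a => ?_⟩
    rw [rep_mul_apply, mul_assoc c' c a, ← h4, ← h2]
    group

variable {D : ChevalleyDatum} {l : ℕ} {M : CoxeterMatrix (Fin l)} (hp : IsType D l M) {k : Type u} [Field k]
  {W : Type*} [Group W] (cs : CoxeterSystem M W)

end Cfsg.Agent.H696.LevCop
end

-- part: H496/Mono/Root
section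
/-!
# S2187, X4: the action of `N(T)` on a root group (helper496)

* `nr_x` : `y x_a(t) y⁻¹ = x_{w a}(c t)`;
* `comm_neg` : `y ∈ N(T)` commuting with `X a` commutes with `X (-a)`;
* `orbF` : the fixed roots: `P5 hp r 3 (OrbF hp)`.
-/

set_option autoImplicit false
set_option linter.unusedSectionVars false

namespace Cfsg.Agent.H496.Mono

open CoxeterSystem Cfsg Cfsg.Lie Cfsg.Lie.ChevalleyDatum
open Cfsg.Agent.ChevalleyStructure Cfsg.Agent.ChevalleyStructure.Elts Cfsg.Agent.ChevalleyStructure.CoxeterGeom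
  Cfsg.Agent.ChevalleyStructure.CoxeterGeomTypes Cfsg.Agent.ChevalleyStructure.NPerm
open Cfsg.Agent.Tits.Roots Cfsg.Agent.Tits.Core Cfsg.Agent.Nodes Cfsg.Agent.Nodes.Reps Cfsg.Agent.Nodes.BNOf
  Cfsg.Agent.Nodes.SubComb Cfsg.Agent.Nodes.RGDChev Cfsg.Agent.Nodes.Bruhat Cfsg.Agent.Nodes.Coroot
  Cfsg.Agent.Nodes.StabComb
open Cfsg.Agent.KFacts.RgdField Cfsg.Agent.KFacts.RgdChevCoord
open Cfsg.Agent.BpExc Cfsg.Agent.BpExc.TorCent Cfsg.Agent.BpExc.TorChev Cfsg.Agent.BpExc.Tow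
  Cfsg.Agent.BpExc.TowChev Cfsg.Agent.BpExc.Fr Cfsg.Agent.BpExc.LangFr
open Cfsg.Agent.H469.Exc Cfsg.Agent.H316.U6 Cfsg.Agent.H818.Gen Cfsg.Agent.H818.Mono Cfsg.Agent.H696.GmnToral
open Cfsg.Agent.H225.Gen (LL LL_rep LL_root LL_neg)
open Cfsg.Agent.H818.StrP.UTab

variable {D : ChevalleyDatum} {l : ℕ} {M : CoxeterMatrix (Fin l)} {hp : IsType D l M} {r : ℕ} [Fact r.Prime]

/-- **The action on the coordinates.** -/
theorem nr_x {w : M.Group} {y : ↥(D.group (KK r))} (h : NR hp r w y) {a : Fin l → ℤ}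
    (ha : IsRoot M.toCoxeterSystem hp.isCartan a) :
    ∃ c : KK r, c ≠ 0 ∧ ∀ t, y * xc hp a t * y⁻¹ = xc hp (rep M.toCoxeterSystem hp.isCartan w a) (c * t) := by
  have C : Coords M.toCoxeterSystem hp.isCartan (TL (Tj hp (k := KK r))) (nc hp (KK r)) (XL (Xj hp (k := KK r)))
      (xc hp) (ch hp) := by
    rw [TL_eq hp (locFin r), XL_eq hp (locFin r)]
    exact coordsL hp M.toCoxeterSystem (locFin r) r
  exact H696.LevCop.rp_x C _ h ha

/-- the torus has no `r`-elements -/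
theorem eq_one_of_pow {t : ↥(D.group (KK r))} (hZ : Subgroup.center ↥(D.group (KK r)) = ⊥) (ht : t ∈ TT D (KK r))
    (hp : IsType D l M) {j : ℕ} (h1 : t ^ r ^ j = 1) : t = 1 := by
  refine eq_one_TT hp M.toCoxeterSystem (locFin r) r hZ ht fun a ha => ?_
  have h2 : ch hp a t ^ r ^ j = 1 := by
    rw [← _root_.Cfsg.Agent.H696.GmnToral.ch_pow hp M.toCoxeterSystem (locFin r) r ha ht, h1, ch_one hp M.toCoxeterSystem (locFin r) r ha]
  have h3 : (ch hp a t - 1) ^ r ^ j = 0 := by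
    rw [sub_pow_char_pow, h2, one_pow, sub_self]
  exact sub_eq_zero.1 (pow_eq_zero_iff (pow_ne_zero _ (Fact.out : r.Prime).ne_zero) |>.1 h3)

/-- **Commuting with `X a` and with `X (-a)`.** -/
theorem comm_neg (hZ : Subgroup.center ↥(D.group (KK r)) = ⊥) {w₀ : M.Group} {y : ↥(D.group (KK r))}
    (h : NR hp r w₀ y) {a : Fin l → ℤ}
    (ha : IsRoot M.toCoxeterSystem hp.isCartan a) (hwa : rep M.toCoxeterSystem hp.isCartan w₀ a = a)
    (hc : ∀ u ∈ XX D l (KK r) a, y * u = u * y) : ∀ u ∈ XX D l (KK r) (-a), y * u = u * y := by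
  have := finite_W hp M.toCoxeterSystem
  have H := tow (k := KK r) hp M.toCoxeterSystem (locFin r) r
  intro v hv
  by_cases hv1 : v = 1
  · rw [hv1, mul_one, one_mul]
  obtain ⟨w, i, rfl⟩ := ha
  obtain ⟨g, -, hg⟩ := H.exists_rp w
  have hg' : NR hp r w g := hg
  have Fg := nr_frame hg'
  have hri := isRoot_sr M.toCoxeterSystem hp.isCartan i
  -- the element `v` in the rank one group
  obtain ⟨v₀, hv₀⟩ : ∃ v₀, v₀ = g⁻¹ * v * g := ⟨_, rfl⟩
  have hvg : v = MulAut.conj g v₀ := by rw [MulAut.conj_apply, hv₀]; group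
  have hv₀X : v₀ ∈ XX D l (KK r) (-sr i) := by
    refine (Fg.map _ hri.neg v₀).1 ?_
    rw [← hvg, map_neg]
    exact hv
  have hv₀1 : v₀ ≠ 1 := fun e => hv1 (by rw [hvg, e, _root_.MulEquiv.map_one])
  have hvX := hv₀X
  rw [← XL_eq hp (locFin r)] at hvX
  obtain ⟨j, hj⟩ := H.mem_XL.1 hvX
  obtain ⟨a₀, ha₀, t, ht, b₀, hb₀, e0⟩ := (H.rgd j).rk1 i v₀ hj hv₀1
  have ha₀' : a₀ ∈ XX D l (KK r) (sr i) := by rw [← XL_eq hp (locFin r)]; exact le_XL j _ ha₀
  have hb₀' : b₀ ∈ XX D l (KK r) (sr i) := by rw [← XL_eq hp (locFin r)]; exact le_XL j _ hb₀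
  have ht' : t ∈ TT D (KK r) := by rw [← TL_eq hp (locFin r)]; exact le_TL j ht
  have hn₀ : NR hp r (M.toCoxeterSystem.simple i) (t * nc hp (KK r) i) := by
    have h2 : Rp M.toCoxeterSystem (H.rgd j).nsys (M.toCoxeterSystem.simple i) (t * nc hp (KK r) i) := by
      have h3 := (rp_of_mem (cs := M.toCoxeterSystem) (hN := (H.rgd j).nsys) ht).mul
        (rp_simple M.toCoxeterSystem (H.rgd j).nsys i)
      rwa [one_mul] at h3
    exact H.rp_up (j := j) h2
  obtain ⟨n, hn⟩ : ∃ n, n = g * (t * nc hp (KK r) i) * g⁻¹ := ⟨_, rfl⟩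
  have hnR : NR hp r (w * M.toCoxeterSystem.simple i * w⁻¹) n := by rw [hn]; exact nr_conj hn₀ hg'
  have hyn : NR hp r (w₀ * (w * M.toCoxeterSystem.simple i * w⁻¹) * w₀⁻¹) (y * n * y⁻¹) := nr_conj hnR h
  have hrefl : w₀ * (w * M.toCoxeterSystem.simple i * w⁻¹) * w₀⁻¹ = w * M.toCoxeterSystem.simple i * w⁻¹ := by
    refine rep_faithful hp M.toCoxeterSystem fun x hx => ?_
    have h3 : ∀ z : Fin l → ℤ, rep M.toCoxeterSystem hp.isCartan (w * M.toCoxeterSystem.simple i * w⁻¹) z =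
        z - cpr M.toCoxeterSystem hp.isCartan z (rep M.toCoxeterSystem hp.isCartan w (sr i)) •
          rep M.toCoxeterSystem hp.isCartan w (sr i) := by
      intro z
      rw [← rep_rfl'_eq]
      rfl
    rw [rep_mul_apply, rep_mul_apply, h3, h3, map_sub, map_zsmul, hwa, ← rep_mul_apply, mul_inv_cancel, map_one,
      Module.End.one_apply]
    have h4 := cpr_rep M.toCoxeterSystem hp.isCartan w₀ (rep M.toCoxeterSystem hp.isCartan w₀⁻¹ x)
      (hri.act w)
    rw [hwa, ← rep_mul_apply, mul_inv_cancel, map_one, Module.End.one_apply] at h4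
    rw [h4]
  rw [hrefl] at hyn
  have hT := nr_inv_mul_mem hnR hyn
  -- `v = u₁ n u₂`
  have hu₁ : g * a₀ * g⁻¹ ∈ XX D l (KK r) (rep M.toCoxeterSystem hp.isCartan w (sr i)) := (Fg.map _ hri a₀).2 ha₀'
  have hu₂ : g * b₀ * g⁻¹ ∈ XX D l (KK r) (rep M.toCoxeterSystem hp.isCartan w (sr i)) := (Fg.map _ hri b₀).2 hb₀'
  obtain ⟨u₁, hu₁e⟩ : ∃ u, u = g * a₀ * g⁻¹ := ⟨_, rfl⟩
  obtain ⟨u₂, hu₂e⟩ : ∃ u, u = g * b₀ * g⁻¹ := ⟨_, rfl⟩
  rw [← hu₁e] at hu₁
  rw [← hu₂e] at hu₂
  have hvn : v = u₁ * n * u₂ := by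
    rw [hvg, e0, MulAut.conj_apply, hu₁e, hu₂e, hn]; group
  have hyv : y * v * y⁻¹ = u₁ * (y * n * y⁻¹) * u₂ := by
    have h5 : y * u₁ * y⁻¹ = u₁ := by rw [hc u₁ hu₁]; group
    have h6 : y * u₂ * y⁻¹ = u₂ := by rw [hc u₂ hu₂]; group
    calc y * v * y⁻¹ = (y * u₁ * y⁻¹) * (y * n * y⁻¹) * (y * u₂ * y⁻¹) := by rw [hvn]; group
      _ = _ := by rw [h5, h6]
  have hyvX : y * v * y⁻¹ ∈ XX D l (KK r) (-rep M.toCoxeterSystem hp.isCartan w (sr i)) := by
    have h7 := ((nr_frame h).map _ (hri.act w).neg v).2 hv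
    rw [repAut_apply, map_neg, hwa] at h7
    exact h7
  have hdX : v⁻¹ * (y * v * y⁻¹) ∈ XX D l (KK r) (-rep M.toCoxeterSystem hp.isCartan w (sr i)) :=
    mul_mem (inv_mem hv) hyvX
  obtain ⟨m, hm⟩ := H225.Gen.pow_of_rootD hp M.toCoxeterSystem (locFin r) r (hri.act w).neg hdX
  have hde : v⁻¹ * (y * v * y⁻¹) = u₂⁻¹ * (n⁻¹ * (y * n * y⁻¹)) * u₂⁻¹⁻¹ := by
    rw [hyv, hvn]; group
  have h8 : n⁻¹ * (y * n * y⁻¹) = 1 := by
    refine eq_one_of_pow hZ hT hp (j := m) ?_
    rw [hde, conj_pow] at hm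
    have h9 : u₂⁻¹ * (n⁻¹ * (y * n * y⁻¹)) ^ r ^ m = u₂⁻¹ := mul_inv_eq_one.1 hm
    exact mul_eq_left.1 h9
  rw [h8, mul_one, mul_inv_cancel] at hde
  have h10 : y * v * y⁻¹ = v := by
    have := inv_mul_eq_one.1 hde
    exact this.symm
  exact mul_inv_eq_iff_eq_mul.1 h10

/-- elements of the root group -/
theorem mem_XX_iff {a : Fin l → ℤ} (ha : IsRoot M.toCoxeterSystem hp.isCartan a) {u : ↥(D.group (KK r))} :
    u ∈ XX D l (KK r) a ↔ ∃ t, u = xc hp a t := by
  have hC := coordsL hp M.toCoxeterSystem (locFin r) r (k := KK r)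
  rw [(hC.coord a ha).mem u]
  exact ⟨fun ⟨t, h⟩ => ⟨t, h.symm⟩, fun ⟨t, h⟩ => ⟨t, h.symm⟩⟩

theorem xc_injective {a : Fin l → ℤ} (ha : IsRoot M.toCoxeterSystem hp.isCartan a) {s t : KK r}
    (h : xc hp a s = xc hp a t) : s = t := by
  obtain ⟨i, hi, rfl⟩ := (isRoot_iff hp M.toCoxeterSystem a).1 ha
  exact xc_inj hp hi h

/-- **The character of the stabiliser on `X a`.** -/
theorem exists_char {a : Fin l → ℤ} (ha : IsRoot M.toCoxeterSystem hp.isCartan a) {E' : Subgroup ↥(D.group (KK r))}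
    (hE' : ∀ y ∈ E', ∃ w, NR hp r w y ∧ rep M.toCoxeterSystem hp.isCartan w a = a) :
    ∃ χ : ↥(D.group (KK r)) → KK r, (∀ y ∈ E', χ y ≠ 0 ∧ ∀ t, y * xc hp a t * y⁻¹ = xc hp a (χ y * t)) ∧
      ∀ y ∈ E', ∀ y' ∈ E', χ (y * y') = χ y * χ y' := by
  classical
  have h1 : ∀ y : ↥(D.group (KK r)), ∃ c : KK r, y ∈ E' → c ≠ 0 ∧ ∀ t, y * xc hp a t * y⁻¹ = xc hp a (c * t) := by
    intro y
    by_cases hy : y ∈ E'
    · obtain ⟨w, hw, hwa⟩ := hE' y hy
      obtain ⟨c, hc, h2⟩ := nr_x hw ha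
      rw [hwa] at h2
      exact ⟨c, fun _ => ⟨hc, h2⟩⟩
    · exact ⟨1, fun h => absurd h hy⟩
  choose χ hχ using h1
  refine ⟨χ, hχ, fun y hy y' hy' => ?_⟩
  have h2 := (hχ _ (mul_mem hy hy')).2 1
  have h3 : y * y' * xc hp a 1 * (y * y')⁻¹ = xc hp a (χ y * (χ y' * 1)) := by
    rw [← (hχ y hy).2, ← (hχ y' hy').2]; group
  rw [h3] at h2
  have h4 := xc_injective ha h2
  rw [mul_one, mul_one] at h4
  exact h4.symm

/-- **The kernel on `⟨X a, X (-a)⟩`.** -/
theorem exists_ker (hZ : Subgroup.center ↥(D.group (KK r)) = ⊥) {a : Fin l → ℤ}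
    (ha : IsRoot M.toCoxeterSystem hp.isCartan a) {p : ℕ} [Fact p.Prime] {E' : Subgroup ↥(D.group (KK r))} [Finite ↥E']
    (hp' : ∀ y ∈ E', y ^ p = 1)
    (hE' : ∀ y ∈ E', ∃ w, NR hp r w y ∧ rep M.toCoxeterSystem hp.isCartan w a = a) :
    ∃ B ≤ E', (B = E' ∨ B.relIndex E' = p) ∧ (∀ y ∈ E', y ∈ B ↔ ∀ u ∈ XX D l (KK r) a, y * u = u * y) ∧
      ∀ y ∈ B, ∀ u ∈ XX D l (KK r) a ⊔ XX D l (KK r) (-a), y * u = u * y := by
  obtain ⟨χ, h1, h2⟩ := exists_char ha hE'
  have h3 : ∀ y ∈ E', χ y = 1 ↔ ∀ u ∈ XX D l (KK r) a, y * u = u * y := by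
    intro y hy
    constructor
    · intro h u hu
      obtain ⟨t, rfl⟩ := (mem_XX_iff (hp := hp) ha).1 hu
      have h4 := (h1 y hy).2 t
      rw [h, one_mul] at h4
      exact mul_inv_eq_iff_eq_mul.1 h4
    · intro h
      have h4 := (h1 y hy).2 1
      rw [h _ ((mem_XX_iff (hp := hp) ha).2 ⟨1, rfl⟩), mul_inv_cancel_right, mul_one] at h4
      exact (xc_injective ha h4).symm
  let B : Subgroup ↥(D.group (KK r)) :=
    { carrier := {y | y ∈ E' ∧ ∀ u ∈ XX D l (KK r) a, y * u = u * y}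
      one_mem' := ⟨one_mem _, fun u _ => by rw [one_mul, mul_one]⟩
      mul_mem' := by
        rintro x y ⟨hx, hx'⟩ ⟨hy, hy'⟩
        exact ⟨mul_mem hx hy, fun u hu => by rw [mul_assoc, hy' u hu, ← mul_assoc, hx' u hu, mul_assoc]⟩
      inv_mem' := by
        rintro x ⟨hx, hx'⟩
        exact ⟨inv_mem hx, fun u hu => by rw [inv_mul_eq_iff_eq_mul, ← mul_assoc, hx' u hu, mul_inv_cancel_right]⟩ }
  have hB : ∀ y ∈ E', y ∈ B ↔ ∀ u ∈ XX D l (KK r) a, y * u = u * y := fun y hy => ⟨fun h => h.2, fun h => ⟨hy, h⟩⟩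
  refine ⟨B, fun y hy => hy.1, ?_, hB, ?_⟩
  · exact H496.Gen.T2.relIndex_ker (χ := χ) hp' h2 (fun y hy => (h1 y hy).1) (fun y hy => hy.1) fun y hy => by
      rw [hB y hy, h3 y hy]
  · rintro y ⟨hy, hy'⟩
    obtain ⟨w, hw, hwa⟩ := hE' y hy
    have h4 := comm_neg hZ hw ha hwa hy'
    have h5 : XX D l (KK r) a ⊔ XX D l (KK r) (-a) ≤ Subgroup.centralizer {y} := by
      refine sup_le ?_ ?_
      · intro u hu
        rw [Subgroup.mem_centralizer_singleton_iff]
        exact (hy' u hu).symm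
      · intro u hu
        rw [Subgroup.mem_centralizer_singleton_iff]
        exact (h4 u hu).symm
    intro u hu
    exact (Subgroup.mem_centralizer_singleton_iff.1 (h5 hu)).symm

/-- **M5F: the fixed roots.** -/
theorem orbF (hZ : Subgroup.center ↥(D.group (KK r)) = ⊥) (h : HiList D) (p : ℕ) [Fact p.Prime] :
    P5 hp r p (OrbF hp) := by
  intro e τ γ E H S hE2 hr2 hpr hq ε hε a ha hO u hu hτ hur
  have hE1 : p ≤ Nat.card ↥E := by
    have := (Fact.out : p.Prime).one_lt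
    nlinarith only [hE2]
  have : Finite ↥E := by
    refine Nat.finite_of_card_ne_zero ?_
    have := (Fact.out : p.Prime).pos
    omega
  have har := LL_root h hp M.toCoxeterSystem ha.1
  obtain ⟨B, hB, hi, -, hc⟩ := exists_ker hZ har (p := p) (E' := E) S.el.2 fun y hy => by
    obtain ⟨w, hw⟩ := S.nrm y hy
    exact ⟨w, hw, hO w ⟨y, hy, hw⟩⟩
  have hu' : u ∈ XX D l (KK r) a ⊔ XX D l (KK r) (-a) := by
    have h1 : RGD.Sup (XX D l (KK r)) {a, -a} ≤ XX D l (KK r) a ⊔ XX D l (KK r) (-a) := by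
      refine RGD.Sup_le fun b hb => ?_
      rcases hb with rfl | rfl
      · exact le_sup_left
      · exact le_sup_right
    exact h1 hu
  have huO : u ∈ Orr r τ := Subgroup.subset_closure ⟨hτ, hur⟩
  rcases hi with rfl | hi
  · obtain ⟨F, hF, hFi⟩ := exists_hyperplane S.el hE1
    exact S.cent F hF hFi u huO fun x hx => hc x (hF hx) u hu'
  · exact S.cent B hB hi u huO fun x hx => hc x hx u hu'

end Cfsg.Agent.H496.Mono
end

-- part: H655/Mono/Orth
section
/-!
# S2187, X4: orbits of orthogonal long roots (M5O) and fixed long roots (M5F), any odd `p` (helper655)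

* `comm_sup` : `⟨X_{±a}⟩`, `⟨X_{±b}⟩` commute for orthogonal long roots;
* `inS_orth` : the orbit of `a` consists of `p` orthogonal roots: `InS r l τ H {a, -a}`; `p5_orbO` : `P5 hp r 3 (OrbO hp)`;
* `inS_fixed` : `a` fixed: `InS r l τ H {a, -a}`; `p5_orbF` : `P5 hp r p (OrbF hp)`.
-/

set_option autoImplicit false
set_option linter.unusedSectionVars false

namespace Cfsg.Agent.H655.Mono

open CoxeterSystem Cfsg Cfsg.Lie Cfsg.Lie.ChevalleyDatum
open Cfsg.Agent.ChevalleyStructure Cfsg.Agent.ChevalleyStructure.Elts Cfsg.Agent.ChevalleyStructure.CoxeterGeom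
  Cfsg.Agent.ChevalleyStructure.CoxeterGeomTypes Cfsg.Agent.ChevalleyStructure.NPerm
open Cfsg.Agent.Tits.Roots Cfsg.Agent.Tits.Core Cfsg.Agent.Nodes Cfsg.Agent.Nodes.Reps Cfsg.Agent.Nodes.BNOf
  Cfsg.Agent.Nodes.SubComb Cfsg.Agent.Nodes.RGDChev Cfsg.Agent.Nodes.Bruhat Cfsg.Agent.Nodes.Coroot
open Cfsg.Agent.KFacts.RgdField Cfsg.Agent.KFacts.RgdChevCoord
open Cfsg.Agent.BpExc Cfsg.Agent.BpExc.TorCent Cfsg.Agent.BpExc.TorChev Cfsg.Agent.BpExc.Tow
  Cfsg.Agent.BpExc.TowChev Cfsg.Agent.BpExc.Fr Cfsg.Agent.BpExc.LangFr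
open Cfsg.Agent.H469.Exc Cfsg.Agent.H316.U6 Cfsg.Agent.H818.Gen Cfsg.Agent.H818.Mono Cfsg.Agent.H496.Mono
open Cfsg.Agent.H225.Gen (LL LL_rep LL_root LL_neg LL_long)
open Cfsg.Agent.H818.StrP.UTab

section Comm

variable {D : ChevalleyDatum} {l : ℕ} {M : CoxeterMatrix (Fin l)} {hp : IsType D l M} {k : Type} [Field k]

/-- the root groups of orthogonal long roots commute -/
theorem comm_long (h : HiList D) (hk : LocFin k) (r : ℕ) [Fact r.Prime] [CharP k r] {a b : Fin l → ℤ}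
    (ha : a ∈ LL M.toCoxeterSystem hp) (hb : b ∈ LL M.toCoxeterSystem hp)
    (h0 : cpr M.toCoxeterSystem hp.isCartan b a = 0) {u v : ↥(D.group k)} (hu : u ∈ XX D l k a)
    (hv : v ∈ XX D l k b) : u * v = v * u := by
  have := finite_W hp M.toCoxeterSystem
  have C := coordsL hp M.toCoxeterSystem hk r
  have har := LL_root h hp _ ha
  have hbr := LL_root h hp _ hb
  have h0' : cpr M.toCoxeterSystem hp.isCartan a b = 0 := (cpr_zero_comm M.toCoxeterSystem hp.isCartan hbr har).1 h0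
  obtain ⟨t, rfl⟩ := ((C.coord a har).mem u).1 hu
  obtain ⟨s, rfl⟩ := ((C.coord b hbr).mem v).1 hv
  have hL := LL_long h hp M.toCoxeterSystem
  refine H46.Gen.xc_commute hp ((isRoot_iff hp M.toCoxeterSystem a).1 har) ((isRoot_iff hp M.toCoxeterSystem b).1 hbr)
    ?_ (Or.inr ?_) t s
  · rintro rfl
    rw [cpr_neg M.toCoxeterSystem hp.isCartan a har, cpr_self M.toCoxeterSystem hp.isCartan har] at h0
    omega
  · intro m n hm hn hR
    have hz := (isRoot_iff hp M.toCoxeterSystem _).2 hR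
    have e1 : cpr M.toCoxeterSystem hp.isCartan ((m : ℤ) • a + (n : ℤ) • b) a = 2 * m := by
      rw [cpr_add M.toCoxeterSystem hp.isCartan _ _ har, cpr_smul M.toCoxeterSystem hp.isCartan _ _ har,
        cpr_smul M.toCoxeterSystem hp.isCartan _ _ har, cpr_self M.toCoxeterSystem hp.isCartan har, h0]
      ring
    have e2 : cpr M.toCoxeterSystem hp.isCartan ((m : ℤ) • a + (n : ℤ) • b) b = 2 * n := by
      rw [cpr_add M.toCoxeterSystem hp.isCartan _ _ hbr, cpr_smul M.toCoxeterSystem hp.isCartan _ _ hbr,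
        cpr_smul M.toCoxeterSystem hp.isCartan _ _ hbr, cpr_self M.toCoxeterSystem hp.isCartan hbr, h0']
      ring
    by_cases hne : (m : ℤ) • a + (n : ℤ) • b = a
    · rw [hne, h0'] at e2
      omega
    · have h1 := hL.le a ha _ hz hne
      rw [e1] at h1
      omega

theorem comm_sup (h : HiList D) (hk : LocFin k) (r : ℕ) [Fact r.Prime] [CharP k r] {a b : Fin l → ℤ}
    (ha : a ∈ LL M.toCoxeterSystem hp) (hb : b ∈ LL M.toCoxeterSystem hp)
    (h0 : cpr M.toCoxeterSystem hp.isCartan b a = 0) {u v : ↥(D.group k)} (hu : u ∈ RGD.Sup (XX D l k) {a, -a})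
    (hv : v ∈ RGD.Sup (XX D l k) {b, -b}) : u * v = v * u := by
  have := finite_W hp M.toCoxeterSystem
  have har := LL_root h hp _ ha
  have hbr := LL_root h hp _ hb
  have key : ∀ x ∈ ({a, -a} : Set (Fin l → ℤ)), ∀ y ∈ ({b, -b} : Set (Fin l → ℤ)), ∀ u ∈ XX D l k x, ∀ v ∈ XX D l k y,
      u * v = v * u := by
    intro x hx y hy u hu v hv
    have hxL : x ∈ LL M.toCoxeterSystem hp := by
      rcases hx with rfl | rfl
      · exact ha
      · exact LL_neg h hp _ ha
    have hyL : y ∈ LL M.toCoxeterSystem hp := by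
      rcases hy with rfl | rfl
      · exact hb
      · exact LL_neg h hp _ hb
    refine comm_long (hp := hp) h hk r hxL hyL ?_ hu hv
    have h1 : cpr M.toCoxeterSystem hp.isCartan y a = 0 := by
      rcases hy with rfl | rfl
      · exact h0
      · rw [cpr_neg M.toCoxeterSystem hp.isCartan b har, h0, _root_.neg_zero]
    rcases hx with rfl | rfl
    · exact h1
    · rw [cpr_neg_right M.toCoxeterSystem hp.isCartan y har, h1, _root_.neg_zero]
  have h1 : RGD.Sup (XX D l k) {a, -a} ≤ Subgroup.centralizer (RGD.Sup (XX D l k) {b, -b} : Set ↥(D.group k)) := by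
    refine RGD.Sup_le fun x hx u hu => ?_
    rw [Subgroup.mem_centralizer_iff]
    intro v hv
    have h2 : RGD.Sup (XX D l k) {b, -b} ≤ Subgroup.centralizer {u} := by
      refine RGD.Sup_le fun y hy v hv => ?_
      rw [Subgroup.mem_centralizer_singleton_iff]
      exact (key x hx y hy u hu v hv).symm
    have h3 := h2 hv
    rw [Subgroup.mem_centralizer_singleton_iff] at h3
    exact h3
  have h2 := h1 hu
  rw [Subgroup.mem_centralizer_iff] at h2
  exact (h2 v hv).symm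

end Comm

variable {D : ChevalleyDatum} {l : ℕ} {M : CoxeterMatrix (Fin l)} {hp : IsType D l M} {r : ℕ} [Fact r.Prime]
  {p e : ℕ} {τ : MulAut ↥(D.group (KK r))} {γ : (Fin l → ℤ) ≃+ (Fin l → ℤ)} {E H : Subgroup ↥(D.group (KK r))}

/-- conjugates of `⟨X_a, X_{-a}⟩` -/
theorem conj_mem_sup {w : M.Group} {y : ↥(D.group (KK r))} (hy : NR hp r w y) {a : Fin l → ℤ}
    (ha : IsRoot M.toCoxeterSystem hp.isCartan a) {u : ↥(D.group (KK r))} (hu : u ∈ RGD.Sup (XX D l (KK r)) {a, -a}) :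
    y * u * y⁻¹ ∈ RGD.Sup (XX D l (KK r)) {rep M.toCoxeterSystem hp.isCartan w a,
      -rep M.toCoxeterSystem hp.isCartan w a} := by
  refine ((nr_frame hy).mem_Sup (S := {a, -a}) ?_ (fun x => ?_) u).2 hu
  · rintro x (rfl | rfl)
    · exact ha
    · exact ha.neg
  · have hinj : Function.Injective (rep M.toCoxeterSystem hp.isCartan w) :=
      (repAut M.toCoxeterSystem hp.isCartan w).injective
    show rep M.toCoxeterSystem hp.isCartan w x = rep M.toCoxeterSystem hp.isCartan w a ∨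
      rep M.toCoxeterSystem hp.isCartan w x = -rep M.toCoxeterSystem hp.isCartan w a ↔ x = a ∨ x = -a
    rw [← map_neg, hinj.eq_iff, hinj.eq_iff]

/-- the stabiliser of `a` in `E` -/
theorem exists_stab (a : Fin l → ℤ) : ∃ Ea : Subgroup ↥(D.group (KK r)), ∀ y, y ∈ Ea ↔
    y ∈ E ∧ ∃ w, NR hp r w y ∧ rep M.toCoxeterSystem hp.isCartan w a = a :=
  ⟨{  carrier := {y | y ∈ E ∧ ∃ w, NR hp r w y ∧ rep M.toCoxeterSystem hp.isCartan w a = a}
      one_mem' := ⟨one_mem _, 1, nr_one, by rw [map_one, Module.End.one_apply]⟩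
      mul_mem' := by
        rintro x y ⟨hx, w, h1, h2⟩ ⟨hy, v, h3, h4⟩
        exact ⟨mul_mem hx hy, w * v, nr_mul h1 h3, by rw [rep_mul_apply, h4, h2]⟩
      inv_mem' := by
        rintro x ⟨hx, w, h1, h2⟩
        refine ⟨inv_mem hx, w⁻¹, nr_inv h1, ?_⟩
        conv_lhs => rw [← h2]
        rw [← rep_mul_apply, inv_mul_cancel, map_one, Module.End.one_apply] }, fun _ => Iff.rfl⟩

/-- **Orbits of `p` orthogonal long roots.** -/
theorem inS_orth [Fact p.Prime] (h : HiList D) (S : Sit hp r p e τ γ E H) (hr2 : r ≠ 2) (hp2 : p ≠ 2) (hpr : p ≠ r)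
    {a : Fin l → ℤ} (ha : a ∈ LL M.toCoxeterSystem hp) (hg : γ a = a ∨ γ a = -a) {f : M.Group} (hf : f ∈ VE hp r E)
    (h0 : ∀ i : ℕ, ¬ p ∣ i → cpr M.toCoxeterSystem hp.isCartan (rep M.toCoxeterSystem hp.isCartan (f ^ i) a) a = 0)
    (horb : ∀ v ∈ VE hp r E, ∃ j : ℕ, rep M.toCoxeterSystem hp.isCartan v a =
      rep M.toCoxeterSystem hp.isCartan (f ^ j) a) : InS r l τ H {a, -a} := by
  have := finite_W hp M.toCoxeterSystem
  have har := LL_root h hp _ ha
  obtain ⟨ψ, U, hrange, hker, hτ, hact⟩ := exists_psi h S.he S.frob S.fr ha hg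
  obtain ⟨f', hf', hff⟩ := hf
  obtain ⟨Ea, hEa⟩ := exists_stab (hp := hp) (E := E) a
  have hmem : ∀ A, ψ A ∈ RGD.Sup (XX D l (KK r)) {a, -a} := fun A => by rw [← hrange]; exact ⟨A, rfl⟩
  have hq : 1 < r ^ e := Nat.one_lt_pow S.he.ne' (Fact.out : r.Prime).one_lt
  intro u hu hτu hur
  obtain ⟨A, hA, rfl⟩ := fix_form hr2 hker hτ (by rw [hrange]; exact hu) hτu hur
  refine main (r := r) (p := p) (q := r ^ e) (φ := iterateFrobenius (KK r) r e) (Ea := Ea) (U := U) hr2 hp2 hpr hq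
    (fun t => iterateFrobenius_def r e t) hker hτ S.el S.fix S.cent (fun y hy => ((hEa y).1 hy).1) ?_ hf' ?_ ?_ ?_ hA
  · intro y hy
    obtain ⟨-, w, h1, h2⟩ := (hEa y).1 hy
    exact hact y w h1 h2
  · intro i hi A B
    have h1 := conj_mem_sup (nr_pow hff i) har (hmem A)
    exact (comm_sup (hp := hp) h (locFin r) r ha (LL_rep _ _ ha _) (h0 i hi) (hmem B) h1).symm
  · intro i hi h1
    obtain ⟨-, w, h2, h3⟩ := (hEa _).1 h1
    have h4 := h0 i hi
    rw [nr_unique (nr_pow hff i) h2, h3, cpr_self M.toCoxeterSystem hp.isCartan har] at h4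
    omega
  · intro y hy
    obtain ⟨v, hv⟩ := S.nrm y hy
    obtain ⟨j, hj⟩ := horb v ⟨y, hy, hv⟩
    refine ⟨j, (hEa _).2 ⟨mul_mem (inv_mem (pow_mem hf' j)) hy, (f ^ j)⁻¹ * v, nr_mul (nr_inv (nr_pow hff j)) hv, ?_⟩⟩
    rw [rep_mul_apply, hj, ← rep_mul_apply, inv_mul_cancel, map_one, Module.End.one_apply]

theorem eps_cases {ε : ℤ} (hε : ε = 1 ∨ ε = -1) {a : Fin l → ℤ} (ha : γ a = ε • a) : γ a = a ∨ γ a = -a := by
  rcases hε with rfl | rfl
  · left; rw [ha, one_smul]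
  · right; rw [ha, neg_smul, one_smul]

/-- **M5O** -/
theorem p5_orbO (h : HiList D) : P5 hp r 3 (OrbO hp) := by
  have : Fact (Nat.Prime 3) := ⟨by norm_num⟩
  have := finite_W hp M.toCoxeterSystem
  intro e τ γ E H S _ hr2 hpr _ ε hε a ha hO
  obtain ⟨f, hf, h0, horb⟩ := hO
  have har := LL_root h hp _ ha.1
  refine inS_orth h S hr2 (by norm_num) hpr ha.1 (eps_cases hε.1 ha.2) hf (fun i hi => ?_) horb
  have hf3 := VE_pow S hf
  have h1 : f ^ i = f ∨ f ^ i = f⁻¹ := by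
    have h2 : f ^ i = f ^ (i % 3) := by
      conv_lhs => rw [← Nat.mod_add_div i 3, pow_add, pow_mul, hf3, one_pow, mul_one]
    have h3 : i % 3 = 1 ∨ i % 3 = 2 := by omega
    rcases h3 with h3 | h3
    · left; rw [h2, h3, pow_one]
    · right
      rw [h2, h3, eq_inv_iff_mul_eq_one, ← pow_succ]
      exact hf3
  rcases h1 with h1 | h1
  · rw [h1]; exact h0
  · rw [h1]
    have h2 := cpr_rep M.toCoxeterSystem hp.isCartan f (rep M.toCoxeterSystem hp.isCartan f⁻¹ a) har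
    rw [← rep_mul_apply, mul_inv_cancel, map_one, Module.End.one_apply] at h2
    rw [← h2]
    exact (cpr_zero_comm M.toCoxeterSystem hp.isCartan (har.act f) har).1 h0

end Cfsg.Agent.H655.Mono
end

-- part: H900/Fra/Gen
section
/-!
# S2187, X4, M1: frames (helper900)

`exists_frame` : a `p`-subgroup `E` of `Y^σ` has a frame `z` of type `g = w₀ ∘ m.g` as soon as the `p`-part of `|Y^σ|` divides
`N ^ j * |V|`, where `T^τ` contains `j` independent characters of order `N` (`hdual`, `hf`) and `V ≤ C_W(g)`.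
-/

set_option autoImplicit false
set_option linter.dupNamespace false
set_option linter.unusedSectionVars false

namespace Cfsg.Agent.H900.Fra

open CoxeterSystem Cfsg Cfsg.Lie Cfsg.Lie.ChevalleyDatum
open Cfsg.Agent.ChevalleyStructure Cfsg.Agent.ChevalleyStructure.Elts Cfsg.Agent.ChevalleyStructure.CoxeterGeom
  Cfsg.Agent.ChevalleyStructure.CoxeterGeomTypes Cfsg.Agent.ChevalleyStructure.NPerm
open Cfsg.Agent.Tits.Roots Cfsg.Agent.Tits.Core Cfsg.Agent.Nodes Cfsg.Agent.Nodes.Reps Cfsg.Agent.Nodes.BNOf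
  Cfsg.Agent.Nodes.SubComb Cfsg.Agent.Nodes.RGDChev Cfsg.Agent.Nodes.Bruhat Cfsg.Agent.Nodes.Coroot
open Cfsg.Agent.KFacts.RgdField Cfsg.Agent.KFacts.RgdChevCoord
open Cfsg.Agent.BpExc Cfsg.Agent.BpExc.TorCent Cfsg.Agent.BpExc.TorChev Cfsg.Agent.BpExc.Tow
  Cfsg.Agent.BpExc.TowChev Cfsg.Agent.BpExc.Fr Cfsg.Agent.BpExc.LangFr
open Cfsg.Agent.H469.Exc Cfsg.Agent.H316.U6 Cfsg.Agent.H818.Mono Cfsg.Agent.H795.LangT
open Cfsg.Agent.H129.TorusChar

universe v

/-! ### Sylow -/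

/-- a `p`-subgroup is conjugate into a subgroup containing the `p`-part of the order -/
theorem sylow_conj {G : Type*} [Group G] [Finite G] {p : ℕ} [Fact p.Prime] {N E : Subgroup G} {b : ℕ}
    (hN : p ^ b ∣ Nat.card N) (hG : ¬ p ^ (b + 1) ∣ Nat.card G) (hE : IsPGroup p E) :
    ∃ y : G, ∀ x ∈ E, y⁻¹ * x * y ∈ N := by
  obtain ⟨P₀⟩ : Nonempty (Sylow p ↥N) := inferInstance
  have hP₀ : p ^ b ∣ Nat.card (P₀ : Subgroup ↥N) := by
    rw [P₀.card_eq_multiplicity]
    exact Nat.pow_dvd_pow p ((Nat.Prime.pow_dvd_iff_le_factorization (Fact.out : p.Prime) Nat.card_pos.ne').1 hN)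
  set P : Subgroup G := (P₀ : Subgroup ↥N).map N.subtype with hPdef
  have hPN : P ≤ N := by
    rintro _ ⟨y, -, rfl⟩
    exact y.2
  have hPp : IsPGroup p P := P₀.isPGroup'.map _
  have hcP : Nat.card P = Nat.card (P₀ : Subgroup ↥N) :=
    Nat.card_congr ((P₀ : Subgroup ↥N).equivMapOfInjective _ N.subtype_injective).symm.toEquiv
  obtain ⟨Q, hQ⟩ := hPp.exists_le_sylow
  have hfac : (Nat.card G).factorization p ≤ b := by
    by_contra hcon
    exact hG ((Nat.Prime.pow_dvd_iff_le_factorization (Fact.out : p.Prime) Nat.card_pos.ne').2 (by omega))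
  have hQP : P = (Q : Subgroup G) := by
    refine Subgroup.eq_of_le_of_card_ge hQ ?_
    rw [Q.card_eq_multiplicity, hcP]
    exact (Nat.pow_le_pow_right (Fact.out : p.Prime).pos hfac).trans (Nat.le_of_dvd Nat.card_pos hP₀)
  obtain ⟨R, hR⟩ := hE.exists_le_sylow
  obtain ⟨y, hy⟩ := MulAction.exists_smul_eq G Q R
  refine ⟨y, fun x hx => hPN ?_⟩
  have h1 : x ∈ (R : Subgroup G) := hR hx
  rw [← hy, Sylow.coe_subgroup_smul, Subgroup.mem_pointwise_smul_iff_inv_smul_mem] at h1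
  rw [hQP]
  have h2 : y⁻¹ * x * y = (MulAut.conj y)⁻¹ • x := by
    rw [← map_inv]
    show _ = y⁻¹ * x * y⁻¹⁻¹
    rw [inv_inv]
  rw [h2]
  exact h1

variable {D : ChevalleyDatum} {l : ℕ} {M : CoxeterMatrix (Fin l)} (hp : IsType D l M) (r : ℕ) [hr : Fact r.Prime]

/-! ### the torus -/

/-- torus elements from characters -/
theorem exists_torHom {τ : MulAut ↥(D.group (KK r))} {e : ℕ} (hτ : IsFrob r e τ) {g : (Fin l → ℤ) ≃+ (Fin l → ℤ)}
    (F : Fr M.toCoxeterSystem hp.isCartan (TT D (KK r)) (XX D l (KK r)) τ g) {d : ℕ} {B : Fin l → Fin l → ℤ}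
    (hB : InvC D l d B) (hd : d ≠ 0) {j N : ℕ} [NeZero N] (f : Fin j → (Fin l → ℤ) →+ ℤ) (x : Fin j → Fin l → ℤ)
    (hdual : ∀ i i', f i (x i') = if i = i' then 1 else 0)
    (hf : ∀ i y, (N : ℤ) ∣ f i (g y) - (r ^ e : ℕ) * f i y) :
    ∃ φ : (Fin j → rootsOfUnity N (KK r)) →* ↥(D.group (KK r)), Function.Injective φ ∧
      ∀ c, φ c ∈ TT D (KK r) ∧ τ (φ c) = φ c := by
  classical
  let ch : (Fin j → rootsOfUnity N (KK r)) → (Fin l → ℤ) → KK r := fun c y => ∏ i, ((c i : (KK r)ˣ) : KK r) ^ f i y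
  have hch : ∀ c, IsMC (ch c) := by
    intro c
    constructor
    · show ∏ i, ((c i : (KK r)ˣ) : KK r) ^ f i 0 = 1
      refine Finset.prod_eq_one fun i _ => ?_
      rw [map_zero, zpow_zero]
    · intro y z
      show ∏ i, ((c i : (KK r)ˣ) : KK r) ^ f i (y + z) = (∏ i, ((c i : (KK r)ˣ) : KK r) ^ f i y) *
        ∏ i, ((c i : (KK r)ˣ) : KK r) ^ f i z
      rw [← Finset.prod_mul_distrib]
      refine Finset.prod_congr rfl fun i _ => ?_
      rw [map_add, zpow_add₀ (Units.ne_zero _)]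
  have hex : ∀ c, ∃ t ∈ TT D (KK r), ∀ y, cX hp t y = ch c y := fun c =>
    exists_cX hp hB hd (hch c) fun i => IsAlgClosed.exists_pow_nat_eq _ (Nat.pos_of_ne_zero hd)
  choose φ hφT hφ using hex
  have hmul : ∀ c c', φ (c * c') = φ c * φ c' := by
    intro c c'
    refine cX_inj hp (hφT _) (mul_mem (hφT _) (hφT _)) fun i => ?_
    rw [cX_mul hp (hφT _) (hφT _), hφ, hφ, hφ]
    show ∏ m, (((c * c') m : (KK r)ˣ) : KK r) ^ f m (sr i) = (∏ m, ((c m : (KK r)ˣ) : KK r) ^ f m (sr i)) *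
        ∏ m, ((c' m : (KK r)ˣ) : KK r) ^ f m (sr i)
    rw [← Finset.prod_mul_distrib]
    refine Finset.prod_congr rfl fun m _ => ?_
    rw [← mul_zpow]
    rfl
  refine ⟨MonoidHom.mk' φ hmul, ?_, fun c => ⟨hφT c, ?_⟩⟩
  · intro c c' h
    have h' : φ c = φ c' := h
    have hval : ∀ c : Fin j → rootsOfUnity N (KK r), ∀ i, cX hp (φ c) (x i) = ((c i : (KK r)ˣ) : KK r) := by
      intro c i
      rw [hφ]
      show ∏ m, ((c m : (KK r)ˣ) : KK r) ^ f m (x i) = _
      rw [Finset.prod_eq_single i]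
      · rw [hdual, if_pos rfl, zpow_one]
      · intro m _ hm
        rw [hdual, if_neg hm, zpow_zero]
      · intro hi
        exact absurd (Finset.mem_univ i) hi
    funext i
    refine Subtype.ext (Units.ext ?_)
    rw [← hval c i, ← hval c' i, h']
  · show τ (φ c) = φ c
    have hτT : τ (φ c) ∈ TT D (KK r) := (F.tor _).2 (hφT c)
    have key : ∀ y, cX hp (τ (φ c)) (g y) = cX hp (φ c) (g y) := by
      intro y
      rw [cX_sigma hp M.toCoxeterSystem hτ F (hφT c), hφ, hφ]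
      show (∏ m, ((c m : (KK r)ˣ) : KK r) ^ f m y) ^ r ^ e = ∏ m, ((c m : (KK r)ˣ) : KK r) ^ f m (g y)
      rw [← Finset.prod_pow]
      refine Finset.prod_congr rfl fun m _ => ?_
      obtain ⟨a, ha⟩ := hf m y
      have h1 : f m (g y) = f m y * (r ^ e : ℕ) + (N : ℤ) * a := by linear_combination ha
      rw [h1, zpow_add₀ (Units.ne_zero _), zpow_mul, zpow_mul, zpow_natCast, zpow_natCast]
      have h2 : ((c m : (KK r)ˣ) : KK r) ^ N = 1 := by
        have := (mem_rootsOfUnity _ _).1 (c m).2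
        rw [← Units.val_pow_eq_pow_val, this, Units.val_one]
      rw [h2, one_zpow, mul_one]
    refine cX_inj hp hτT (hφT c) fun i => ?_
    obtain ⟨y, hy⟩ := g.surjective (sr i)
    rw [← hy]
    exact key y

/-! ### the normaliser of the torus -/

variable {r}

/-- the represented element is unique -/
theorem nr_inj {d : ℕ} {B : Fin l → Fin l → ℤ} (hB : InvC D l d B) (hd : d ≠ 0) {v w : M.Group}
    {y : ↥(D.group (KK r))} (h1 : NR hp r v y) (h2 : NR hp r w y) : v = w := by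
  have hk := locFin r
  apply rep_injective M.toCoxeterSystem hp.isCartan
  apply LinearMap.ext
  intro x
  refine cX_sep hp (k := KK r) hB hd fun t ht => ?_
  have h3 : y⁻¹ * t * y ∈ TT D (KK r) := by
    have := rp_conj_mem hp hk h1.inv ht
    rwa [inv_inv] at this
  have h4 : y * (y⁻¹ * t * y) * y⁻¹ = t := by group
  have h5 := cX_rp' hp hk h1 h3 x
  have h6 := cX_rp' hp hk h2 h3 x
  rw [h4] at h5 h6
  rw [h5, h6]

variable (r) in
/-- `N(T)^τ` -/
def NT (τ : MulAut ↥(D.group (KK r))) : Subgroup ↥(D.group (KK r)) where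
  carrier := {y | (∃ w, NR hp r w y) ∧ τ y = y}
  one_mem' := ⟨⟨1, rp_one⟩, map_one τ⟩
  mul_mem' := by
    rintro a b ⟨⟨v, hv⟩, ha⟩ ⟨⟨w, hw⟩, hb⟩
    exact ⟨⟨v * w, hv.mul hw⟩, by rw [map_mul, ha, hb]⟩
  inv_mem' := by
    rintro a ⟨⟨v, hv⟩, ha⟩
    exact ⟨⟨v⁻¹, hv.inv⟩, by rw [map_inv, ha]⟩

/-- **The order of `N(T)^τ`.** -/
theorem dvd_card_NT {τ : MulAut ↥(D.group (KK r))} {e : ℕ} (he : 0 < e) (hτ : IsFrob r e τ)
    {g : (Fin l → ℤ) ≃+ (Fin l → ℤ)}
    (F : Fr M.toCoxeterSystem hp.isCartan (TT D (KK r)) (XX D l (KK r)) τ g) {d : ℕ} {B : Fin l → Fin l → ℤ}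
    (hB : InvC D l d B) (hd : d ≠ 0) {j N : ℕ} (hN : ¬ r ∣ N) (f : Fin j → (Fin l → ℤ) →+ ℤ)
    (x : Fin j → Fin l → ℤ) (hdual : ∀ i i', f i (x i') = if i = i' then 1 else 0)
    (hf : ∀ i y, (N : ℤ) ∣ f i (g y) - (r ^ e : ℕ) * f i y) (V : Subgroup M.Group)
    (hV : ∀ v ∈ V, ∀ y, rep M.toCoxeterSystem hp.isCartan v (g y) = g (rep M.toCoxeterSystem hp.isCartan v y)) :
    N ^ j * Nat.card V ∣ Nat.card (NT hp r τ) := by
  classical
  have hk := locFin r
  have hNk : (N : KK r) ≠ 0 := by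
    rw [Ne, CharP.cast_eq_zero_iff (KK r) r]
    exact hN
  have : NeZero (N : KK r) := ⟨hNk⟩
  have hN0 : N ≠ 0 := by rintro rfl; exact hN (dvd_zero r)
  have : NeZero N := ⟨hN0⟩
  obtain ⟨φ, hφi, hφ⟩ := exists_torHom hp r hτ F hB hd f x hdual hf
  have hex : ∀ y : ↥(NT hp r τ), ∃ w, NR hp r w (y : ↥(D.group (KK r))) := fun y => y.2.1
  choose ρ₀ hρ₀ using hex
  let ρ : ↥(NT hp r τ) →* M.Group :=
    { toFun := ρ₀
      map_one' := nr_inj hp hB hd (hρ₀ 1) rp_one
      map_mul' := fun a b => nr_inj hp hB hd (hρ₀ (a * b)) ((hρ₀ a).mul (hρ₀ b)) }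
  have hρ : ∀ y : ↥(NT hp r τ), NR hp r (ρ y) (y : ↥(D.group (KK r))) := hρ₀
  have h1 : Nat.card (Fin j → rootsOfUnity N (KK r)) = N ^ j := by
    rw [Nat.card_fun, HasEnoughRootsOfUnity.natCard_rootsOfUnity, Nat.card_eq_fintype_card, Fintype.card_fin]
  have hTn : ∀ c, φ c ∈ NT hp r τ := fun c =>
    ⟨⟨1, rp_of_mem (by rw [TL_eq hp hk]; exact (hφ c).1)⟩, (hφ c).2⟩
  let φ' : (Fin j → rootsOfUnity N (KK r)) →* ↥ρ.ker :=
    MonoidHom.codRestrict (MonoidHom.codRestrict φ (NT hp r τ) hTn) ρ.ker (fun c => MonoidHom.mem_ker.2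
      (nr_inj hp hB hd (hρ _) (rp_of_mem (by rw [TL_eq hp hk]; exact (hφ c).1))))
  have hφ'i : Function.Injective φ' := fun c c' h =>
    hφi (congrArg (fun y : ↥ρ.ker => ((y : ↥(NT hp r τ)) : ↥(D.group (KK r)))) h)
  have h2 : N ^ j ∣ Nat.card ρ.ker := by
    rw [← h1]
    exact Subgroup.card_dvd_of_injective φ' hφ'i
  have h3 : V ≤ ρ.range := by
    intro v hv
    obtain ⟨m, hm, hmf⟩ := exists_fixed_lift hp hk hB hd he hτ F (hV v hv)
    exact ⟨⟨m, ⟨v, hm⟩, hmf⟩, nr_inj hp hB hd (hρ _) hm⟩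
  have h4 : Nat.card V ∣ Nat.card ρ.range := Subgroup.card_dvd_of_le h3
  have h5 := ρ.ker.card_mul_index
  rw [Subgroup.index_ker] at h5
  rw [← h5]
  exact mul_dvd_mul h2 h4

/-! ### the frame -/

variable {hp} {q : ℕ} {K₀ : Type v} [Group K₀]

/-- **Frames of the `p`-subgroups of `Y^σ`.** -/
theorem exists_frame (m : MData hp r q K₀) {p : ℕ} [Fact p.Prime] {d : ℕ} {B : Fin l → Fin l → ℤ}
    (hB : InvC D l d B) (hd : d ≠ 0) (w0 : M.Group) {g : (Fin l → ℤ) ≃+ (Fin l → ℤ)}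
    (hg : ∀ y, g y = rep M.toCoxeterSystem hp.isCartan w0 (m.g y)) {j N : ℕ} (hN : ¬ r ∣ N)
    (f : Fin j → (Fin l → ℤ) →+ ℤ) (x : Fin j → Fin l → ℤ)
    (hdual : ∀ i i', f i (x i') = if i = i' then 1 else 0)
    (hf : ∀ i y, (N : ℤ) ∣ f i (g y) - q * f i y) (V : Subgroup M.Group)
    (hV : ∀ v ∈ V, ∀ y, rep M.toCoxeterSystem hp.isCartan v (g y) = g (rep M.toCoxeterSystem hp.isCartan v y))
    {b : ℕ} (hb : p ^ b ∣ N ^ j * Nat.card V) (hG : ¬ p ^ (b + 1) ∣ Nat.card (fixedSubgroup m.σ))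
    {E : Subgroup ↥(D.group (KK r))} (hE : IsPGroup p E) (hσ : ∀ y ∈ E, m.σ y = y) : ∃ z, NFrame m E z g := by
  classical
  have hk := locFin r
  have H := tow (k := KK r) hp M.toCoxeterSystem hk r
  obtain ⟨n, hn⟩ := exists_rp M.toCoxeterSystem (tow (k := KK r) hp M.toCoxeterSystem hk r).nsys w0
  obtain ⟨z, hz⟩ := lang_all hp M.toCoxeterSystem m.he m.frob m.fr 1 n
  rw [map_one, one_mul] at hz
  obtain ⟨τ, hτdef⟩ : ∃ τ, τ = MulAut.conj (z⁻¹ * m.σ z) * m.σ := ⟨_, rfl⟩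
  have hgeq : g = m.g.trans (repAut M.toCoxeterSystem hp.isCartan w0) := by
    apply AddEquiv.ext
    intro y
    rw [hg]
    rfl
  have Fτ : Fr M.toCoxeterSystem hp.isCartan (TT D (KK r)) (XX D l (KK r)) τ g := by
    have h3 := Fr.conj H (w := w0) (g := n) hn
    rw [TL_eq hp hk, XL_eq hp hk] at h3
    have h4 := h3.mul m.fr
    rw [hτdef, hgeq, ← hz]
    exact h4
  have hτ : IsFrob r m.e τ := by
    rw [hτdef]
    exact m.frob.conj_mul _
  have hNT := dvd_card_NT hp m.he hτ Fτ hB hd hN f x hdual (by rw [m.hq]; exact hf) V hV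
  -- conjugate into the fixed points
  have hfix : ∀ u, τ u = u ↔ m.σ (z * u * z⁻¹) = z * u * z⁻¹ := fun u => by
    rw [hτdef]
    exact frame_fix
  have hfin := m.fin
  let c : ↥(NT hp r τ) →* ↥(fixedSubgroup m.σ) :=
    MonoidHom.codRestrict ((MulAut.conj z).toMonoidHom.comp (NT hp r τ).subtype) (fixedSubgroup m.σ)
      (fun u => (hfix _).1 u.2.2)
  have hc : Function.Injective c := by
    intro u u' h
    have h1 := congrArg (fun y : ↥(fixedSubgroup m.σ) => (y : ↥(D.group (KK r)))) h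
    exact Subtype.ext ((MulAut.conj z).injective h1)
  have hcard : Nat.card (c.range) = Nat.card (NT hp r τ) :=
    (Nat.card_congr (MonoidHom.ofInjective hc).toEquiv).symm
  have hEs : E ≤ fixedSubgroup m.σ := fun y hy => hσ y hy
  obtain ⟨y, hy⟩ := sylow_conj (N := c.range) (E := E.subgroupOf (fixedSubgroup m.σ)) (p := p) (b := b)
    (by rw [hcard]; exact hb.trans hNT) hG (hE.comap_subtype)
  have hyσ : m.σ (y : ↥(D.group (KK r))) = y := y.2
  refine ⟨y * z, ?_, fun u hu => ?_⟩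
  · have h1 : (y * z)⁻¹ * m.σ (y * z) = z⁻¹ * m.σ z := by
      rw [_root_.MulEquiv.map_mul, hyσ]
      group
    rw [h1, ← hτdef]
    exact Fτ
  · obtain ⟨a, ha⟩ := hy ⟨u, hEs hu⟩ (Subgroup.mem_subgroupOf.2 hu)
    have h1 : z * (a : ↥(D.group (KK r))) * z⁻¹ = (y : ↥(D.group (KK r)))⁻¹ * u * y :=
      congrArg (fun y : ↥(fixedSubgroup m.σ) => (y : ↥(D.group (KK r)))) ha
    obtain ⟨w, hw⟩ := a.2.1
    refine ⟨w, ?_⟩
    have h2 : (y * z : ↥(D.group (KK r)))⁻¹ * u * (y * z) = a := by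
      have : (y * z : ↥(D.group (KK r)))⁻¹ * u * (y * z) = z⁻¹ * ((y : ↥(D.group (KK r)))⁻¹ * u * y) * z := by group
      rw [this, ← h1]
      group
    rw [h2]
    exact hw

end Cfsg.Agent.H900.Fra
end

-- part: H900/Fra/Cmp
section
/-!
# The order of the fixed points of the Frobenius automorphism of `MData` (helper900)

* `conj_std` : `m.σ` is conjugate, by a torus element, to any automorphism with the same action on the roots;
* `card_fix_untw`, `card_fix_tw` : `|Y^σ|` divides `d * |D.group F|`, `d = gcd`, resp. `gcd (3, q + 1) * |²E₆(q)|`;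
* `card_F4` ... : the formulas.
-/

set_option autoImplicit false
set_option linter.dupNamespace false
set_option linter.unusedSectionVars false

namespace Cfsg.Agent.H900.Fra

open CoxeterSystem Cfsg Cfsg.Lie Cfsg.Lie.ChevalleyDatum
open Cfsg.Agent.ChevalleyStructure Cfsg.Agent.ChevalleyStructure.Elts Cfsg.Agent.ChevalleyStructure.CoxeterGeom
  Cfsg.Agent.ChevalleyStructure.CoxeterGeomTypes Cfsg.Agent.ChevalleyStructure.NPerm
open Cfsg.Agent.Tits.Roots Cfsg.Agent.Tits.Core Cfsg.Agent.Nodes Cfsg.Agent.Nodes.Reps Cfsg.Agent.Nodes.BNOf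
  Cfsg.Agent.Nodes.SubComb Cfsg.Agent.Nodes.RGDChev Cfsg.Agent.Nodes.Bruhat Cfsg.Agent.Nodes.Coroot
open Cfsg.Agent.KFacts.RgdField Cfsg.Agent.KFacts.RgdChevCoord
open Cfsg.Agent.BpExc Cfsg.Agent.BpExc.TorCent Cfsg.Agent.BpExc.TorChev Cfsg.Agent.BpExc.Tow
  Cfsg.Agent.BpExc.TowChev Cfsg.Agent.BpExc.Fr Cfsg.Agent.BpExc.LangFr Cfsg.Agent.GpExc.Field
open Cfsg.Agent.H469.Exc Cfsg.Agent.H469.Exc.SigFr Cfsg.Agent.H316.U6 Cfsg.Agent.H795.LangT
open Cfsg.Agent.H129.TorusChar Cfsg.Agent.H129.TorusUntw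
open Cfsg.Agent.ChevalleyStructure.TwE6Basic (sg rho rho_rho hE6)
open Cfsg.Agent.ChevalleyStructure.GraphSymm (symmE6)

universe v

/-! ### counting -/

theorem card_dvd_of_split {Y : Type*} [Group Y] [Finite Y] {R T : Subgroup Y} (hR : R.Normal)
    (h : ∀ y, ∃ a ∈ R, ∃ t ∈ T, y = a * t) {c n : ℕ} (hn : 0 < n) (hc : n ∣ Nat.card (R ⊓ T : Subgroup Y))
    (hT : Nat.card T ∣ n * c) : Nat.card Y ∣ c * Nat.card R := by
  let f : ↥T →* Y ⧸ R := (QuotientGroup.mk' R).comp T.subtype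
  have hf : Function.Surjective f := by
    intro z
    obtain ⟨y, rfl⟩ := QuotientGroup.mk'_surjective R z
    obtain ⟨a, ha, t, ht, rfl⟩ := h y
    refine ⟨⟨t, ht⟩, ?_⟩
    show QuotientGroup.mk' R t = QuotientGroup.mk' R (a * t)
    have h1 : QuotientGroup.mk' R a = 1 := by
      rw [← MonoidHom.mem_ker, QuotientGroup.ker_mk']
      exact ha
    rw [map_mul, h1, one_mul]
  have h1 := f.ker.card_mul_index
  rw [Subgroup.index_ker, MonoidHom.range_eq_top.2 hf, Nat.card_congr Subgroup.topEquiv.toEquiv] at h1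
  have h2 : n ∣ Nat.card f.ker := by
    refine hc.trans ?_
    let j : ↥(R ⊓ T : Subgroup Y) →* ↥f.ker :=
      { toFun := fun y => ⟨⟨y.1, y.2.2⟩, by
          rw [MonoidHom.mem_ker]
          show QuotientGroup.mk' R y.1 = 1
          rw [← MonoidHom.mem_ker, QuotientGroup.ker_mk']
          exact y.2.1⟩
        map_one' := rfl
        map_mul' := fun _ _ => rfl }
    exact Subgroup.card_dvd_of_injective j fun a b hab => Subtype.ext (congrArg (fun y : ↥f.ker => ((y : ↥T) : Y)) hab)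
  have h3 : Nat.card (Y ⧸ R) ∣ c := by
    have h4 : n * Nat.card (Y ⧸ R) ∣ n * c := by
      refine (mul_dvd_mul_right h2 _).trans ?_
      rw [h1]
      exact hT
    exact Nat.dvd_of_mul_dvd_mul_left hn h4
  have h5 := R.card_mul_index
  rw [← h5, mul_comm c]
  exact mul_dvd_mul_left _ h3

variable {D : ChevalleyDatum} {l : ℕ} {M : CoxeterMatrix (Fin l)} (hp : IsType D l M) {r : ℕ} [hr : Fact r.Prime]

/-- torus elements on root elements -/
theorem tor_xs {k : Type*} [Field k] {t : ↥(D.group k)} (ht : t ∈ TT D k) {s : ℕ} (hs : s < D.nroots) (u : k) :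
    t * xs hp.inList s u * t⁻¹ = xs hp.inList s (cX hp t (vec D l s) * u) := by
  have h1 := (act hp hs ht).2 u
  rw [← cX_vec hp ht hs] at h1
  have h2 : ∀ u : k, xs hp.inList s u = xc hp (vec D l s) u := fun u => by
    apply Subtype.ext
    rw [coe_xs, coe_xc hp hs]
  rw [h2, h2, h1]

variable {hp} {q : ℕ} {K₀ : Type v} [Group K₀]

/-- **The Frobenius automorphism is conjugate to a standard one.** -/
theorem conj_std (m : MData hp r q K₀) {d : ℕ} {B : Fin l → Fin l → ℤ} (hB : InvC D l d B) (hd : d ≠ 0)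
    {σ₀ : MulAut ↥(D.group (KK r))} {g₀ : (Fin l → ℤ) ≃+ (Fin l → ℤ)} (h₀ : IsFrob r m.e σ₀)
    (F₀ : Fr M.toCoxeterSystem hp.isCartan (TT D (KK r)) (XX D l (KK r)) σ₀ g₀)
    (hact : ∀ i : Fin l, ∃ s', vec D l s' = m.g (sr i) ∧ ActF hp.inList σ₀ q (D.simple i) s') :
    ∃ s ∈ TT D (KK r), ∀ y, m.σ y = s⁻¹ * σ₀ (s * y * s⁻¹) * s := by
  classical
  have hq0 : q ≠ 0 := by
    rw [← m.hq]
    exact pow_ne_zero _ (Fact.out : r.Prime).ne_zero
  have h1 : ∀ i : Fin l, ∃ s' < D.nroots, vec D l s' = m.g (sr i) ∧ ∃ c c' : KK r, c ≠ 0 ∧ c' ≠ 0 ∧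
      (∀ t, m.σ (xs hp.inList (D.simple i) t) = xs hp.inList s' (c * t ^ q)) ∧
      (∀ t, m.σ (xs hp.inList (D.neg (D.simple i)) t) = xs hp.inList (D.neg s') (c⁻¹ * t ^ q)) ∧
      (∀ t, σ₀ (xs hp.inList (D.simple i) t) = xs hp.inList s' (c' * t ^ q)) ∧
      (∀ t, σ₀ (xs hp.inList (D.neg (D.simple i)) t) = xs hp.inList (D.neg s') (c'⁻¹ * t ^ q)) := by
    intro i
    obtain ⟨s₁, hs₁, hlt₁, c, hc, h1, h2⟩ := m.act _ (simple_lt hp.inList (lt_rank hp i))
    obtain ⟨s₂, hs₂, hlt₂, c', hc', h3, h4⟩ := hact i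
    rw [vec_simple hp i] at hs₁
    obtain rfl : s₁ = s₂ := vec_inj hp hlt₁ hlt₂ (hs₁.trans hs₂.symm)
    exact ⟨s₁, hlt₁, hs₁, c, c', hc, hc', h1, h2, h3, h4⟩
  choose s hs hvec c c' hc hc' hσ hσn h₀σ h₀σn using h1
  have hχ : IsMC (fun x : Fin l → ℤ => ∏ i, (c i / c' i) ^ x i) :=
    IsMC.of_prod _ fun i => div_ne_zero (hc i) (hc' i)
  have hχi : ∀ i, (fun x : Fin l → ℤ => ∏ i, (c i / c' i) ^ x i) (sr i) = c i / c' i := by
    intro i
    show ∏ j, (c j / c' j) ^ (sr i : Fin l → ℤ) j = _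
    rw [Finset.prod_eq_single i]
    · rw [sr_self, zpow_one]
    · intro j _ hj
      rw [sr_ne hj, zpow_zero]
    · intro hi
      exact absurd (Finset.mem_univ i) hi
  obtain ⟨t, ht, hct⟩ := exists_cX hp hB hd (hχ.comp m.g.symm.toAddMonoidHom)
    (fun i => IsAlgClosed.exists_pow_nat_eq _ (Nat.pos_of_ne_zero hd))
  have hcti : ∀ i, cX hp t (vec D l (s i)) = c i / c' i := by
    intro i
    rw [hct, hvec]
    show (fun x : Fin l → ℤ => ∏ i, (c i / c' i) ^ x i) (m.g.symm (m.g (sr i))) = _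
    rw [AddEquiv.symm_apply_apply, hχi]
  have hkey : m.σ.toMonoidHom = (MulAut.conj t * σ₀).toMonoidHom := by
    refine H79.SimpleGen.hom_ext hp.inList _ _ ?_ ?_
    · intro i hi u
      have hil : i < l := by rwa [← hp.rank_eq]
      show m.σ (xs hp.inList (D.simple i) u) = t * σ₀ (xs hp.inList (D.simple i) u) * t⁻¹
      rw [hσ ⟨i, hil⟩, h₀σ ⟨i, hil⟩, tor_xs hp ht (hs _), hcti]
      congr 1
      have := hc' ⟨i, hil⟩
      field_simp
    · intro i hi u
      have hil : i < l := by rwa [← hp.rank_eq]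
      show m.σ (xs hp.inList (D.neg (D.simple i)) u) = t * σ₀ (xs hp.inList (D.neg (D.simple i)) u) * t⁻¹
      rw [hσn ⟨i, hil⟩, h₀σn ⟨i, hil⟩, tor_xs hp ht (neg_lt hp.inList (hs _)), vec_neg hp (hs _),
        (isMC_cX hp ht).neg, hcti]
      congr 1
      have h1 := hc' ⟨i, hil⟩
      have h2 := hc ⟨i, hil⟩
      field_simp
  obtain ⟨z, hz, e⟩ := lang_torus hp hB hd m.he h₀ F₀ ht
  refine ⟨z, hz, fun y => ?_⟩
  have h2 : m.σ y = t * σ₀ y * t⁻¹ := DFunLike.congr_fun hkey y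
  rw [h2, e, _root_.MulEquiv.map_mul, _root_.MulEquiv.map_mul, _root_.MulEquiv.map_inv]
  group

/-- the order of the fixed points -/
theorem card_fix_std (m : MData hp r q K₀) {d : ℕ} {B : Fin l → Fin l → ℤ} (hB : InvC D l d B) (hd : d ≠ 0)
    {σ₀ : MulAut ↥(D.group (KK r))} {g₀ : (Fin l → ℤ) ≃+ (Fin l → ℤ)} (h₀ : IsFrob r m.e σ₀)
    (F₀ : Fr M.toCoxeterSystem hp.isCartan (TT D (KK r)) (XX D l (KK r)) σ₀ g₀)
    (hact : ∀ i : Fin l, ∃ s', vec D l s' = m.g (sr i) ∧ ActF hp.inList σ₀ q (D.simple i) s') :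
    Nat.card (fixedSubgroup m.σ) = Nat.card (fixedSubgroup σ₀) := by
  obtain ⟨s, -, hs⟩ := conj_std m hB hd h₀ F₀ hact
  refine Nat.card_congr ⟨fun y => ⟨s * y * s⁻¹, ?_⟩, fun y => ⟨s⁻¹ * y * s, ?_⟩, fun y => ?_, fun y => ?_⟩
  · have h1 : m.σ y.1 = y.1 := y.2
    rw [hs] at h1
    show σ₀ (s * y.1 * s⁻¹) = s * y.1 * s⁻¹
    nth_rewrite 2 [← h1]
    group
  · have h1 : σ₀ y.1 = y.1 := y.2
    show m.σ (s⁻¹ * y.1 * s) = s⁻¹ * y.1 * s
    rw [hs]
    have e : s * (s⁻¹ * y.1 * s) * s⁻¹ = y.1 := by group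
    rw [e, h1]
  · apply Subtype.ext
    show s⁻¹ * (s * y.1 * s⁻¹) * s = y.1
    group
  · apply Subtype.ext
    show s * (s⁻¹ * y.1 * s) * s⁻¹ = y.1
    group

/-! ### untwisted -/

section untw

variable {k : Type} [Field k] [IsAlgClosed k] [CharP k r] {F : Type} [Field F] [Fintype F] {e : ℕ}

theorem phi_xs {s : ℕ} (hs : s < D.nroots) (t : k) :
    phi D k r e (xs hp.inList s t) = xs hp.inList s (1 * t ^ r ^ e) := by
  have h2 : ∀ u : k, xs hp.inList s u = xc hp (vec D l s) u := fun u => by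
    apply Subtype.ext
    rw [coe_xs, coe_xc hp hs]
  rw [h2, h2, phi_eq hp, TowChev.emb_xc, iterateFrobenius_def, one_mul]

theorem not_dvd_pred {r e : ℕ} (hr : r.Prime) (he : 0 < e) : ¬ r ∣ r ^ e - 1 := by
  intro h
  have h1 : r ∣ r ^ e := dvd_pow_self r he.ne'
  have h2 : 1 ≤ r ^ e := Nat.one_le_pow _ _ hr.pos
  have h3 := (Nat.dvd_sub_iff_right h2 h1).1 h
  exact hr.one_lt.ne' (Nat.dvd_one.1 h3)

variable (hp) in
include hp in
/-- `|Y^φ|`, `φ` the Frobenius automorphism -/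
theorem card_phi (f : F →+* k) (he : 0 < e) (hF : Fintype.card F = r ^ e)
    (hfin : Finite ↥(fixedSubgroup (phi D k r e))) {c : ℕ}
    (hc : c * Nat.card (D.diagonalSubgroup F) = (r ^ e - 1) ^ l) :
    Nat.card (fixedSubgroup (phi D k r e)) ∣ c * Nat.card (D.group F) := by
  classical
  have hrp : r.Prime := Fact.out
  have hq1 : r ^ e - 1 ≠ 0 := (Nat.sub_pos_of_lt (Nat.one_lt_pow he.ne' hrp.one_lt)).ne'
  have hdF : Nat.card (TT D F) = Nat.card (D.diagonalSubgroup F) :=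
    Nat.card_congr (Subgroup.subgroupOfEquivOfLe (diagonal_le_group hp.inList F)).toEquiv
  have : Finite ↥(D.group F) := inferInstance
  let e₀ : ↥(D.group F) →* ↥(fixedSubgroup (phi D k r e)) :=
    MonoidHom.codRestrict (emb hp.inList f) (fixedSubgroup (phi D k r e)) (fun x => phi_emb hp f hF x)
  have he₀ : Function.Injective e₀ := fun x y h =>
    emb_injective hp.inList f (congrArg (fun y : ↥(fixedSubgroup (phi D k r e)) => (y : ↥(D.group k))) h)
  have hR : e₀.range.Normal := by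
    constructor
    rintro _ ⟨x, rfl⟩ y
    obtain ⟨x', hx'⟩ := Emb.conj_mem_range (F := F) (hD := hp.inList) (f := f) (φ := iterateFrobenius k r e)
      (fun t => by rw [iterateFrobenius_def, hF]) (σ := phi D k r e) coe_phi y.2 (n := emb hp.inList f x) ⟨x, rfl⟩
    exact ⟨x', Subtype.ext hx'⟩
  have hcR : Nat.card e₀.range = Nat.card (D.group F) := (Nat.card_congr (MonoidHom.ofInjective he₀).toEquiv).symm
  rw [← hcR]
  refine card_dvd_of_split (T := (TT D k).subgroupOf (fixedSubgroup (phi D k r e))) hR ?_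
    (n := Nat.card (TT D F)) Nat.card_pos ?_ ?_
  · intro y
    obtain ⟨x, t, ht, e1⟩ := fix_split hp f hF (show phi D k r e y.1 = y.1 from y.2)
    have h1 : phi D k r e t = t := by
      have h2 : phi D k r e y.1 = y.1 := y.2
      rw [e1, map_mul, phi_emb hp f hF] at h2
      exact mul_left_cancel h2
    exact ⟨e₀ x, ⟨x, rfl⟩, ⟨t, h1⟩, ht, Subtype.ext e1⟩
  · let j : ↥(TT D F) →* ↥(e₀.range ⊓ (TT D k).subgroupOf (fixedSubgroup (phi D k r e)) :
        Subgroup ↥(fixedSubgroup (phi D k r e))) :=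
      MonoidHom.codRestrict (e₀.comp (TT D F).subtype) _ (fun x => ⟨⟨x.1, rfl⟩, emb_T hp f ⟨x.1, x.2, rfl⟩⟩)
    refine Subgroup.card_dvd_of_injective j fun a b hab => Subtype.ext (he₀ ?_)
    exact congrArg (fun y : ↥(e₀.range ⊓ (TT D k).subgroupOf (fixedSubgroup (phi D k r e)) :
        Subgroup ↥(fixedSubgroup (phi D k r e))) => y.1) hab
  · rw [hdF, mul_comm, hc]
    have hNk : ((r ^ e - 1 : ℕ) : k) ≠ 0 := by
      rw [Ne, CharP.cast_eq_zero_iff k r]
      exact not_dvd_pred hrp he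
    have : NeZero ((r ^ e - 1 : ℕ) : k) := ⟨hNk⟩
    have : NeZero (r ^ e - 1) := ⟨hq1⟩
    have h1 : Nat.card (Fin l → rootsOfUnity (r ^ e - 1) k) = (r ^ e - 1) ^ l := by
      rw [Nat.card_fun, HasEnoughRootsOfUnity.natCard_rootsOfUnity, Nat.card_eq_fintype_card, Fintype.card_fin]
    rw [← h1]
    have hv : ∀ t : ↥((TT D k).subgroupOf (fixedSubgroup (phi D k r e))), ∀ i,
        cX hp t.1.1 (sr i) ^ (r ^ e - 1) = 1 := by
      intro t i
      have h2 := cX_sigma hp M.toCoxeterSystem isFrob_phi (fr_phi (p := r) (e := e) hp M.toCoxeterSystem) t.2 (sr i)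
      have h3 : phi D k r e t.1.1 = t.1.1 := t.1.2
      rw [show phi D k r e ((fixedSubgroup (phi D k r e)).subtype t.1) = t.1.1 from h3] at h2
      have h4 := (isMC_cX hp (show t.1.1 ∈ TT D k from t.2)).ne_zero (sr i)
      have h5 : cX hp t.1.1 (sr i) * cX hp t.1.1 (sr i) ^ (r ^ e - 1) = cX hp t.1.1 (sr i) := by
        rw [← pow_succ', Nat.sub_add_cancel (Nat.one_le_pow _ _ hrp.pos)]
        exact h2.symm
      exact (mul_eq_left₀ h4).1 h5
    let ψ : ↥((TT D k).subgroupOf (fixedSubgroup (phi D k r e))) →* (Fin l → rootsOfUnity (r ^ e - 1) k) :=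
      { toFun := fun t i => ⟨Units.mk0 (cX hp t.1.1 (sr i)) ((isMC_cX hp t.2).ne_zero _),
          (mem_rootsOfUnity _ _).2 (Units.ext (hv t i))⟩
        map_one' := by
          funext i
          exact Subtype.ext (Units.ext (cX_one hp _))
        map_mul' := fun s t => by
          funext i
          exact Subtype.ext (Units.ext (cX_mul hp s.2 t.2 _)) }
    refine Subgroup.card_dvd_of_injective ψ fun s t h => Subtype.ext (Subtype.ext ?_)
    refine cX_inj hp s.2 t.2 fun i => ?_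
    have h2 := congrFun h i
    exact congrArg (fun z : rootsOfUnity (r ^ e - 1) k => ((z : kˣ) : k)) h2

end untw

/-- **`|Y^σ|`, untwisted** -/
theorem card_fix_untw (m : MData hp r q K₀) {d : ℕ} {B : Fin l → Fin l → ℤ} (hB : InvC D l d B) (hd : d ≠ 0)
    (hg : m.g = AddEquiv.refl _) {c n : ℕ}
    (hc : ∀ (F : Type) [Field F] [Fintype F], Fintype.card F = q → c * Nat.card (D.diagonalSubgroup F) = (q - 1) ^ l)
    (hn : ∀ (F : Type) [Field F] [Fintype F], Fintype.card F = q → c * Nat.card (D.group F) = n) :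
    Nat.card (fixedSubgroup m.σ) ∣ n := by
  classical
  have he := m.he
  let F := GaloisField r m.e
  have : Fintype F := Fintype.ofFinite F
  have hF : Fintype.card F = r ^ m.e := by
    rw [← Nat.card_eq_fintype_card]
    exact GaloisField.card r m.e he.ne'
  obtain ⟨f⟩ := RowsUntw.exists_emb r F
  have hcard := card_fix_std m hB hd (σ₀ := phi D (KK r) r m.e) isFrob_phi (fr_phi hp M.toCoxeterSystem) (by
    intro i
    refine ⟨D.simple i, by rw [vec_simple hp i, hg]; rfl, simple_lt hp.inList (lt_rank hp i), 1, one_ne_zero, ?_, ?_⟩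
    · intro t
      rw [phi_xs (hp := hp) (simple_lt hp.inList (lt_rank hp i)), m.hq]
    · intro t
      rw [phi_xs (hp := hp) (_root_.Cfsg.Agent.ChevalleyStructure.NPerm.neg_lt hp.inList (simple_lt hp.inList (lt_rank hp i))), m.hq, inv_one])
  have hfin : Finite ↥(fixedSubgroup (phi D (KK r) r m.e)) := by
    have := m.fin
    refine Nat.finite_of_card_ne_zero ?_
    rw [← hcard]
    exact Nat.card_pos.ne'
  rw [hcard, ← hn F (by rw [hF, m.hq])]
  exact card_phi hp f he hF hfin (by rw [hc F (by rw [hF, m.hq]), m.hq])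

/-! ### twisted -/

section tw

open Cfsg.Agent.H129.TwE6Fr

variable {k : Type} [Field k] [IsAlgClosed k] [CharP k r] {F : Type} [Field F] [Fintype F] {e : ℕ}

theorem tau_actF (s : Fin chevE6.nroots) :
    ActF Nodes.RGDTwE6.hp.inList (tau k r e) (r ^ e) s (symmE6.σ s) :=
  actF_symm_fld symmE6 (γ := gam k) Nodes.RGDTwE6.hp.inList (fun _ => rfl) (Φ := iterateFrobeniusEquiv k r e)
    (q := r ^ e) (fun a => by rw [coe_iterateFrobeniusEquiv, iterateFrobenius_def]) s

/-- `|Y^τ|`, `τ` the twisted Frobenius automorphism -/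
theorem card_tau (f : F →+* k) (he : 0 < e) {q : ℕ} (hqe : q = r ^ e) (hF : Fintype.card F = q ^ 2)
    (hfin : Finite ↥(fixedSubgroup (tau k r e))) :
    Nat.card (fixedSubgroup (tau k r e)) ∣ Nat.gcd 3 (q + 1) * Nat.card (twistedE6 F q) := by
  classical
  have hrp : r.Prime := Fact.out
  have hq : IsPrimePow q := by
    rw [hqe]
    exact hrp.isPrimePow.pow he.ne'
  have hY : Finite ↥(twistedE6 F q) := inferInstance
  let e₀ : ↥(twistedE6 F q) →* ↥(fixedSubgroup (tau k r e)) :=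
    MonoidHom.codRestrict (embT f hq hF) (fixedSubgroup (tau k r e)) (fun x => tau_embT f hqe hq hF x)
  have he₀ : Function.Injective e₀ := fun x y h =>
    embT_injective f hq hF (congrArg (fun y : ↥(fixedSubgroup (tau k r e)) => (y : ↥(chevE6.group k))) h)
  have hR : e₀.range.Normal := by
    constructor
    rintro _ ⟨x, rfl⟩ y
    obtain ⟨x', hx'⟩ := tau_normal f hqe hq hF (g := y.1) y.2 (y := embT f hq hF x) ⟨x, rfl⟩
    exact ⟨x', Subtype.ext hx'⟩
  have hcR : Nat.card e₀.range = Nat.card (twistedE6 F q) :=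
    (Nat.card_congr (MonoidHom.ofInjective he₀).toEquiv).symm
  rw [← hcR]
  have hpos : 0 < Nat.card ↥(chevE6.diagonalSubgroup F ⊓ twistedE6 F q) := Nat.card_pos
  refine card_dvd_of_split (T := (TT chevE6 k).subgroupOf (fixedSubgroup (tau k r e))) hR ?_ hpos ?_ ?_
  · intro y
    obtain ⟨x, t, ht, h1, e1⟩ := tau_split f hqe hq hF (show tau k r e y.1 = y.1 from y.2)
    exact ⟨e₀ x, ⟨x, rfl⟩, ⟨t, h1⟩, ht, Subtype.ext e1⟩
  · let j : ↥(chevE6.diagonalSubgroup F ⊓ twistedE6 F q) →*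
        ↥(e₀.range ⊓ (TT chevE6 k).subgroupOf (fixedSubgroup (tau k r e)) :
        Subgroup ↥(fixedSubgroup (tau k r e))) :=
      MonoidHom.codRestrict (e₀.comp
        (Subgroup.inclusion (inf_le_right : chevE6.diagonalSubgroup F ⊓ twistedE6 F q ≤ twistedE6 F q))) _
        (fun x => ⟨⟨_, rfl⟩,
          emb_T RGDTwE6.hp f ⟨Subgroup.inclusion (tw_le hq hF) ⟨x.1, x.2.2⟩, x.2.1, rfl⟩⟩)
    refine Subgroup.card_dvd_of_injective j fun a b hab => ?_
    have h1 : e₀ ⟨a.1, a.2.2⟩ = e₀ ⟨b.1, b.2.2⟩ :=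
      congrArg (fun y : ↥(e₀.range ⊓ (TT chevE6 k).subgroupOf (fixedSubgroup (tau k r e)) :
        Subgroup ↥(fixedSubgroup (tau k r e))) => y.1) hab
    have h2 := congrArg Subtype.val (he₀ h1)
    exact Subtype.ext h2
  · have hA := card_Tfix (p := r) (e := e) hqe hq hF f
    have hB := Cfsg.Agent.S1102.result hq hF
    rw [mul_comm, hB, ← hA]
    let j : ↥((TT chevE6 k).subgroupOf (fixedSubgroup (tau k r e))) →* ↥(Tfix k r e) :=
      { toFun := fun t => ⟨t.1.1, t.2, t.1.2⟩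
        map_one' := rfl
        map_mul' := fun _ _ => rfl }
    exact Subgroup.card_dvd_of_injective j fun a b hab =>
      Subtype.ext (Subtype.ext (congrArg (fun y : ↥(Tfix k r e) => (y : ↥(chevE6.group k))) hab))

end tw

/-- **`|Y^σ|`, twisted** -/
theorem card_fix_tw {r : ℕ} [Fact r.Prime] {q : ℕ} {K₀ : Type v} [Group K₀] (m : MData Nodes.RGDTwE6.hp r q K₀)
    (hg : m.g = H720.TwFr.permE H720.TwFr.rho6) :
    Nat.card (fixedSubgroup m.σ) ∣
      q ^ 36 * (q ^ 2 - 1) * (q ^ 5 + 1) * (q ^ 6 - 1) * (q ^ 8 - 1) * (q ^ 9 + 1) * (q ^ 12 - 1) := by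
  classical
  have hrp : r.Prime := Fact.out
  have he := m.he
  let F := GaloisField r (m.e * 2)
  have : Fintype F := Fintype.ofFinite F
  have hF : Fintype.card F = q ^ 2 := by
    rw [← m.hq, ← pow_mul, ← Nat.card_eq_fintype_card]
    exact GaloisField.card r (m.e * 2) (Nat.mul_pos he (by norm_num)).ne'
  have hq : IsPrimePow q := by
    rw [← m.hq]
    exact hrp.isPrimePow.pow he.ne'
  obtain ⟨f⟩ := RowsUntw.exists_emb r F
  have hcard := card_fix_std m invC_E6 (by norm_num) (σ₀ := H129.TwE6Fr.tau (KK r) r m.e) H129.TwE6Fr.isFrob_tau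
    (H129.TwE6Fr.fr_tau CoxeterMatrix.E₆.toCoxeterSystem) (by
    intro i
    have h1 : chevE6.simple i < chevE6.nroots := H720.TwFr.simple_lt6 i
    refine ⟨symmE6.σ ⟨chevE6.simple i, h1⟩, ?_, ?_⟩
    · rw [H720.TwFr.vecPerm6.vec, hg, ← vec_simple Nodes.RGDTwE6.hp i]
    · have h2 := tau_actF (k := KK r) (r := r) (e := m.e) ⟨chevE6.simple i, h1⟩
      rwa [m.hq] at h2)
  have hfin : Finite ↥(fixedSubgroup (H129.TwE6Fr.tau (KK r) r m.e)) := by
    have := m.fin
    refine Nat.finite_of_card_ne_zero ?_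
    rw [← hcard]
    exact Nat.card_pos.ne'
  rw [hcard, ← Cfsg.Agent.S1066.result hq hF]
  exact card_tau f he m.hq.symm hF hfin

/-! ### the formulas -/

section formulas

variable {r : ℕ} [Fact r.Prime] {q : ℕ} {K₀ : Type v} [Group K₀]

theorem card_F4 {M : CoxeterMatrix (Fin 4)} {hp : IsType chevF4 4 M} (m : MData hp r q K₀)
    (hg : m.g = AddEquiv.refl _) :
    Nat.card (fixedSubgroup m.σ) ∣ q ^ 24 * (q ^ 2 - 1) * (q ^ 6 - 1) * (q ^ 8 - 1) * (q ^ 12 - 1) :=
  card_fix_untw m invC_F4 (by norm_num) hg (c := 1)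
    (fun F _ _ hF => S1035.result hF (chevF4, 1) (by simp only [_root_.List.mem_cons, _root_.Prod.mk.injEq, _root_.and_true, _root_.List.not_mem_nil, _root_.or_false, _root_.true_or, _root_.or_true]))
    (fun F _ _ hF => by rw [one_mul]; exact S1062.result hF)

theorem card_E6 {M : CoxeterMatrix (Fin 6)} {hp : IsType chevE6 6 M} (m : MData hp r q K₀)
    (hg : m.g = AddEquiv.refl _) :
    Nat.card (fixedSubgroup m.σ) ∣
      q ^ 36 * (q ^ 2 - 1) * (q ^ 5 - 1) * (q ^ 6 - 1) * (q ^ 8 - 1) * (q ^ 9 - 1) * (q ^ 12 - 1) :=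
  card_fix_untw m invC_E6 (by norm_num) hg (c := Nat.gcd 3 (q - 1))
    (fun F _ _ hF => S1035.result hF (chevE6, Nat.gcd 3 (q - 1)) (by simp only [_root_.List.mem_cons, _root_.Prod.mk.injEq, _root_.List.not_mem_nil, _root_.or_false, _root_.true_or, _root_.or_true]))
    (fun F _ _ hF => S1063.result hF)

theorem card_E7 {M : CoxeterMatrix (Fin 7)} {hp : IsType chevE7 7 M} (m : MData hp r q K₀)
    (hg : m.g = AddEquiv.refl _) :
    Nat.card (fixedSubgroup m.σ) ∣
      q ^ 63 * (q ^ 2 - 1) * (q ^ 6 - 1) * (q ^ 8 - 1) * (q ^ 10 - 1) * (q ^ 12 - 1) * (q ^ 14 - 1) * (q ^ 18 - 1) :=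
  card_fix_untw m invC_E7 (by norm_num) hg (c := Nat.gcd 2 (q - 1))
    (fun F _ _ hF => S1035.result hF (chevE7, Nat.gcd 2 (q - 1)) (by simp only [_root_.List.mem_cons, _root_.Prod.mk.injEq, _root_.Nat.coprime_two_left, _root_.and_true, _root_.List.not_mem_nil, _root_.or_false, _root_.true_or, _root_.or_true]))
    (fun F _ _ hF => S1064.result hF)

theorem card_E8 {M : CoxeterMatrix (Fin 8)} {hp : IsType chevE8 8 M} (m : MData hp r q K₀)
    (hg : m.g = AddEquiv.refl _) :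
    Nat.card (fixedSubgroup m.σ) ∣
      q ^ 120 * (q ^ 2 - 1) * (q ^ 8 - 1) * (q ^ 12 - 1) * (q ^ 14 - 1) * (q ^ 18 - 1) * (q ^ 20 - 1) *
        (q ^ 24 - 1) * (q ^ 30 - 1) :=
  card_fix_untw m invC_E8 (by norm_num) hg (c := 1)
    (fun F _ _ hF => S1035.result hF (chevE8, 1) (by simp only [_root_.List.mem_cons, _root_.Prod.mk.injEq, _root_.and_true, _root_.List.not_mem_nil, _root_.or_false, _root_.true_or, _root_.or_true]))
    (fun F _ _ hF => by rw [one_mul]; exact S1065.result hF)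

end formulas

end Cfsg.Agent.H900.Fra
end

-- part: H900/Fra/Rows
section
/-!
# S2187, X4, M1: frames of the `p`-subgroups of `Y^σ` (helper900)

`m : MData hp r q K₀`, `E ≤ Y` a `p`-subgroup fixed by `m.σ`:

* `F4_three`, `E7_three`, `E8_three` : `p = 3`, `m.g = refl`, `3 ∣ q - ε` : a frame with `g = ε`;
* `E6_matched`, `TE6_matched` : `E₆`, `3 ∣ q - 1`, `g = 1`;  `²E₆`, `3 ∣ q + 1`, `g = -1`;
* `E6_unmatched`, `TE6_unmatched` : `E₆`, `3 ∣ q + 1`, `g = - rho6`; `²E₆`, `3 ∣ q - 1`, `g = rho6`;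
* `E8_five` : `p = 5`, `5 ∣ q - ε`, `g = ε`;  `E8_five_sq` : `5 ∣ q ^ 2 + 1`, `g ^ 2 = -1`.

In all of them `g` is any additive automorphism with the given values.
-/

set_option autoImplicit false
set_option linter.dupNamespace false
set_option linter.unusedSectionVars false

namespace Cfsg.Agent.H900.Fra

open CoxeterSystem Cfsg Cfsg.Lie Cfsg.Lie.ChevalleyDatum
open Cfsg.Agent.ChevalleyStructure Cfsg.Agent.ChevalleyStructure.Elts Cfsg.Agent.ChevalleyStructure.CoxeterGeom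
  Cfsg.Agent.ChevalleyStructure.CoxeterGeomTypes Cfsg.Agent.ChevalleyStructure.NPerm
open Cfsg.Agent.Tits.Roots Cfsg.Agent.Tits.Core Cfsg.Agent.Nodes Cfsg.Agent.Nodes.Reps Cfsg.Agent.Nodes.BNOf
  Cfsg.Agent.Nodes.SubComb Cfsg.Agent.Nodes.RGDChev Cfsg.Agent.Nodes.Bruhat Cfsg.Agent.Nodes.Coroot
open Cfsg.Agent.KFacts.RgdField Cfsg.Agent.KFacts.RgdChevCoord
open Cfsg.Agent.BpExc Cfsg.Agent.BpExc.TorCent Cfsg.Agent.BpExc.TorChev Cfsg.Agent.BpExc.Tow
  Cfsg.Agent.BpExc.TowChev Cfsg.Agent.BpExc.Fr Cfsg.Agent.BpExc.LangFr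
open Cfsg.Agent.H469.Exc Cfsg.Agent.H316.U6 Cfsg.Agent.H818.Mono Cfsg.Agent.H795.LangT
open Cfsg.Agent.H129.TorusChar Cfsg.Agent.H720.TwFr

universe v

/-! ### valuations -/

section Arith

variable {p : ℕ} [hp : Fact p.Prime]

/-- the `p`-part of `n ≠ 0` is `p ^ a` -/
def Vp (p n a : ℕ) : Prop := n ≠ 0 ∧ padicValNat p n = a

theorem Vp.mul {n m a b : ℕ} (h : Vp p n a) (h' : Vp p m b) : Vp p (n * m) (a + b) :=
  ⟨mul_ne_zero h.1 h'.1, by rw [padicValNat.mul h.1 h'.1, h.2, h'.2]⟩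

theorem Vp.not_dvd {n a : ℕ} (h : Vp p n a) : ¬ p ^ (a + 1) ∣ n := by
  rw [padicValNat_dvd_iff_le h.1, h.2]
  omega

theorem Vp.dvd {n a : ℕ} (h : Vp p n a) : p ^ a ∣ n := by
  rw [padicValNat_dvd_iff_le h.1, h.2]

theorem Vp.of_ne {n : ℕ} (h : n ≠ 0) : Vp p n (padicValNat p n) := ⟨h, rfl⟩

theorem Vp.zero {n : ℕ} (h : ¬ p ∣ n) : Vp p n 0 :=
  ⟨fun h0 => h (by rw [h0]; exact dvd_zero p), padicValNat.eq_zero_of_not_dvd h⟩

theorem Vp.pow_zero {n : ℕ} (h : ¬ p ∣ n) (k : ℕ) : Vp p (n ^ k) 0 :=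
  Vp.zero fun h1 => h (hp.out.dvd_of_dvd_pow h1)

theorem not_dvd_of_pred {q : ℕ} (hq : 1 ≤ q) (h : p ∣ q - 1) : ¬ p ∣ q := fun h1 => by
  have h2 := (Nat.dvd_sub_iff_right hq h1).1 h
  exact hp.out.one_lt.ne' (Nat.dvd_one.1 h2)

theorem not_dvd_of_succ {q : ℕ} (h : p ∣ q + 1) : ¬ p ∣ q := fun h1 => by
  have h2 := (Nat.dvd_add_right h1).1 h
  exact hp.out.one_lt.ne' (Nat.dvd_one.1 h2)

/-- `q ^ n - 1`, `p ∣ q - 1` -/
theorem Vp.sub {q v : ℕ} (hp2 : Odd p) (hq : 1 < q) (h : p ∣ q - 1) (hv : Vp p (q - 1) v) {n c : ℕ} (hn : n ≠ 0)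
    (hc : padicValNat p n = c) : Vp p (q ^ n - 1) (v + c) := by
  refine ⟨(Nat.sub_pos_of_lt (Nat.one_lt_pow hn hq)).ne', ?_⟩
  have h1 := padicValNat.pow_sub_pow hp2 hq h (not_dvd_of_pred hq.le h) hn
  rw [one_pow] at h1
  rw [h1, hv.2, hc]

/-- `q ^ (2 n) - 1`, `p ∣ q + 1` -/
theorem Vp.even {q v : ℕ} (hp2 : Odd p) (hq : 1 < q) (h : p ∣ q + 1) (hv : Vp p (q + 1) v) {n m c : ℕ} (hm : m = 2 * n)
    (hn : n ≠ 0) (hc : padicValNat p n = c) : Vp p (q ^ m - 1) (v + c) := by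
  have h2 : q ^ 2 - 1 = (q + 1) * (q - 1) := by
    have := Nat.sq_sub_sq q 1
    rwa [one_pow] at this
  have h3 : ¬ p ∣ q - 1 := fun h3 => by
    have h4 : p ∣ 2 := by
      have h5 : q + 1 = (q - 1) + 2 := by omega
      rw [h5] at h
      exact (Nat.dvd_add_right h3).1 h
    have h5 := (Nat.prime_dvd_prime_iff_eq hp.out Nat.prime_two).1 h4
    rw [h5] at hp2
    exact absurd hp2 (by decide)
  have h4 : Vp p (q ^ 2 - 1) v := by
    rw [h2]
    have := hv.mul (Vp.zero h3)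
    rwa [add_zero] at this
  rw [hm, pow_mul]
  exact Vp.sub hp2 (Nat.one_lt_pow (by norm_num) hq) (by rw [h2]; exact h.mul_right _) h4 hn hc

/-- `q ^ n + 1`, `p ∣ q + 1`, `n` odd -/
theorem Vp.add {q v : ℕ} (hp2 : Odd p) (h : p ∣ q + 1) (hv : Vp p (q + 1) v) {n c : ℕ} (hn : Odd n)
    (hc : padicValNat p n = c) : Vp p (q ^ n + 1) (v + c) := by
  refine ⟨Nat.succ_ne_zero _, ?_⟩
  have h1 := padicValNat.pow_add_pow (p := p) (x := q) (y := 1) hp2 h (not_dvd_of_succ h) hn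
  rw [one_pow] at h1
  rw [h1, hv.2, hc]

/-- `q ^ n - 1`, `p ∣ q + 1`, `n` odd -/
theorem Vp.odd {q : ℕ} (hp2 : Odd p) (hq : 1 < q) (h : p ∣ q + 1) {n : ℕ} (hn : Odd n) : Vp p (q ^ n - 1) 0 := by
  refine Vp.zero fun h1 => ?_
  have h2 : (p : ℤ) ∣ (q : ℤ) ^ n + 1 := by
    have h3 : (q : ℤ) + 1 ∣ (q : ℤ) ^ n + 1 := by
      have := Odd.add_dvd_pow_add_pow (q : ℤ) 1 hn
      rwa [one_pow] at this
    refine dvd_trans ?_ h3
    exact_mod_cast h
  have h3 : (p : ℤ) ∣ (q : ℤ) ^ n - 1 := by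
    have h4 : ((q ^ n - 1 : ℕ) : ℤ) = (q : ℤ) ^ n - 1 := by
      rw [Nat.cast_sub (Nat.one_le_pow _ _ (by omega)), Nat.cast_pow, Nat.cast_one]
    rw [← h4]
    exact_mod_cast h1
  have h4 : (p : ℤ) ∣ 2 := by
    have := dvd_sub h2 h3
    have e : (q : ℤ) ^ n + 1 - ((q : ℤ) ^ n - 1) = 2 := by ring
    rwa [e] at this
  have h5 : p ∣ 2 := by exact_mod_cast h4
  have h6 := (Nat.prime_dvd_prime_iff_eq hp.out Nat.prime_two).1 h5
  rw [h6] at hp2
  exact absurd hp2 (by decide)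

/-- `q ^ n + 1`, `p ∣ q - 1` -/
theorem Vp.plus {q : ℕ} (hp2 : Odd p) (hq : 1 < q) (h : p ∣ q - 1) (n : ℕ) : Vp p (q ^ n + 1) 0 := by
  refine Vp.zero fun h1 => ?_
  have h2 : p ∣ q ^ n - 1 := by
    have h3 := Nat.sub_dvd_pow_sub_pow q 1 n
    rw [one_pow] at h3
    exact h.trans h3
  have h3 : q ^ n + 1 = (q ^ n - 1) + 2 := by
    have := Nat.one_le_pow n q (by omega)
    omega
  rw [h3] at h1
  have h5 := (Nat.dvd_add_right h2).1 h1
  have h6 := (Nat.prime_dvd_prime_iff_eq hp.out Nat.prime_two).1 h5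
  rw [h6] at hp2
  exact absurd hp2 (by decide)

/-- `q ^ (4 n) - 1`, `p ∣ q ^ 2 + 1` -/
theorem Vp.four {q v : ℕ} (hp2 : Odd p) (hq : 1 < q) (h : p ∣ q ^ 2 + 1) (hv : Vp p (q ^ 2 + 1) v) {n m c : ℕ}
    (hm : m = 4 * n) (hn : n ≠ 0) (hc : padicValNat p n = c) : Vp p (q ^ m - 1) (v + c) := by
  have h1 : q ^ m = (q ^ 2) ^ (2 * n) := by
    rw [hm, ← pow_mul]
    congr 1
    ring
  rw [h1]
  exact Vp.even hp2 (Nat.one_lt_pow (by norm_num) hq) h hv rfl hn hc

/-- `q ^ (4 n + 2) - 1`, `p ∣ q ^ 2 + 1` -/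
theorem Vp.two {q : ℕ} (hp2 : Odd p) (hq : 1 < q) (h : p ∣ q ^ 2 + 1) {n m : ℕ} (hm : m = 2 * (2 * n + 1)) :
    Vp p (q ^ m - 1) 0 := by
  rw [hm, pow_mul]
  exact Vp.odd hp2 (Nat.one_lt_pow (by norm_num) hq) h (odd_two_mul_add_one n)

end Arith

/-- the basis vectors, computable -/
def toFnBas {l : ℕ} (i : Fin l) : Fin l → ℤ := fun j => if j = i then 1 else 0

theorem sr_toFnBas {l : ℕ} (i : Fin l) : (sr i : Fin l → ℤ) = toFnBas i := by
  funext j
  unfold toFnBas
  by_cases h : j = i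
  · rw [if_pos h, h, sr_self]
  · rw [if_neg h, sr_ne h]

/-! ### the general rows -/

section Rows

variable {D : ChevalleyDatum} {l : ℕ} {M : CoxeterMatrix (Fin l)} {hp : IsType D l M} {r : ℕ} [hr : Fact r.Prime]
  {q : ℕ} {K₀ : Type v} [Group K₀]

theorem MData_one_lt (m : MData hp r q K₀) : 1 < q := by
  rw [← m.hq]
  exact Nat.one_lt_pow m.he.ne' hr.out.one_lt

theorem MData_dvd (m : MData hp r q K₀) : r ∣ q := by
  rw [← m.hq]
  exact dvd_pow_self r m.he.ne'

/-- `N` with `N = q - ε` is prime to `r` -/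
theorem not_dvd_N (m : MData hp r q K₀) {ε : ℤ} (hε : ε = 1 ∨ ε = -1) {N : ℕ} (hN : (N : ℤ) = q - ε) : ¬ r ∣ N := by
  intro h
  have h1 : (r : ℤ) ∣ (N : ℤ) := by exact_mod_cast h
  have h2 : (r : ℤ) ∣ (q : ℤ) := by exact_mod_cast MData_dvd m
  rw [hN] at h1
  have h3 : (r : ℤ) ∣ ε := by
    have := dvd_sub h2 h1
    rwa [sub_sub_cancel] at this
  have h4 : (r : ℤ) ∣ 1 := by
    rcases hε with rfl | rfl
    · exact h3
    · exact (dvd_neg.1 h3)
  exact hr.out.one_lt.ne' (Nat.dvd_one.1 (by exact_mod_cast h4))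

/-- `g = ± 1` -/
theorem frame_pm (m : MData hp r q K₀) {p : ℕ} [Fact p.Prime] {d : ℕ} {B : Fin l → Fin l → ℤ} (hB : InvC D l d B)
    (hd : d ≠ 0) {ε : ℤ} (hε : ε = 1 ∨ ε = -1) (w0 : M.Group)
    (hw0 : ∀ y, rep M.toCoxeterSystem hp.isCartan w0 (m.g y) = ε • y) {N : ℕ} (hN : (N : ℤ) = q - ε)
    {g : (Fin l → ℤ) ≃+ (Fin l → ℤ)} (hg : ∀ y, g y = ε • y) {v c n : ℕ} (hv : p ^ v ∣ N)
    (hc : p ^ c ∣ Nat.card M.Group) (hG : Nat.card (fixedSubgroup m.σ) ∣ n) (hn : ¬ p ^ (l * v + c + 1) ∣ n)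
    {E : Subgroup ↥(D.group (KK r))} (hE : IsPGroup p E) (hσ : ∀ y ∈ E, m.σ y = y) : ∃ z, NFrame m E z g := by
  refine exists_frame m hB hd w0 (j := l) (N := N) (fun y => by rw [hg, hw0]) (not_dvd_N m hε hN)
    (fun i => Pi.evalAddMonoidHom (fun _ => ℤ) i) (fun i => sr i) ?_ ?_ ⊤ ?_ (b := l * v + c) ?_
    (fun h => hn (h.trans hG)) hE hσ
  · intro i i'
    show (sr i' : Fin l → ℤ) i = _
    by_cases h : i = i'
    · rw [if_pos h, h, sr_self]
    · rw [if_neg h, sr_ne h]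
  · intro i y
    show (N : ℤ) ∣ g y i - q * y i
    rw [hg]
    refine ⟨-y i, ?_⟩
    show ε * y i - q * y i = N * -y i
    rw [hN]
    ring
  · intro v _ y
    rw [hg, hg, map_zsmul]
  · rw [pow_add, mul_comm l v, pow_mul, Nat.card_congr Subgroup.topEquiv.toEquiv]
    exact mul_dvd_mul (pow_dvd_pow_of_dvd hv l) hc

/-- `m.g = 1`, `-1 ∈ W`, `g = ± 1` -/
theorem frame_refl (m : MData hp r q K₀) {p : ℕ} [Fact p.Prime] {d : ℕ} {B : Fin l → Fin l → ℤ} (hB : InvC D l d B)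
    (hd : d ≠ 0) (hm : m.g = AddEquiv.refl _) (hneg : ∃ w : M.Group, ∀ x, rep M.toCoxeterSystem hp.isCartan w x = -x)
    {ε : ℤ} (hε : ε = 1 ∨ ε = -1) (hpε : (p : ℤ) ∣ q - ε)
    {g : (Fin l → ℤ) ≃+ (Fin l → ℤ)} (hg : ∀ y, g y = ε • y) {c n : ℕ}
    (hc : p ^ c ∣ Nat.card M.Group) (hG : Nat.card (fixedSubgroup m.σ) ∣ n)
    (h1 : ∀ v, p ∣ q - 1 → Vp p (q - 1) v → Vp p n (l * v + c))
    (h2 : ∀ v, p ∣ q + 1 → Vp p (q + 1) v → Vp p n (l * v + c))
    {E : Subgroup ↥(D.group (KK r))} (hE : IsPGroup p E) (hσ : ∀ y ∈ E, m.σ y = y) : ∃ z, NFrame m E z g := by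
  have hq := MData_one_lt m
  rcases hε with rfl | rfl
  · have e : ((q - 1 : ℕ) : ℤ) = q - 1 := by
      rw [Nat.cast_sub hq.le, Nat.cast_one]
    have hd1 : p ∣ q - 1 := by
      rw [← e] at hpε
      exact_mod_cast hpε
    have h3 := h1 _ hd1 (Vp.of_ne (Nat.sub_pos_of_lt hq).ne')
    exact frame_pm m hB hd (Or.inl rfl) 1 (fun y => by
      rw [map_one, Module.End.one_apply, hm, one_smul]; rfl) e hg pow_padicValNat_dvd hc hG h3.not_dvd hE hσ
  · have e : ((q + 1 : ℕ) : ℤ) = q - (-1) := by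
      rw [Nat.cast_add, Nat.cast_one, sub_neg_eq_add]
    have hd1 : p ∣ q + 1 := by
      rw [← e] at hpε
      exact_mod_cast hpε
    have h3 := h2 _ hd1 (Vp.of_ne (Nat.succ_ne_zero q))
    obtain ⟨w0, hw0⟩ := hneg
    exact frame_pm m hB hd (Or.inr rfl) w0 (fun y => by
      rw [hw0, hm, neg_smul, one_smul]; rfl) e hg pow_padicValNat_dvd hc hG h3.not_dvd hE hσ

end Rows

/-! ### `F₄`, `E₇`, `E₈`, and `p = 5`, `E₈` -/

section Inst

variable {r : ℕ} [hr : Fact r.Prime] {q : ℕ} {K₀ : Type v} [Group K₀]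

/-- `F₄`, `p = 3` -/
theorem F4_three {M : CoxeterMatrix (Fin 4)} {hp : IsType chevF4 4 M} (m : MData hp r q K₀)
    (hm : m.g = AddEquiv.refl _) {ε : ℤ} (hε : ε = 1 ∨ ε = -1) (h3 : (3 : ℤ) ∣ q - ε)
    {g : (Fin 4 → ℤ) ≃+ (Fin 4 → ℤ)} (hg : ∀ y, g y = ε • y) {E : Subgroup ↥(chevF4.group (KK r))}
    (hE : IsPGroup 3 E) (hσ : ∀ y ∈ E, m.σ y = y) : ∃ z, NFrame m E z g := by
  have : Fact (Nat.Prime 3) := ⟨Nat.prime_three⟩
  have hq := MData_one_lt m
  have h3o : Odd 3 := by decide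
  refine frame_refl m invC_F4 (by norm_num) hm (neg_F4 hp) hε (p := 3) (by exact_mod_cast h3) hg (c := 2)
    (by rw [card_M_F4 hp]; norm_num) (card_F4 m hm) ?_ ?_ hE hσ
  · intro v hd hv
    have h1 := ((((Vp.pow_zero (not_dvd_of_pred hq.le hd) 24).mul
      (Vp.sub h3o hq hd hv (n := 2) (c := 0) (by norm_num) (by decide +kernel))).mul
      (Vp.sub h3o hq hd hv (n := 6) (c := 1) (by norm_num) (by decide +kernel))).mul
      (Vp.sub h3o hq hd hv (n := 8) (c := 0) (by norm_num) (by decide +kernel))).mul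
      (Vp.sub h3o hq hd hv (n := 12) (c := 1) (by norm_num) (by decide +kernel))
    have e : 0 + (v + 0) + (v + 1) + (v + 0) + (v + 1) = 4 * v + 2 := by ring
    rwa [e] at h1
  · intro v hd hv
    have h1 := ((((Vp.pow_zero (not_dvd_of_succ hd) 24).mul
      (Vp.even h3o hq hd hv (m := 2) (n := 1) (c := 0) rfl (by norm_num) (by decide +kernel))).mul
      (Vp.even h3o hq hd hv (m := 6) (n := 3) (c := 1) rfl (by norm_num) (by decide +kernel))).mul
      (Vp.even h3o hq hd hv (m := 8) (n := 4) (c := 0) rfl (by norm_num) (by decide +kernel))).mul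
      (Vp.even h3o hq hd hv (m := 12) (n := 6) (c := 1) rfl (by norm_num) (by decide +kernel))
    have e : 0 + (v + 0) + (v + 1) + (v + 0) + (v + 1) = 4 * v + 2 := by ring
    rwa [e] at h1

theorem E7_three {M : CoxeterMatrix (Fin 7)} {hp : IsType chevE7 7 M} (m : MData hp r q K₀)
    (hm : m.g = AddEquiv.refl _) {ε : ℤ} (hε : ε = 1 ∨ ε = -1) (h3 : (3 : ℤ) ∣ q - ε)
    {g : (Fin 7 → ℤ) ≃+ (Fin 7 → ℤ)} (hg : ∀ y, g y = ε • y) {E : Subgroup ↥(chevE7.group (KK r))}
    (hE : IsPGroup 3 E) (hσ : ∀ y ∈ E, m.σ y = y) : ∃ z, NFrame m E z g := by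
  have : Fact (Nat.Prime 3) := ⟨Nat.prime_three⟩
  have hq := MData_one_lt m
  have h3o : Odd 3 := by decide
  refine frame_refl m invC_E7 (by norm_num) hm (neg_E7 hp) hε (p := 3) (by exact_mod_cast h3) hg (c := 4)
    (by rw [card_M_E7 hp]; norm_num) (card_E7 m hm) ?_ ?_ hE hσ
  · intro v hd hv
    have h1 := (((((((Vp.pow_zero (not_dvd_of_pred hq.le hd) 63).mul
      (Vp.sub h3o hq hd hv (n := 2) (c := 0) (by norm_num) (by decide +kernel))).mul
      (Vp.sub h3o hq hd hv (n := 6) (c := 1) (by norm_num) (by decide +kernel))).mul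
      (Vp.sub h3o hq hd hv (n := 8) (c := 0) (by norm_num) (by decide +kernel))).mul
      (Vp.sub h3o hq hd hv (n := 10) (c := 0) (by norm_num) (by decide +kernel))).mul
      (Vp.sub h3o hq hd hv (n := 12) (c := 1) (by norm_num) (by decide +kernel))).mul
      (Vp.sub h3o hq hd hv (n := 14) (c := 0) (by norm_num) (by decide +kernel))).mul
      (Vp.sub h3o hq hd hv (n := 18) (c := 2) (by norm_num) (by decide +kernel))
    have e : 0 + (v + 0) + (v + 1) + (v + 0) + (v + 0) + (v + 1) + (v + 0) + (v + 2) = 7 * v + 4 := by ring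
    rwa [e] at h1
  · intro v hd hv
    have h1 := (((((((Vp.pow_zero (not_dvd_of_succ hd) 63).mul
      (Vp.even h3o hq hd hv (m := 2) (n := 1) (c := 0) rfl (by norm_num) (by decide +kernel))).mul
      (Vp.even h3o hq hd hv (m := 6) (n := 3) (c := 1) rfl (by norm_num) (by decide +kernel))).mul
      (Vp.even h3o hq hd hv (m := 8) (n := 4) (c := 0) rfl (by norm_num) (by decide +kernel))).mul
      (Vp.even h3o hq hd hv (m := 10) (n := 5) (c := 0) rfl (by norm_num) (by decide +kernel))).mul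
      (Vp.even h3o hq hd hv (m := 12) (n := 6) (c := 1) rfl (by norm_num) (by decide +kernel))).mul
      (Vp.even h3o hq hd hv (m := 14) (n := 7) (c := 0) rfl (by norm_num) (by decide +kernel))).mul
      (Vp.even h3o hq hd hv (m := 18) (n := 9) (c := 2) rfl (by norm_num) (by decide +kernel))
    have e : 0 + (v + 0) + (v + 1) + (v + 0) + (v + 0) + (v + 1) + (v + 0) + (v + 2) = 7 * v + 4 := by ring
    rwa [e] at h1

theorem E8_three {M : CoxeterMatrix (Fin 8)} {hp : IsType chevE8 8 M} (m : MData hp r q K₀)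
    (hm : m.g = AddEquiv.refl _) {ε : ℤ} (hε : ε = 1 ∨ ε = -1) (h3 : (3 : ℤ) ∣ q - ε)
    {g : (Fin 8 → ℤ) ≃+ (Fin 8 → ℤ)} (hg : ∀ y, g y = ε • y) {E : Subgroup ↥(chevE8.group (KK r))}
    (hE : IsPGroup 3 E) (hσ : ∀ y ∈ E, m.σ y = y) : ∃ z, NFrame m E z g := by
  have : Fact (Nat.Prime 3) := ⟨Nat.prime_three⟩
  have hq := MData_one_lt m
  have h3o : Odd 3 := by decide
  refine frame_refl m invC_E8 (by norm_num) hm (neg_E8 hp) hε (p := 3) (by exact_mod_cast h3) hg (c := 5)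
    (by rw [card_M_E8 hp]; norm_num) (card_E8 m hm) ?_ ?_ hE hσ
  · intro v hd hv
    have h1 := ((((((((Vp.pow_zero (not_dvd_of_pred hq.le hd) 120).mul
      (Vp.sub h3o hq hd hv (n := 2) (c := 0) (by norm_num) (by decide +kernel))).mul
      (Vp.sub h3o hq hd hv (n := 8) (c := 0) (by norm_num) (by decide +kernel))).mul
      (Vp.sub h3o hq hd hv (n := 12) (c := 1) (by norm_num) (by decide +kernel))).mul
      (Vp.sub h3o hq hd hv (n := 14) (c := 0) (by norm_num) (by decide +kernel))).mul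
      (Vp.sub h3o hq hd hv (n := 18) (c := 2) (by norm_num) (by decide +kernel))).mul
      (Vp.sub h3o hq hd hv (n := 20) (c := 0) (by norm_num) (by decide +kernel))).mul
      (Vp.sub h3o hq hd hv (n := 24) (c := 1) (by norm_num) (by decide +kernel))).mul
      (Vp.sub h3o hq hd hv (n := 30) (c := 1) (by norm_num) (by decide +kernel))
    have e : 0 + (v + 0) + (v + 0) + (v + 1) + (v + 0) + (v + 2) + (v + 0) + (v + 1) + (v + 1) = 8 * v + 5 := by ring
    rwa [e] at h1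
  · intro v hd hv
    have h1 := ((((((((Vp.pow_zero (not_dvd_of_succ hd) 120).mul
      (Vp.even h3o hq hd hv (m := 2) (n := 1) (c := 0) rfl (by norm_num) (by decide +kernel))).mul
      (Vp.even h3o hq hd hv (m := 8) (n := 4) (c := 0) rfl (by norm_num) (by decide +kernel))).mul
      (Vp.even h3o hq hd hv (m := 12) (n := 6) (c := 1) rfl (by norm_num) (by decide +kernel))).mul
      (Vp.even h3o hq hd hv (m := 14) (n := 7) (c := 0) rfl (by norm_num) (by decide +kernel))).mul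
      (Vp.even h3o hq hd hv (m := 18) (n := 9) (c := 2) rfl (by norm_num) (by decide +kernel))).mul
      (Vp.even h3o hq hd hv (m := 20) (n := 10) (c := 0) rfl (by norm_num) (by decide +kernel))).mul
      (Vp.even h3o hq hd hv (m := 24) (n := 12) (c := 1) rfl (by norm_num) (by decide +kernel))).mul
      (Vp.even h3o hq hd hv (m := 30) (n := 15) (c := 1) rfl (by norm_num) (by decide +kernel))
    have e : 0 + (v + 0) + (v + 0) + (v + 1) + (v + 0) + (v + 2) + (v + 0) + (v + 1) + (v + 1) = 8 * v + 5 := by ring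
    rwa [e] at h1

theorem E8_five {M : CoxeterMatrix (Fin 8)} {hp : IsType chevE8 8 M} (m : MData hp r q K₀)
    (hm : m.g = AddEquiv.refl _) {ε : ℤ} (hε : ε = 1 ∨ ε = -1) (h5 : (5 : ℤ) ∣ q - ε)
    {g : (Fin 8 → ℤ) ≃+ (Fin 8 → ℤ)} (hg : ∀ y, g y = ε • y) {E : Subgroup ↥(chevE8.group (KK r))}
    (hE : IsPGroup 5 E) (hσ : ∀ y ∈ E, m.σ y = y) : ∃ z, NFrame m E z g := by
  have : Fact (Nat.Prime 5) := ⟨Nat.prime_five⟩
  have hq := MData_one_lt m
  have h5o : Odd 5 := by decide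
  refine frame_refl m invC_E8 (by norm_num) hm (neg_E8 hp) hε (p := 5) (by exact_mod_cast h5) hg (c := 2)
    (by rw [card_M_E8 hp]; norm_num) (card_E8 m hm) ?_ ?_ hE hσ
  · intro v hd hv
    have h1 := ((((((((Vp.pow_zero (not_dvd_of_pred hq.le hd) 120).mul
      (Vp.sub h5o hq hd hv (n := 2) (c := 0) (by norm_num) (by decide +kernel))).mul
      (Vp.sub h5o hq hd hv (n := 8) (c := 0) (by norm_num) (by decide +kernel))).mul
      (Vp.sub h5o hq hd hv (n := 12) (c := 0) (by norm_num) (by decide +kernel))).mul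
      (Vp.sub h5o hq hd hv (n := 14) (c := 0) (by norm_num) (by decide +kernel))).mul
      (Vp.sub h5o hq hd hv (n := 18) (c := 0) (by norm_num) (by decide +kernel))).mul
      (Vp.sub h5o hq hd hv (n := 20) (c := 1) (by norm_num) (by decide +kernel))).mul
      (Vp.sub h5o hq hd hv (n := 24) (c := 0) (by norm_num) (by decide +kernel))).mul
      (Vp.sub h5o hq hd hv (n := 30) (c := 1) (by norm_num) (by decide +kernel))
    have e : 0 + (v + 0) + (v + 0) + (v + 0) + (v + 0) + (v + 0) + (v + 1) + (v + 0) + (v + 1) = 8 * v + 2 := by ring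
    rwa [e] at h1
  · intro v hd hv
    have h1 := ((((((((Vp.pow_zero (not_dvd_of_succ hd) 120).mul
      (Vp.even h5o hq hd hv (m := 2) (n := 1) (c := 0) rfl (by norm_num) (by decide +kernel))).mul
      (Vp.even h5o hq hd hv (m := 8) (n := 4) (c := 0) rfl (by norm_num) (by decide +kernel))).mul
      (Vp.even h5o hq hd hv (m := 12) (n := 6) (c := 0) rfl (by norm_num) (by decide +kernel))).mul
      (Vp.even h5o hq hd hv (m := 14) (n := 7) (c := 0) rfl (by norm_num) (by decide +kernel))).mul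
      (Vp.even h5o hq hd hv (m := 18) (n := 9) (c := 0) rfl (by norm_num) (by decide +kernel))).mul
      (Vp.even h5o hq hd hv (m := 20) (n := 10) (c := 1) rfl (by norm_num) (by decide +kernel))).mul
      (Vp.even h5o hq hd hv (m := 24) (n := 12) (c := 0) rfl (by norm_num) (by decide +kernel))).mul
      (Vp.even h5o hq hd hv (m := 30) (n := 15) (c := 1) rfl (by norm_num) (by decide +kernel))
    have e : 0 + (v + 0) + (v + 0) + (v + 0) + (v + 0) + (v + 0) + (v + 1) + (v + 0) + (v + 1) = 8 * v + 2 := by ring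
    rwa [e] at h1

/-- **`E₈`, `p = 5`, `5 ∣ q ^ 2 + 1`.** -/
theorem E8_five_sq {M : CoxeterMatrix (Fin 8)} {hp : IsType chevE8 8 M} (m : MData hp r q K₀)
    (hm : m.g = AddEquiv.refl _) (h5 : 5 ∣ q ^ 2 + 1) :
    ∃ w0 : M.Group, (∀ y, repAut M.toCoxeterSystem hp.isCartan w0 (repAut M.toCoxeterSystem hp.isCartan w0 y) = -y) ∧
      ∀ {E : Subgroup ↥(chevE8.group (KK r))}, IsPGroup 5 E → (∀ y ∈ E, m.σ y = y) →
        ∃ z, NFrame m E z (repAut M.toCoxeterSystem hp.isCartan w0) := by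
  have : Fact (Nat.Prime 5) := ⟨Nat.prime_five⟩
  have hq := MData_one_lt m
  have h5o : Odd 5 := by decide
  obtain ⟨w, V, hw, hV, hVw, ha, hb⟩ := sqrt_E8 hp
  refine ⟨w, hw, fun {E} hE hσ => ?_⟩
  obtain ⟨v, hv⟩ : ∃ v, Vp 5 (q ^ 2 + 1) v := ⟨_, Vp.of_ne (Nat.succ_ne_zero _)⟩
  have hnq : ¬ 5 ∣ q := fun h => not_dvd_of_succ h5 (h.trans (dvd_pow_self q (by norm_num)))
  have h1 := ((((((((Vp.pow_zero hnq 120).mul
      (Vp.two h5o hq h5 (n := 0) (m := 2) rfl)).mul
      (Vp.four h5o hq h5 hv (m := 8) (n := 2) (c := 0) rfl (by norm_num) (by decide +kernel))).mul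
      (Vp.four h5o hq h5 hv (m := 12) (n := 3) (c := 0) rfl (by norm_num) (by decide +kernel))).mul
      (Vp.two h5o hq h5 (n := 3) (m := 14) rfl)).mul
      (Vp.two h5o hq h5 (n := 4) (m := 18) rfl)).mul
      (Vp.four h5o hq h5 hv (m := 20) (n := 5) (c := 1) rfl (by norm_num) (by decide +kernel))).mul
      (Vp.four h5o hq h5 hv (m := 24) (n := 6) (c := 0) rfl (by norm_num) (by decide +kernel))).mul
      (Vp.two h5o hq h5 (n := 7) (m := 30) rfl)
  have e : 0 + 0 + (v + 0) + (v + 0) + 0 + 0 + (v + 1) + (v + 0) + 0 = 4 * v + 1 := by ring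
  rw [e] at h1
  refine exists_frame m invC_E8 (by norm_num) w (j := 4) (N := q ^ 2 + 1) (fun y => by rw [hm]; rfl) ?_
    (fun i => lin (aF i) + (q : ℤ) • lin (bF i)) (fun i => sr (Fin.castLE (by norm_num) i)) ?_ ?_ V ?_ (b := 4 * v + 1)
    ?_ (fun h => h1.not_dvd (h.trans (card_E8 m hm))) hE hσ
  · intro h
    have h2 : r ∣ q ^ 2 := (MData_dvd m).trans (dvd_pow_self q (by norm_num))
    exact hr.out.one_lt.ne' (Nat.dvd_one.1 ((Nat.dvd_add_right h2).1 h))
  · intro i i'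
    have h2 : ∀ i i' : Fin 4, (∑ j, aF i j * toFnBas (Fin.castLE (by norm_num : 4 ≤ 8) i') j) =
        if i = i' then 1 else 0 := by decide +kernel
    have h3 : ∀ i i' : Fin 4, (∑ j, bF i j * toFnBas (Fin.castLE (by norm_num : 4 ≤ 8) i') j) = 0 := by
      decide +kernel
    show lin (aF i) (sr _) + (q : ℤ) • lin (bF i) (sr _) = _
    rw [lin_apply, lin_apply, sr_toFnBas, h2, h3, smul_zero, add_zero]
  · intro i y
    show ((q ^ 2 + 1 : ℕ) : ℤ) ∣ lin (aF i) (rep M.toCoxeterSystem hp.isCartan w y) +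
      (q : ℤ) • lin (bF i) (rep M.toCoxeterSystem hp.isCartan w y) - q * (lin (aF i) y + (q : ℤ) • lin (bF i) y)
    rw [ha, hb]
    refine ⟨-lin (bF i) y, ?_⟩
    rw [smul_eq_mul, smul_eq_mul, Nat.cast_add, Nat.cast_pow, Nat.cast_one]
    ring
  · intro u hu y
    show rep M.toCoxeterSystem hp.isCartan u (rep M.toCoxeterSystem hp.isCartan w y) =
      rep M.toCoxeterSystem hp.isCartan w (rep M.toCoxeterSystem hp.isCartan u y)
    rw [← rep_mul_apply, ← rep_mul_apply, hVw u hu]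
  · rw [hV, pow_add, mul_comm 4 v, pow_mul, pow_one]
    exact mul_dvd_mul_right (pow_dvd_pow_of_dvd hv.dvd 4) 5

end Inst

/-! ### `E₆` -/

section SixRows

variable {r : ℕ} [hr : Fact r.Prime] {q : ℕ} {K₀ : Type v} [Group K₀]

/-- the functionals invariant under `rho6` -/
def fI : Fin 4 → Fin 6 → ℤ := ![![1, 0, 0, 0, 0, 1], ![0, 1, 0, 0, 0, 0], ![0, 0, 1, 0, 1, 0], ![0, 0, 0, 1, 0, 0]]

theorem fI_rho (i : Fin 4) (y : Fin 6 → ℤ) : lin (fI i) (permE rho6 y) = lin (fI i) y := by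
  refine add_ext (f := (lin (fI i)).comp (permE rho6).toAddMonoidHom) (g := lin (fI i)) (fun j => ?_) y
  show lin (fI i) (permE rho6 (sr j)) = lin (fI i) (sr j)
  rw [perm_sr, sr_toFnBas, sr_toFnBas]
  have h : ∀ (i : Fin 4) (j : Fin 6), (∑ m, fI i m * toFnBas (rho6 j) m) = ∑ m, fI i m * toFnBas j m := by
    decide +kernel
  exact h i j

theorem rho_rho (y : Fin 6 → ℤ) : permE rho6 (permE rho6 y) = y := by
  have h : ∀ i, rho6.symm (rho6.symm i) = i := by decide
  funext i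
  exact congrArg y (h i)

/-- `g = ± rho6` -/
theorem frame_rho {M : CoxeterMatrix (Fin 6)} {hp : IsType chevE6 6 M} (m : MData hp r q K₀)
    {ε : ℤ} (hε : ε = 1 ∨ ε = -1) (w0 : M.Group)
    (hw0 : ∀ y, rep M.toCoxeterSystem hp.isCartan w0 (m.g y) = ε • permE rho6 y) {N : ℕ} (hN : (N : ℤ) = q - ε)
    {g : (Fin 6 → ℤ) ≃+ (Fin 6 → ℤ)} (hg : ∀ y, g y = ε • permE rho6 y) {v n : ℕ} (hv : 3 ^ v ∣ N)
    (hG : Nat.card (fixedSubgroup m.σ) ∣ n) (hn : Vp 3 n (4 * v + 2))
    {E : Subgroup ↥(chevE6.group (KK r))} (hE : IsPGroup 3 E) (hσ : ∀ y ∈ E, m.σ y = y) :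
    ∃ z, NFrame m E z g := by
  have : Fact (Nat.Prime 3) := ⟨Nat.prime_three⟩
  obtain ⟨V, hV, hVr⟩ := nine_E6 hp
  refine exists_frame m invC_E6 (by norm_num) w0 (j := 4) (N := N) (fun y => by rw [hg, hw0]) (not_dvd_N m hε hN)
    (fun i => lin (fI i)) (fun i => sr (Fin.castLE (by norm_num) i)) ?_ ?_ V ?_ (b := 4 * v + 2)
    ?_ (fun h => hn.not_dvd (h.trans hG)) hE hσ
  · intro i i'
    have h2 : ∀ i i' : Fin 4, (∑ j, fI i j * toFnBas (Fin.castLE (by norm_num : 4 ≤ 6) i') j) =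
        if i = i' then 1 else 0 := by decide +kernel
    show lin (fI i) (sr _) = _
    rw [lin_apply, sr_toFnBas, h2]
  · intro i y
    rw [hg, map_zsmul, fI_rho, hN]
    refine ⟨-lin (fI i) y, ?_⟩
    rw [smul_eq_mul]
    ring
  · intro u hu y
    rw [hg, hg, map_zsmul, hVr u hu]
  · rw [hV, pow_add, mul_comm 4 v, pow_mul]
    exact mul_dvd_mul_right (pow_dvd_pow_of_dvd hv 4) 9

/-- **`E₆(q)`, `3 ∣ q - 1`.** -/
theorem E6_matched {M : CoxeterMatrix (Fin 6)} {hp : IsType chevE6 6 M} (m : MData hp r q K₀)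
    (hm : m.g = AddEquiv.refl _) (h3 : 3 ∣ q - 1) {g : (Fin 6 → ℤ) ≃+ (Fin 6 → ℤ)} (hg : ∀ y, g y = y)
    {E : Subgroup ↥(chevE6.group (KK r))} (hE : IsPGroup 3 E) (hσ : ∀ y ∈ E, m.σ y = y) :
    ∃ z, NFrame m E z g := by
  have : Fact (Nat.Prime 3) := ⟨Nat.prime_three⟩
  have hq := MData_one_lt m
  have h3o : Odd 3 := by decide
  obtain ⟨v, hv⟩ : ∃ v, Vp 3 (q - 1) v := ⟨_, Vp.of_ne (Nat.sub_pos_of_lt hq).ne'⟩
  have h1 := ((((((Vp.pow_zero (not_dvd_of_pred hq.le h3) 36).mul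
      (Vp.sub h3o hq h3 hv (n := 2) (c := 0) (by norm_num) (by decide +kernel))).mul
      (Vp.sub h3o hq h3 hv (n := 5) (c := 0) (by norm_num) (by decide +kernel))).mul
      (Vp.sub h3o hq h3 hv (n := 6) (c := 1) (by norm_num) (by decide +kernel))).mul
      (Vp.sub h3o hq h3 hv (n := 8) (c := 0) (by norm_num) (by decide +kernel))).mul
      (Vp.sub h3o hq h3 hv (n := 9) (c := 2) (by norm_num) (by decide +kernel))).mul
      (Vp.sub h3o hq h3 hv (n := 12) (c := 1) (by norm_num) (by decide +kernel))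
  have e : 0 + (v + 0) + (v + 0) + (v + 1) + (v + 0) + (v + 2) + (v + 1) = 6 * v + 4 := by ring
  rw [e] at h1
  exact frame_pm m invC_E6 (by norm_num) (Or.inl rfl) 1 (fun y => by
    rw [map_one, Module.End.one_apply, hm, one_smul]; rfl) (N := q - 1)
    (by rw [Nat.cast_sub hq.le, Nat.cast_one]) (fun y => by rw [hg, one_smul]) hv.dvd
    (by rw [card_M_E6 hp]; norm_num : 3 ^ 4 ∣ Nat.card M.Group) (card_E6 m hm) h1.not_dvd hE hσ

/-- **`²E₆(q)`, `3 ∣ q + 1`.** -/
theorem TE6_matched {M : CoxeterMatrix (Fin 6)} {hp : IsType chevE6 6 M} (m : MData hp r q K₀)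
    (hm : m.g = permE rho6) (h3 : 3 ∣ q + 1) {g : (Fin 6 → ℤ) ≃+ (Fin 6 → ℤ)} (hg : ∀ y, g y = -y)
    {E : Subgroup ↥(chevE6.group (KK r))} (hE : IsPGroup 3 E) (hσ : ∀ y ∈ E, m.σ y = y) :
    ∃ z, NFrame m E z g := by
  have : Fact (Nat.Prime 3) := ⟨Nat.prime_three⟩
  obtain rfl : M = CoxeterMatrix.E₆ := eq_E6 hp
  have hq := MData_one_lt m
  have h3o : Odd 3 := by decide
  obtain ⟨v, hv⟩ : ∃ v, Vp 3 (q + 1) v := ⟨_, Vp.of_ne (Nat.succ_ne_zero q)⟩
  have h1 := ((((((Vp.pow_zero (not_dvd_of_succ h3) 36).mul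
      (Vp.even h3o hq h3 hv (m := 2) (n := 1) (c := 0) rfl (by norm_num) (by decide +kernel))).mul
      (Vp.add h3o h3 hv (n := 5) (c := 0) (by decide) (by decide +kernel))).mul
      (Vp.even h3o hq h3 hv (m := 6) (n := 3) (c := 1) rfl (by norm_num) (by decide +kernel))).mul
      (Vp.even h3o hq h3 hv (m := 8) (n := 4) (c := 0) rfl (by norm_num) (by decide +kernel))).mul
      (Vp.add h3o h3 hv (n := 9) (c := 2) (by decide) (by decide +kernel))).mul
      (Vp.even h3o hq h3 hv (m := 12) (n := 6) (c := 1) rfl (by norm_num) (by decide +kernel))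
  have e : 0 + (v + 0) + (v + 0) + (v + 1) + (v + 0) + (v + 2) + (v + 1) = 6 * v + 4 := by ring
  rw [e] at h1
  obtain ⟨w0, hw0⟩ := negRho_E6 hp
  exact frame_pm m invC_E6 (by norm_num) (Or.inr rfl) w0 (fun y => by
    rw [hw0, hm, rho_rho, neg_smul, one_smul]) (N := q + 1)
    (by rw [Nat.cast_add, Nat.cast_one, sub_neg_eq_add]) (fun y => by rw [hg, neg_smul, one_smul]) hv.dvd
    (by rw [card_M_E6 hp]; norm_num : 3 ^ 4 ∣ Nat.card CoxeterMatrix.E₆.Group) (card_fix_tw m hm) h1.not_dvd hE hσ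

/-- **`E₆(q)`, `3 ∣ q + 1`.** -/
theorem E6_unmatched {M : CoxeterMatrix (Fin 6)} {hp : IsType chevE6 6 M} (m : MData hp r q K₀)
    (hm : m.g = AddEquiv.refl _) (h3 : 3 ∣ q + 1) {g : (Fin 6 → ℤ) ≃+ (Fin 6 → ℤ)} (hg : ∀ y, g y = -permE rho6 y)
    {E : Subgroup ↥(chevE6.group (KK r))} (hE : IsPGroup 3 E) (hσ : ∀ y ∈ E, m.σ y = y) :
    ∃ z, NFrame m E z g := by
  have : Fact (Nat.Prime 3) := ⟨Nat.prime_three⟩
  have hq := MData_one_lt m
  have h3o : Odd 3 := by decide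
  obtain ⟨v, hv⟩ : ∃ v, Vp 3 (q + 1) v := ⟨_, Vp.of_ne (Nat.succ_ne_zero q)⟩
  have h1 := ((((((Vp.pow_zero (not_dvd_of_succ h3) 36).mul
      (Vp.even h3o hq h3 hv (m := 2) (n := 1) (c := 0) rfl (by norm_num) (by decide +kernel))).mul
      (Vp.odd h3o hq h3 (n := 5) (by decide))).mul
      (Vp.even h3o hq h3 hv (m := 6) (n := 3) (c := 1) rfl (by norm_num) (by decide +kernel))).mul
      (Vp.even h3o hq h3 hv (m := 8) (n := 4) (c := 0) rfl (by norm_num) (by decide +kernel))).mul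
      (Vp.odd h3o hq h3 (n := 9) (by decide))).mul
      (Vp.even h3o hq h3 hv (m := 12) (n := 6) (c := 1) rfl (by norm_num) (by decide +kernel))
  have e : 0 + (v + 0) + 0 + (v + 1) + (v + 0) + 0 + (v + 1) = 4 * v + 2 := by ring
  rw [e] at h1
  obtain ⟨w0, hw0⟩ := negRho_E6 hp
  exact frame_rho m (Or.inr rfl) w0 (fun y => by
    rw [hw0, hm, neg_smul, one_smul]; rfl) (N := q + 1)
    (by rw [Nat.cast_add, Nat.cast_one, sub_neg_eq_add]) (fun y => by rw [hg, neg_smul, one_smul]) hv.dvd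
    (card_E6 m hm) h1 hE hσ

/-- **`²E₆(q)`, `3 ∣ q - 1`.** -/
theorem TE6_unmatched {M : CoxeterMatrix (Fin 6)} {hp : IsType chevE6 6 M} (m : MData hp r q K₀)
    (hm : m.g = permE rho6) (h3 : 3 ∣ q - 1) {g : (Fin 6 → ℤ) ≃+ (Fin 6 → ℤ)} (hg : ∀ y, g y = permE rho6 y)
    {E : Subgroup ↥(chevE6.group (KK r))} (hE : IsPGroup 3 E) (hσ : ∀ y ∈ E, m.σ y = y) :
    ∃ z, NFrame m E z g := by
  have : Fact (Nat.Prime 3) := ⟨Nat.prime_three⟩
  obtain rfl : M = CoxeterMatrix.E₆ := eq_E6 hp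
  have hq := MData_one_lt m
  have h3o : Odd 3 := by decide
  obtain ⟨v, hv⟩ : ∃ v, Vp 3 (q - 1) v := ⟨_, Vp.of_ne (Nat.sub_pos_of_lt hq).ne'⟩
  have h1 := ((((((Vp.pow_zero (not_dvd_of_pred hq.le h3) 36).mul
      (Vp.sub h3o hq h3 hv (n := 2) (c := 0) (by norm_num) (by decide +kernel))).mul
      (Vp.plus h3o hq h3 5)).mul
      (Vp.sub h3o hq h3 hv (n := 6) (c := 1) (by norm_num) (by decide +kernel))).mul
      (Vp.sub h3o hq h3 hv (n := 8) (c := 0) (by norm_num) (by decide +kernel))).mul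
      (Vp.plus h3o hq h3 9)).mul
      (Vp.sub h3o hq h3 hv (n := 12) (c := 1) (by norm_num) (by decide +kernel))
  have e : 0 + (v + 0) + 0 + (v + 1) + (v + 0) + 0 + (v + 1) = 4 * v + 2 := by ring
  rw [e] at h1
  exact frame_rho m (Or.inl rfl) 1 (fun y => by
    rw [map_one, Module.End.one_apply, hm, one_smul]) (N := q - 1)
    (by rw [Nat.cast_sub hq.le, Nat.cast_one]) (fun y => by rw [hg, one_smul]) hv.dvd
    (card_fix_tw m hm) h1 hE hσ

end SixRows

end Cfsg.Agent.H900.Fra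
end
end

-- part: H818/Gen/ExcStd
section
set_option linter.all false
open scoped Cfsg.Agent.FastGrp

-- part: H818/Gen/OfGen
section
/-!
# `GenIn m p` from `Gen p K₀` (hub file, helper818)
-/

set_option autoImplicit false
set_option linter.dupNamespace false
set_option linter.unusedSectionVars false

namespace Cfsg.Agent.H818.Gen

open Cfsg Subgroup

section abs

variable {Y : Type*} [Group Y] {K₀ : Type*} [Group K₀] {ι : K₀ →* Y} {p : ℕ} [hp : Fact p.Prime]
  (hι : Function.Injective ι) {σ : MulAut Y}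
  (hn : ∀ y, σ y = y → ∀ a, ∃ b, ι b = y * ι a * y⁻¹) (hcc : ∀ z : Y, (∀ a, z * ι a = ι a * z) → z = 1)

include hι hn hcc in
/-- `GenY` from `Gen` -/
theorem genY_of_gen (h : Gen p K₀) : GenY ι σ p := by
  intro E hE hσ hE2
  obtain ⟨f, hf⟩ := exists_hom hι hn hσ
  have hfi : Function.Injective f := by
    rw [injective_iff_map_eq_one]
    intro y hy
    refine Subtype.ext (hcc _ fun a => ?_)
    have h1 := hf y a
    rw [hy] at h1
    exact (eq_mul_inv_iff_mul_eq.1 h1).symm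
  have hcomm : ∀ a b : ↥E, a * b = b * a := fun a b => hE.1.1.1 a b
  have hR : IsElementaryAbelian p f.range := by
    refine ⟨⟨⟨?_⟩⟩, ?_⟩
    · rintro ⟨_, a, rfl⟩ ⟨_, b, rfl⟩
      refine Subtype.ext ?_
      show f a * f b = f b * f a
      rw [← map_mul, hcomm, map_mul]
    · rintro _ ⟨a, rfl⟩
      rw [← map_pow]
      have : a ^ p = 1 := Subtype.ext (hE.2 a.1 a.2)
      rw [this, map_one]
  have hcard : Nat.card ↥f.range = Nat.card ↥E := (Nat.card_congr (MonoidHom.ofInjective hfi).toEquiv).symm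
  have h1 := h f.range hR (by rw [hcard]; exact hE2)
  rw [eq_top_iff]
  have h2 : Gam p f.range ≤ GamY ι p E := by
    refine (closure_le _).2 ?_
    rintro a ⟨F, hF, hi, ha⟩
    refine mem_GamY (F := (F.comap f).map E.subtype) ?_ ?_ ?_
    · rintro _ ⟨y, -, rfl⟩
      exact y.2
    · have h3 : ((F.comap f).map E.subtype).relIndex E = (F.comap f).index := by
        have h4 := relIndex_map_map_of_injective (F.comap f) (⊤ : Subgroup ↥E) (f := E.subtype) E.subtype_injective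
        rw [← MonoidHom.range_eq_map, range_subtype, relIndex_top_right] at h4
        exact h4
      rw [h3, index_comap, ← hi]
      rfl
    · rintro _ ⟨y, hy, rfl⟩
      have h4 : f y a = a := ha _ hy
      have h5 := hf y a
      rw [h4] at h5
      show (y : Y) * ι a = ι a * y
      exact (eq_mul_inv_iff_mul_eq.1 h5).symm
  rw [← h1]
  exact h2

/-- `GenY` if `Y^σ` has no large elementary abelian subgroups -/
theorem genY_of_not_dvd [Finite ↥(fixedSubgroup σ)] (h : ¬ p ^ 2 ∣ Nat.card ↥(fixedSubgroup σ)) : GenY ι σ p := by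
  intro E hE hσ hE2
  exfalso
  have hle : E ≤ fixedSubgroup σ := fun y hy => hσ y hy
  have : Finite ↥E := Finite.of_injective _ (inclusion_injective hle)
  have h1 : IsPGroup p ↥E := by
    intro a
    exact ⟨1, by rw [pow_one]; exact Subtype.ext (hE.2 a.1 a.2)⟩
  obtain ⟨n, hn⟩ := h1.exists_card_eq
  have h2 : 2 ≤ n := by
    rw [hn] at hE2
    exact (Nat.pow_le_pow_iff_right hp.out.one_lt).1 hE2
  exact h ((pow_dvd_pow p h2).trans (hn ▸ card_dvd_of_le hle))

end abs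

section mdata

open Cfsg.Agent.H316.U6 Cfsg.Lie Cfsg.Agent.Nodes.RGDChev

universe u v

variable {D : ChevalleyDatum} {l : ℕ} {M : CoxeterMatrix (Fin l)} {hp : IsType D l M} {r q : ℕ}
  [hr : Fact r.Prime] {K₀ : Type v} [Group K₀]

/-- `GenIn` from `Gen` -/
theorem genIn_of_gen (m : MData hp r q K₀) {p : ℕ} [hpp : Fact p.Prime]
    (hc : ∀ z, (∀ a, z * m.ι a = m.ι a * z) → z = 1) (h : Gen p K₀) : GenIn m p :=
  genY_of_gen m.inj m.norm hc h

end mdata

end Cfsg.Agent.H818.Gen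
end

-- part: H818/Gen/ExcStd
section
/-!
# S2187: the rows of the untwisted exceptional groups from the inner-diagonal part of the standard data (hub, helper818)

Variant of `H28.GenF.gen_exc'`: the hypothesis only for the data with `m.ι = emb`, `m.σ = phi`.
-/

set_option autoImplicit false
set_option linter.unusedSectionVars false

namespace Cfsg.Agent.H818.Gen.Exc

open CoxeterSystem Subgroup Cfsg Cfsg.Lie Cfsg.Lie.ChevalleyDatum
open Cfsg.Agent.ChevalleyStructure Cfsg.Agent.ChevalleyStructure.Elts Cfsg.Agent.ChevalleyStructure.CoxeterGeom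
  Cfsg.Agent.ChevalleyStructure.CoxeterGeomTypes Cfsg.Agent.ChevalleyStructure.NPerm
open Cfsg.Agent.Tits.Roots Cfsg.Agent.Tits.Core Cfsg.Agent.Nodes.Reps Cfsg.Agent.Nodes.BNOf
  Cfsg.Agent.Nodes.RGDChev Cfsg.Agent.Nodes.Bruhat
open Cfsg.Agent.CpAut.RgdUntw Cfsg.Agent.KFacts.RgdField Cfsg.Agent.KFacts.RgdChevCoord
open Cfsg.Agent.BpExc Cfsg.Agent.BpExc.Tow Cfsg.Agent.BpExc.TowChev Cfsg.Agent.BpExc.FamExt Cfsg.Agent.BpExc.FamUntw
  Cfsg.Agent.BpExc.FamInst Cfsg.Agent.BpExc.LangFr Cfsg.Agent.BpExc.FamField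
open Cfsg.Agent.GpExc.Field (glMap emb coe_emb glMap_xG emb_injective coe_glMap glMap_injective)
open Cfsg.Agent.H469.Exc Cfsg.Agent.H469.Exc.SigFr
open Cfsg.Agent.H818.Gen Cfsg.Agent.H972.Gen Cfsg.Agent.H316.U6 Cfsg.Agent.H28.GenF

section

variable {D : ChevalleyDatum} {l : ℕ} {M : CoxeterMatrix (Fin l)} (hp : IsType D l M) {r : ℕ} [Fact r.Prime]

/-- the standard data -/
structure StdM (d : ℕ) {hp : IsType D l M} {F : Type} [Field F] [Fintype F]
    (m : MData hp r (Fintype.card F) ↥(D.group F)) : Prop where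
  std : ∃ (f : F →+* KK r) (n : ℕ), Nat.card F = r ^ n ∧ m.ι = emb hp.inList f ∧ m.σ = phi D (KK r) r n
  g : m.g = AddEquiv.refl _
  dd : m.dd = Nat.gcd d (Fintype.card F - 1)
  cent : ∀ z : ↥(D.group (KK r)), (∀ a, z * m.ι a = m.ι a * z) → z = 1

include hp in
/-- **The rows from their inner-diagonal parts.** -/
theorem gen_std (hD : D ∈ [chevG2, chevB2, chevD4, chevF4, chevE6, chevE7, chevE8]) {d : ℕ} {B : Fin l → Fin l → ℤ}
    (hB : InvC D l d B) (hd : d = 1 ∨ d.Prime) (hM : SymTwo M)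
    (hk1 : IsSimpleGroup ↥(D.group (KK r)) ∧ ¬ IsMulCommutative ↥(D.group (KK r)))
    (hF1 : IsSimpleGroup ↥(D.group (GaloisField r 2)) ∧ ¬ IsMulCommutative ↥(D.group (GaloisField r 2)))
    {p : ℕ} (hpp : p.Prime) (hp2 : p ≠ 2)
    (hin : ∀ (F : Type) [Field F] [Fintype F] [CharP F r] (m : MData hp r (Fintype.card F) ↥(D.group F)),
      StdM d m → GenIn m p) :
    ∀ (F : Type) [Field F] [Fintype F] [CharP F r], Gen p ↥(D.group F) := by
  refine gen_exc' hp hD hB hd hM hk1 hF1 hpp hp2 fun F _ _ _ f n m hn h1 h2 h3 h4 =>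
    hin F m ⟨⟨f, n, hn, h1, h2⟩, h3, h4, fun z hz => ?_⟩
  rw [h1] at hz
  exact eq_one_of_comm hp (locFin r) r f (center_bot' hk1) hz

end

section Fam

variable {r : ℕ} [Fact r.Prime] {p : ℕ} (hpp : p.Prime) (hp2 : p ≠ 2)

include hpp hp2 in
theorem gen_g2 (hin : ∀ (F : Type) [Field F] [Fintype F] [CharP F r]
    (m : MData RowsUntw.g2T r (Fintype.card F) ↥(chevG2.group F)), StdM 1 m → GenIn m p) :
    ∀ (F : Type) [Field F] [Fintype F] [CharP F r], Gen p ↥(chevG2.group F) :=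
  gen_std RowsUntw.g2T (by simp) inv_G2 (Or.inl rfl) symTwo_G2 (S1055.result (exists_ne_algClosed _))
    (S1055.result exists_ne_gal) hpp hp2 hin

include hpp hp2 in
theorem gen_f4 (hin : ∀ (F : Type) [Field F] [Fintype F] [CharP F r]
    (m : MData RowsUntw.f4T r (Fintype.card F) ↥(chevF4.group F)), StdM 1 m → GenIn m p) :
    ∀ (F : Type) [Field F] [Fintype F] [CharP F r], Gen p ↥(chevF4.group F) :=
  gen_std RowsUntw.f4T (by simp) inv_F4 (Or.inl rfl) symTwo_F4 (S1054.result chevF4 (by simp))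
    (S1054.result chevF4 (by simp)) hpp hp2 hin

include hpp hp2 in
theorem gen_e6 (hin : ∀ (F : Type) [Field F] [Fintype F] [CharP F r]
    (m : MData RowsUntw.e6T r (Fintype.card F) ↥(chevE6.group F)), StdM 3 m → GenIn m p) :
    ∀ (F : Type) [Field F] [Fintype F] [CharP F r], Gen p ↥(chevE6.group F) :=
  gen_std RowsUntw.e6T (by simp) inv_E6 (Or.inr Nat.prime_three) symTwo_E6 (S1054.result chevE6 (by simp))
    (S1054.result chevE6 (by simp)) hpp hp2 hin

include hpp hp2 in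
theorem gen_e7 (hin : ∀ (F : Type) [Field F] [Fintype F] [CharP F r]
    (m : MData RowsUntw.e7T r (Fintype.card F) ↥(chevE7.group F)), StdM 2 m → GenIn m p) :
    ∀ (F : Type) [Field F] [Fintype F] [CharP F r], Gen p ↥(chevE7.group F) :=
  gen_std RowsUntw.e7T (by simp) inv_E7 (Or.inr Nat.prime_two) symTwo_E7 (S1054.result chevE7 (by simp))
    (S1054.result chevE7 (by simp)) hpp hp2 hin

include hpp hp2 in
theorem gen_e8 (hin : ∀ (F : Type) [Field F] [Fintype F] [CharP F r]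
    (m : MData RowsUntw.e8T r (Fintype.card F) ↥(chevE8.group F)), StdM 1 m → GenIn m p) :
    ∀ (F : Type) [Field F] [Fintype F] [CharP F r], Gen p ↥(chevE8.group F) :=
  gen_std RowsUntw.e8T (by simp) inv_E8 (Or.inl rfl) symTwo_E8 (S1054.result chevE8 (by simp))
    (S1054.result chevE8 (by simp)) hpp hp2 hin

end Fam

end Cfsg.Agent.H818.Gen.Exc
end
end

-- part: H28/TwOv/Stage
section
prune_inst 0x4107c045022020000180580f1003a06d60005b2006b8c0084410a4003c8eb4220e10f2195a011115a18264108310028135c00c0422000000a2000000005002090085004f2890104660099800084000000000000000000000000000000000004000000000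
set_option linter.all false
open scoped Cfsg.Agent.FastGrp

-- part: H28/TwOv/Lvl
section
/-!
# Overgroups of the subfield subgroups of twisted groups: the unipotent part (S2187, X6)

`Tw hD h Lo rho eps φ sg G` as in `H82.TwMax`, `ψ` a second field map. `Ind` : the independence of the conjugates.

* `fix_U` : `H ∩ U` is fixed entrywise by `ψ` if `H ∩ X_top` is;
* `fix_vt` : `v ∈ U`, `t` diagonal and fixed, `v t ∈ H` ⟹ `v` fixed.
-/

set_option autoImplicit false

namespace Cfsg.Agent.H28.TwOv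

open Cfsg.Lie Cfsg.Agent.ChevalleyStructure Cfsg.Agent.ChevalleyStructure.Elts
open Cfsg.Agent.ChevalleyStructure.TwistedU Cfsg.Agent.H82.Level Cfsg.Agent.H82.TwMax
open Cfsg.Agent.ChevalleyStructure.RootCombGood (co car)
open Cfsg.Agent.ChevalleyStructure.RootWord
open scoped commutatorElement

universe u

section Lvl

variable {D : ChevalleyDatum} {K : Type u} [Field K] (hD : InList D) (h : SL D) {L : List ℕ} (O : Ord K hD L)

include O in
/-- the coordinates of a commutator -/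
theorem cf_comm_bil {k m : ℤ} {a b : GL D.Idx K} (ha : a ∈ Lv K hD h k) (hb : b ∈ Lv K hD h m) (hk : 1 ≤ k)
    (hm : 1 ≤ m) {γ : ℕ} (hγ : D.IsPosRoot γ) (hr : ht D γ = k + m) :
    cf γ ⁅a, b⁆ = ∑ j ∈ L.toFinset, (if ht D j = k then cf j a *
      (∑ s ∈ L.toFinset, if add D j s = γ then (kap D j s : K) * cf s b else 0) else 0) := by
  have h1 : ⁅b, a⁆ ∈ Lv K hD h (ht D γ) := by rw [hr, add_comm]; exact comm_mem_Lv hD h hb ha
  rw [← commutatorElement_inv, cf_inv hD h h1, cf_comm_right hD h O hb ha hk (by rw [hr, add_comm]),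
    ← List.sum_toFinset _ O.nodup, ← Finset.sum_neg_distrib]
  refine Finset.sum_congr rfl fun j hj => ?_
  have hj' := (O.mem j).1 (List.mem_toFinset.1 hj)
  by_cases e : ht D j = k
  · rw [if_pos e, if_pos e]
    have h2 : ⁅(xG hD j (cf j a) : GL D.Idx K), b⁆ ∈ Lv K hD h (ht D γ) := by
      rw [hr, ← e]; exact comm_mem_Lv hD h (xG_mem_Lv hD h hj' _) hb
    rw [← commutatorElement_inv, cf_inv hD h h2, _root_.neg_neg, cf_comm_X_left hD h O hj' hb hm hγ (by rw [hr, e]),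
      Finset.mul_sum]
    refine Finset.sum_congr rfl fun s _ => ?_
    by_cases e2 : add D j s = γ
    · rw [if_pos e2, if_pos e2]; ring
    · rw [if_neg e2, if_neg e2, mul_zero]
  · rw [if_neg e, if_neg e, xG_zero, commutatorElement_one_right, cf_one, neg_zero]

end Lvl

/-- independence: the coordinates at `j` are determined by the sums over the fixed compatible families -/
def Ind {K : Type u} [Field K] (_D : ChevalleyDatum) (L : List ℕ) (rho : ℕ → ℕ) (eps : ℕ → ℤ) (φ ψ : K →+* K) : Prop :=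
  ∀ j ∈ L, ∀ B : ℕ → K, (∀ τ : ℕ → K, (∀ r ∈ L, τ (rho r) = (eps r : K) * φ (τ r)) → (∀ r, ψ (τ r) = τ r) →
    (∀ r ∈ L, (∀ k : ℕ, rho^[k] j ≠ r) → τ r = 0) → ∑ s ∈ L.toFinset, τ s * B s = 0) → B j = 0

section Tw

variable {D : ChevalleyDatum} {K : Type u} [Field K] {hD : InList D} {h : SL D} {Lo : List (List ℕ)}
  {rho : ℕ → ℕ} {eps : ℕ → ℤ} {φ : K →+* K} {sg : GL D.Idx K →* GL D.Idx K} {G : Subgroup (GL D.Idx K)}
  (W : Tw hD h Lo rho eps φ sg G) (ψ : K →+* K)

/-- the product with the coordinates `τ` -/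
noncomputable def yy (hD : InList D) (Lo : List (List ℕ)) (τ : ℕ → K) : GL D.Idx K := lprod (xG hD) Lo.flatten τ

theorem yy_fr {τ : ℕ → K} (hτ : ∀ r, ψ (τ r) = τ r) : fr D ψ (yy hD Lo τ) = yy hD Lo τ := by
  unfold yy
  rw [fr_lprod]
  exact lprod_congr _ fun s _ => hτ s

theorem fr_of_lead (O : Ord K hD Lo.flatten) {m : ℤ} {g : GL D.Idx K}
    (hc : ∀ r, D.IsPosRoot r → ht D r = m → ψ (cf r g) = cf r g) :
    fr D ψ (lead hD Lo.flatten m g) = lead hD Lo.flatten m g := by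
  unfold lead
  rw [fr_lprod]
  refine lprod_congr _ fun s hs => ?_
  by_cases hm : ht D s = m
  · rw [if_pos hm, hc s ((O.mem s).1 hs) hm]
  · rw [if_neg hm, map_zero]

include W

theorem yy_sg {τ : ℕ → K} (hτ : ∀ r ∈ Lo.flatten, τ (rho r) = (eps r : K) * φ (τ r)) :
    sg (yy hD Lo τ) = yy hD Lo τ := sg_lprod W hτ

theorem yy_factor {τ : ℕ → K} {k : ℤ} (hτ : ∀ r ∈ Lo.flatten, ht D r < k → τ r = 0) :
    ∀ s ∈ Lo.flatten, xG hD s (τ s) ∈ Lv K hD h k := by
  intro s hs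
  by_cases e : ht D s < k
  · rw [hτ s hs e, xG_zero]
    exact one_mem _
  · exact Lv_anti hD h (not_lt.1 e) (xG_mem_Lv hD h ((isPosRoot_iff W.T s).1 hs) _)

theorem yy_mem_Lv {τ : ℕ → K} {k : ℤ} (hτ : ∀ r ∈ Lo.flatten, ht D r < k → τ r = 0) :
    yy hD Lo τ ∈ Lv K hD h k := lprod_mem_Lv hD h (yy_factor W hτ)

theorem cf_yy {τ : ℕ → K} {k : ℤ} (hτ : ∀ r ∈ Lo.flatten, ht D r < k → τ r = 0) {s : ℕ} (hs : D.IsPosRoot s)
    (hsk : ht D s = k) : cf s (yy hD Lo τ) = τ s :=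
  cf_lprod_L hD h (ord (K := K) hD h W.T) hsk hs (yy_factor W hτ)

theorem ht_iter (j : ℕ) (hj : j < D.nroots) (k : ℕ) : rho^[k] j < D.nroots ∧ ht D (rho^[k] j) = ht D j := by
  induction k with
  | zero => exact ⟨hj, rfl⟩
  | succ k ih =>
    rw [Function.iterate_succ_apply']
    exact ⟨W.T.rho_lt _ ih.1, (W.T.rho_ht _ ih.1).trans ih.2⟩

theorem supp_ht {j : ℕ} (hj : j < D.nroots) {τ : ℕ → K} (hτ : ∀ r ∈ Lo.flatten, (∀ k : ℕ, rho^[k] j ≠ r) → τ r = 0) :
    ∀ r ∈ Lo.flatten, ht D r ≠ ht D j → τ r = 0 := fun r hr hne =>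
  hτ r hr fun k e => hne (by rw [← e]; exact (ht_iter W j hj k).2)

/-- the coordinate of `v` at `s₀` vanishes if the commutators with the fixed elements have vanishing coordinates -/
theorem cf_zero_of_comm (I : Ind D Lo.flatten rho eps φ ψ) {m : ℤ} {v : GL D.Idx K} (hv : v ∈ Lv K hD h m) (hm : 1 ≤ m)
    {s₀ j₀ : ℕ} (hs₀ : D.IsPosRoot s₀) (hs₀m : ht D s₀ = m) (hj₀ : D.IsPosRoot j₀) (hlt : add D j₀ s₀ < D.nroots)
    (Hy : ∀ τ : ℕ → K, (∀ r ∈ Lo.flatten, (∀ k : ℕ, rho^[k] j₀ ≠ r) → τ r = 0) →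
      yy hD Lo τ ∈ Lv K hD h (ht D j₀) → sg (yy hD Lo τ) = yy hD Lo τ → fr D ψ (yy hD Lo τ) = yy hD Lo τ →
      cf (add D j₀ s₀) ⁅yy hD Lo τ, v⁆ = 0) :
    cf s₀ v = 0 := by
  have O := ord (K := K) hD h W.T
  obtain ⟨hp, hht, hk⟩ := pos_of_add hD h hj₀ hs₀ hlt
  have h1 := I j₀ ((isPosRoot_iff W.T _).2 hj₀)
    (fun j => ∑ s ∈ Lo.flatten.toFinset, if add D j s = add D j₀ s₀ then (kap D j s : K) * cf s v else 0) (by
      intro τ hτ1 hτ2 hτ0
      have hτ3 := supp_ht W hj₀.1 hτ0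
      have hτ4 : ∀ r ∈ Lo.flatten, ht D r < ht D j₀ → τ r = 0 := fun r hr hlt => hτ3 r hr (by omega)
      have h2 := Hy τ hτ0 (yy_mem_Lv W hτ4) (yy_sg W hτ1) (yy_fr ψ hτ2)
      rw [cf_comm_bil hD h O (yy_mem_Lv W hτ4) hv (h.pos _ hj₀.1 hj₀) hm hp (by rw [hht, hs₀m])] at h2
      refine Eq.trans ?_ h2
      refine Finset.sum_congr rfl fun j hj => ?_
      have hj' := List.mem_toFinset.1 hj
      by_cases e : ht D j = ht D j₀
      · rw [if_pos e, cf_yy W hτ4 ((isPosRoot_iff W.T _).1 hj') e]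
      · rw [if_neg e, hτ3 j hj' e, zero_mul])
  rw [Finset.sum_eq_single s₀] at h1
  · rw [if_pos rfl] at h1
    have hk' : (kap D j₀ s₀ : K) ≠ 0 := by rcases hk with hk | hk <;> rw [hk] <;> simp
    exact (mul_eq_zero.1 h1).resolve_left hk'
  · intro s hs hne
    rw [if_neg]
    intro he
    apply hne
    have hs' := (O.mem s).1 (List.mem_toFinset.1 hs)
    have h2 := h.add_neg j₀ hj₀.1 s hs'.1 (by rw [he]; exact hlt)
    have h3 := h.add_neg j₀ hj₀.1 s₀ hs₀.1 hlt
    rw [← h2, he, h3]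
  · intro hs'
    exact absurd (List.mem_toFinset.2 ((O.mem s₀).2 hs₀)) hs'

/-- the coordinate of `v` at `s₀` is fixed if the commutators with the fixed elements have fixed coordinates -/
theorem cf_fixed_of_comm (I : Ind D Lo.flatten rho eps φ ψ) {m : ℤ} {v : GL D.Idx K} (hv : v ∈ Lv K hD h m) (hm : 1 ≤ m)
    {s₀ j₀ : ℕ} (hs₀ : D.IsPosRoot s₀) (hs₀m : ht D s₀ = m) (hj₀ : D.IsPosRoot j₀) (hlt : add D j₀ s₀ < D.nroots)
    (Hy : ∀ y, y ∈ Lv K hD h (ht D j₀) → sg y = y → fr D ψ y = y →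
      ψ (cf (add D j₀ s₀) ⁅y, v⁆) = cf (add D j₀ s₀) ⁅y, v⁆) :
    ψ (cf s₀ v) = cf s₀ v := by
  have O := ord (K := K) hD h W.T
  obtain ⟨hp, hht, hk⟩ := pos_of_add hD h hj₀ hs₀ hlt
  obtain ⟨B, hB⟩ : ∃ B : ℕ → K, B = fun j => ∑ s ∈ Lo.flatten.toFinset,
      if add D j s = add D j₀ s₀ then (kap D j s : K) * cf s v else 0 := ⟨_, rfl⟩
  have hB0 : B j₀ = (kap D j₀ s₀ : K) * cf s₀ v := by
    rw [hB]
    simp only
    rw [Finset.sum_eq_single s₀]
    · rw [if_pos rfl]
    · intro s hs hne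
      rw [if_neg]
      intro he
      apply hne
      have hs' := (O.mem s).1 (List.mem_toFinset.1 hs)
      have h2 := h.add_neg j₀ hj₀.1 s hs'.1 (by rw [he]; exact hlt)
      have h3 := h.add_neg j₀ hj₀.1 s₀ hs₀.1 hlt
      rw [← h2, he, h3]
    · intro hs'
      exact absurd (List.mem_toFinset.2 ((O.mem s₀).2 hs₀)) hs'
  have h1 := I j₀ ((isPosRoot_iff W.T _).2 hj₀) (fun j => ψ (B j) - B j) (by
      intro τ hτ1 hτ2 hτ0
      have hτ3 := supp_ht W hj₀.1 hτ0
      have hτ4 : ∀ r ∈ Lo.flatten, ht D r < ht D j₀ → τ r = 0 := fun r hr hlt => hτ3 r hr (by omega)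
      have h2 := Hy _ (yy_mem_Lv W hτ4) (yy_sg W hτ1) (yy_fr ψ hτ2)
      have h3 : cf (add D j₀ s₀) ⁅yy hD Lo τ, v⁆ = ∑ j ∈ Lo.flatten.toFinset, τ j * B j := by
        rw [cf_comm_bil hD h O (yy_mem_Lv W hτ4) hv (h.pos _ hj₀.1 hj₀) hm hp (by rw [hht, hs₀m])]
        refine Finset.sum_congr rfl fun j hj => ?_
        have hj' := List.mem_toFinset.1 hj
        by_cases e : ht D j = ht D j₀
        · rw [if_pos e, cf_yy W hτ4 ((isPosRoot_iff W.T _).1 hj') e, hB]
        · rw [if_neg e, hτ3 j hj' e, zero_mul]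
      rw [h3, map_sum] at h2
      rw [← sub_eq_zero, ← Finset.sum_sub_distrib] at h2
      refine Eq.trans ?_ h2
      refine Finset.sum_congr rfl fun j _ => ?_
      rw [map_mul, hτ2]
      ring)
  have h2 := sub_eq_zero.1 h1
  rw [hB0, map_mul, map_intCast] at h2
  have hk' : (kap D j₀ s₀ : K) ≠ 0 := by rcases hk with hk | hk <;> rw [hk] <;> simp
  exact mul_left_cancel₀ hk' h2

theorem sg_lead {m : ℤ} {g : GL D.Idx K} (hg : g ∈ Lv K hD h m) (hf : sg g = g) :
    sg (lead hD Lo.flatten m g) = lead hD Lo.flatten m g := W.G_fix _ (lead_mem_G W hg hf)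

/-- elements of the highest level -/
theorem eq_top {top : ℕ} (htop : D.IsPosRoot top) (hmax : ∀ r, D.IsPosRoot r → r ≠ top → ht D r < ht D top)
    {g : GL D.Idx K} (hg : g ∈ Lv K hD h (ht D top)) : g = xG hD top (cf top g) := by
  have O := ord (K := K) hD h W.T
  have h1 : (xG hD top (cf top g))⁻¹ * g ∈ Lv K hD h (ht D top + 1) := by
    have hX := xG_mem_Lv (K := K) hD h htop (cf top g)
    refine mem_Lv_succ hD h O (mul_mem (inv_mem hX) hg) fun r hr hrm => ?_
    have hrt : r = top := by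
      by_contra hne
      have := hmax r hr hne
      omega
    subst hrt
    rw [cf_mul_left hD h (inv_mem hX) hg.1, cf_inv hD h hX, cf_xG hD h hr.1 hr.1, if_pos rfl]
    ring
  have h2 := eq_one_of_high W (m := ht D top + 1) (fun r hr => by
    by_cases e : r = top
    · rw [e]; omega
    · have := hmax r hr e
      omega) h1
  exact (inv_mul_eq_one.1 h2).symm

/-- the hypotheses on the subgroup `H` -/
structure OvH (W : Tw hD h Lo rho eps φ sg G) (ψ : K →+* K) (top : ℕ) (H : Subgroup (GL D.Idx K)) : Prop where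
  ind : Ind D Lo.flatten rho eps φ ψ
  top_pos : D.IsPosRoot top
  max : ∀ r, D.IsPosRoot r → r ≠ top → ht D r < ht D top
  climb : ∀ r ∈ Lo.flatten, r ≠ top → ∃ j ∈ Lo.flatten, add D j r < D.nroots
  le : H ≤ G
  memU : ∀ u ∈ D.posUnipotent K, sg u = u → fr D ψ u = u → u ∈ H
  memX : ∀ t : K, xG hD top t ∈ H → ψ t = t

end Tw

section Ov

variable {D : ChevalleyDatum} {K : Type u} [Field K] {hD : InList D} {h : SL D} {Lo : List (List ℕ)}
  {rho : ℕ → ℕ} {eps : ℕ → ℤ} {φ : K →+* K} {sg : GL D.Idx K →* GL D.Idx K} {G : Subgroup (GL D.Idx K)}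
  {W : Tw hD h Lo rho eps φ sg G} {ψ : K →+* K} {top : ℕ} {H : Subgroup (GL D.Idx K)} (V : OvH W ψ top H)

include V

/-- `H ∩ U` is fixed entrywise -/
theorem OvH.fix_U : ∀ u ∈ H, u ∈ D.posUnipotent K → fr D ψ u = u := by
  have O := ord (K := K) hD h W.T
  obtain ⟨N, hN⟩ : ∃ N : ℕ, ∀ r, D.IsPosRoot r → ht D r < N := by
    refine ⟨(ht D top).toNat + 1, fun r hr => ?_⟩
    have h1 := h.pos top V.top_pos.1 V.top_pos
    by_cases e : r = top
    · rw [e]; omega
    · have := V.max r hr e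
      omega
  have key : ∀ n : ℕ, ∀ m : ℤ, 1 ≤ m → (N : ℤ) ≤ m + n → ∀ u ∈ H, u ∈ Lv K hD h m → fr D ψ u = u := by
    intro n
    induction n with
    | zero =>
      intro m _ hm u _ hu
      rw [eq_one_of_high W (fun r hr => lt_of_lt_of_le (hN r hr) (by simpa using hm)) hu, map_one]
    | succ n ih =>
      intro m hm1 hm u huH hu
      push_cast at hm
      have hsg := W.G_fix u (V.le huH)
      have hc : ∀ r, D.IsPosRoot r → ht D r = m → ψ (cf r u) = cf r u := by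
        intro r hr hrm
        by_cases e : r = top
        · subst e
          refine V.memX _ ?_
          rw [← eq_top W V.top_pos V.max (by rw [hrm]; exact hu)]
          exact huH
        · obtain ⟨j, hj, hlt⟩ := V.climb r ((O.mem r).2 hr) e
          have hj' := (O.mem j).1 hj
          have hjk := h.pos j hj'.1 hj'
          refine cf_fixed_of_comm W ψ V.ind hu hm1 hr hrm hj' hlt fun y hy hys hyf => ?_
          have hyH := V.memU y hy.1 hys hyf
          have h1 : ⁅y, u⁆ ∈ H := by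
            rw [commutatorElement_def]
            exact mul_mem (mul_mem (mul_mem hyH huH) (inv_mem hyH)) (inv_mem huH)
          exact cf_of_fr ψ (ih (ht D j + m) (by omega) (by omega) _ h1 (comm_mem_Lv hD h hy hu))
      have h1 := fr_of_lead ψ O hc
      have h2 := V.memU _ (lead_mem hD h O m u).1 (sg_lead W hu hsg) h1
      have h3 := ih (m + 1) (by omega) (by omega) _ (mul_mem (inv_mem h2) huH) (lead_inv_mul_mem hD h O hu)
      rw [map_mul, map_inv, h1] at h3
      exact mul_left_cancel h3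
  intro u huH hu
  exact key N 1 le_rfl (by omega) u huH (by rw [Lv_one]; exact hu)

/-- a torus element times a unipotent element -/
theorem OvH.split_vt {v t : GL D.Idx K} (hv : v ∈ D.posUnipotent K) (hvs : sg v = v)
    (ht : t ∈ D.diagonalSubgroup K) (hts : sg t = t) (htf : fr D ψ t = t) (hg : v * t ∈ H) :
    ∃ v₀ ∈ H, v₀ ∈ D.posUnipotent K ∧ fr D ψ v₀ = v₀ ∧ ∃ e : K, v = v₀ * xG hD top e := by
  have O := ord (K := K) hD h W.T
  have key : ∀ n : ℕ, (n : ℤ) + 1 ≤ H82.Level.ht D top → ∃ v₀ ∈ H, v₀ ∈ D.posUnipotent K ∧ fr D ψ v₀ = v₀ ∧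
      ∃ v₁ ∈ Lv K hD h (n + 1), sg v₁ = v₁ ∧ v = v₀ * v₁ := by
    intro n
    induction n with
    | zero =>
      intro _
      refine ⟨1, one_mem _, one_mem _, map_one _, v, ?_, hvs, (one_mul v).symm⟩
      rw [Nat.cast_zero, zero_add, Lv_one]
      exact hv
    | succ n ih =>
      intro hn
      push_cast at hn
      obtain ⟨v₀, hv₀, hv₀U, hv₀f, v₁, hv₁, hv₁s, e⟩ := ih (by omega)
      have hg1 : v₁ * t ∈ H := by
        have e1 : v₁ * t = v₀⁻¹ * (v * t) := by rw [e]; group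
        rw [e1]
        exact mul_mem (inv_mem hv₀) hg
      have hm1 : (1 : ℤ) ≤ n + 1 := by omega
      have hc : ∀ r, D.IsPosRoot r → H82.Level.ht D r = n + 1 → ψ (cf r v₁) = cf r v₁ := by
        intro r hr hrm
        have hrt : r ≠ top := by
          rintro rfl
          omega
        obtain ⟨j, hj, hlt⟩ := V.climb r ((O.mem r).2 hr) hrt
        have hj' := (O.mem j).1 hj
        refine cf_fixed_of_comm W ψ V.ind hv₁ hm1 hr hrm hj' hlt fun y hy hys hyf => ?_
        have hz : t⁻¹ * y * t⁻¹⁻¹ ∈ H := by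
          refine V.memU _ (diag_conj_pos hD h (inv_mem ht) hy.1) ?_ ?_
          · rw [map_mul, map_mul, map_inv, map_inv, map_inv, hts, hys]
          · rw [map_mul, map_mul, map_inv, map_inv, map_inv, htf, hyf]
        have hyH := V.memU y hy.1 hys hyf
        have h1 : ⁅y, v₁⁆ ∈ H := by
          have e1 : ⁅y, v₁⁆ = y * ((v₁ * t) * (t⁻¹ * y * t⁻¹⁻¹) * (v₁ * t)⁻¹)⁻¹ := by
            rw [commutatorElement_def]; group
          rw [e1]
          exact mul_mem hyH (inv_mem (mul_mem (mul_mem hg1 hz) (inv_mem hg1)))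
        exact cf_of_fr ψ (V.fix_U _ h1 (comm_mem_Lv hD h hy hv₁).1)
      have h1 := fr_of_lead ψ O hc
      have h2 := V.memU _ (lead_mem hD h O _ v₁).1 (sg_lead W hv₁ hv₁s) h1
      have h2s := sg_lead W hv₁ hv₁s
      refine ⟨v₀ * lead hD Lo.flatten (n + 1) v₁, mul_mem hv₀ h2, mul_mem hv₀U (lead_mem hD h O _ v₁).1,
        by rw [map_mul, hv₀f, h1], (lead hD Lo.flatten (n + 1) v₁)⁻¹ * v₁, ?_, ?_, ?_⟩
      · push_cast
        exact lead_inv_mul_mem hD h O hv₁
      · rw [map_mul, map_inv, h2s, hv₁s]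
      · rw [e]; group
  have h1 := h.pos top V.top_pos.1 V.top_pos
  obtain ⟨v₀, hv₀, hv₀U, hv₀f, v₁, hv₁, hv₁s, e⟩ := key ((H82.Level.ht D top).toNat - 1) (by omega)
  refine ⟨v₀, hv₀, hv₀U, hv₀f, cf top v₁, ?_⟩
  rw [e]
  congr 1
  refine eq_top W V.top_pos V.max ?_
  have e1 : (((H82.Level.ht D top).toNat - 1 : ℕ) : ℤ) + 1 = H82.Level.ht D top := by omega
  rw [e1] at hv₁
  exact hv₁

end Ov

end Cfsg.Agent.H28.TwOv
end

-- part: H28/TwOv/Stage
section
/-!
# Overgroups of the subfield subgroups of twisted groups: the Borel part and the Bruhat induction (S2187, X6)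

* `OvH.fix_B` : `H ∩ B` is fixed;
* `stage` : a stage of the chain;
* `bruhat_ind` : every `b n u ∈ H` is fixed or `w⁻¹` maps the highest root to the lowest one.
-/

set_option autoImplicit false

namespace Cfsg.Agent.H28.TwOv

open Cfsg.Lie Cfsg.Agent.ChevalleyStructure Cfsg.Agent.ChevalleyStructure.Elts
open Cfsg.Agent.ChevalleyStructure.TwistedU Cfsg.Agent.H82.Level Cfsg.Agent.H82.TwMax
open Cfsg.Agent.ChevalleyStructure.RootCombGood (co car)
open Cfsg.Agent.ChevalleyStructure.RootWord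
open Cfsg.Agent.ChevalleyStructure.BruhatSplit (Acts)
open Cfsg.Agent.ChevalleyStructure.TwistedBN
open scoped commutatorElement

universe u

section B

variable {D : ChevalleyDatum} {K : Type u} [Field K] {hD : InList D} {h : SL D} {Lo : List (List ℕ)}
  {rho : ℕ → ℕ} {eps : ℕ → ℤ} {φ : K →+* K} {sg : GL D.Idx K →* GL D.Idx K} {G : Subgroup (GL D.Idx K)}
  {W : Tw hD h Lo rho eps φ sg G} {ψ : K →+* K} {top : ℕ} {H : Subgroup (GL D.Idx K)} (V : OvH W ψ top H)

include W in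
/-- an element of `H` with all simple coordinates one -/
theorem exists_reg (V : OvH W ψ top H) (he : ∀ r ∈ Lo.flatten, ht D r = 1 → eps r = 1) :
    ∃ e ∈ H, e ∈ D.posUnipotent K ∧ ∀ i < D.rank, cf (D.simple i) e = 1 := by
  have Gd := RootComb.good_of_mem hD
  obtain ⟨τ, hτ⟩ : ∃ τ : ℕ → K, τ = fun r => if ht D r = 1 then 1 else 0 := ⟨_, rfl⟩
  have h1 : ∀ r ∈ Lo.flatten, τ (rho r) = (eps r : K) * φ (τ r) := by
    intro r hr
    rw [hτ]
    simp only
    rw [W.T.rho_ht r (W.T.lt r hr)]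
    by_cases e : ht D r = 1
    · rw [if_pos e, map_one, he r hr e, Int.cast_one, one_mul]
    · rw [if_neg e, map_zero, mul_zero]
  have h2 : ∀ r, ψ (τ r) = τ r := by
    intro r
    rw [hτ]
    simp only
    by_cases e : ht D r = 1
    · rw [if_pos e, map_one]
    · rw [if_neg e, map_zero]
  have h3 : ∀ r ∈ Lo.flatten, ht D r < 1 → τ r = 0 := by
    intro r _ hr
    rw [hτ]
    simp only
    rw [if_neg (by omega)]
  have h4 := yy_mem_Lv W h3
  refine ⟨yy hD Lo τ, V.memU _ h4.1 (yy_sg W h1) (yy_fr ψ h2), h4.1, fun i hi => ?_⟩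
  rw [cf_yy W h3 (Gd.simple_pos hi) (h.simple i hi), hτ]
  simp only
  rw [if_pos (h.simple i hi)]

include V in
/-- Step B: the elements of `H ∩ B` are fixed entrywise. -/
theorem OvH.fix_B (he : ∀ r ∈ Lo.flatten, ht D r = 1 → eps r = 1) {β : ℕ} (hβ : β < D.nroots) (hβt : β ≠ top)
    (hβn : β ≠ D.neg top) (hα : D.IsPosRoot (add D top β))
    (hβs : ∀ c : K, sg (xG hD β c) = xG hD β (φ c)) (hβH : ∀ c : K, φ c = c → ψ c = c → xG hD β c ∈ H)
    {v t : GL D.Idx K} (hv : v ∈ D.posUnipotent K) (hvs : sg v = v) (ht : t ∈ D.diagonalSubgroup K) (hts : sg t = t)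
    (hg : v * t ∈ H) : fr D ψ (v * t) = v * t := by
  have hA := V.fix_U
  -- `t` is fixed
  obtain ⟨e, heH, heU, hce⟩ := exists_reg V he
  have h1 : fr D ψ t = t := by
    refine fr_diag hD ψ ht (chi_fix hD h ψ ht fun i hi => ?_)
    have h2 : v * t * e * (v * t)⁻¹ = v * (t * e * t⁻¹) * v⁻¹ := by group
    have h3 : t * e * t⁻¹ ∈ D.posUnipotent K := diag_conj_pos hD h ht heU
    have h4 : v * (t * e * t⁻¹) * v⁻¹ ∈ D.posUnipotent K := mul_mem (mul_mem hv h3) (inv_mem hv)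
    have h5 := hA _ (h2 ▸ mul_mem (mul_mem hg heH) (inv_mem hg)) h4
    have h6 := cf_of_fr ψ (r := D.simple i) h5
    rw [cf_conj hD h (by rw [h.simple i hi, Lv_one]; exact h3) hv, cf_diag_conj hD ht, hce i hi, mul_one] at h6
    exact h6
  obtain ⟨v₀, hv₀, hv₀U, hv₀f, a, ha⟩ := V.split_vt hv hvs ht hts h1 hg
  have hg1 : xG hD top a * t ∈ H := by
    have e1 : xG hD top a * t = v₀⁻¹ * (v * t) := by rw [ha]; group
    rw [e1]
    exact mul_mem (inv_mem hv₀) hg
  obtain ⟨χ, hχ⟩ : ∃ χ, χ = chi D t β := ⟨_, rfl⟩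
  have hχ0 : χ ≠ 0 := by rw [hχ]; exact chi_ne_zero hD ht β
  have hc1 : t * xG hD β 1 * t⁻¹ = xG hD β χ := by rw [diag_conj_X hD h ht hβ, mul_one, hχ]
  have hχφ : φ χ = χ := by
    have h2 := congrArg sg hc1
    rw [map_mul, map_mul, map_inv, hts, hβs, map_one, hc1, hβs] at h2
    exact (xG_injective hD hβ h2).symm
  have hχψ : ψ χ = χ := by
    have h2 := congrArg (fr D ψ) hc1
    rw [map_mul, map_mul, map_inv, h1, fr_X, map_one, hc1, fr_X] at h2
    exact (xG_injective hD hβ h2).symm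
  have hβ1 : xG hD β (1 : K) ∈ H := hβH 1 (map_one φ) (map_one ψ)
  have hβχ : xG hD β χ ∈ H := hβH χ hχφ hχψ
  have h2 : ⁅(xG hD top a : GL D.Idx K), xG hD β χ⁆ ∈ H := by
    have e1 : ⁅(xG hD top a : GL D.Idx K), xG hD β χ⁆ = (xG hD top a * t) * xG hD β 1 * (xG hD top a * t)⁻¹ *
        (xG hD β χ)⁻¹ := by
      rw [← hc1, commutatorElement_def]; group
    rw [e1]
    exact mul_mem (mul_mem (mul_mem hg1 hβ1) (inv_mem hg1)) (inv_mem hβχ)
  rw [comm_X hD h V.top_pos.1 hβ hβt hβn] at h2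
  have h3 : xG hD (add D top β) ((kap D top β : K) * (a * χ)) ∈ H := by
    have e1 : xG hD (add D top β) ((kap D top β : K) * (a * χ)) = (xG hD β χ)⁻¹ * (xG hD β χ *
        xG hD (add D top β) ((kap D top β : K) * (a * χ)) * (xG hD β χ)⁻¹) * xG hD β χ := by group
    rw [e1]
    exact mul_mem (mul_mem (inv_mem hβχ) h2) hβχ
  have h4 := hA _ h3 (xG_mem_posUnipotent hD hα _)
  rw [fr_X] at h4
  have h5 := xG_injective hD hα.1 h4
  rw [map_mul, map_intCast, map_mul, hχψ] at h5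
  have hk : (kap D top β : K) ≠ 0 := by
    rcases h.comm top V.top_pos.1 β hβ hβt hβn with ⟨-, h6⟩ | ⟨-, -, h6, -⟩
    · exact absurd hα.1 (by omega)
    · rcases h6 with h6 | h6 <;> rw [h6] <;> simp
  have h6 : ψ a = a := mul_right_cancel₀ hχ0 (mul_left_cancel₀ hk h5)
  rw [ha, map_mul, map_mul, hv₀f, h1, fr_X, h6]

end B

/-! ### The stages -/

/-- The condition on a root `γ = w⁻¹ δ` and a class `o` of simple roots under which the coordinates of `u` at the
class are fixed. -/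
def CaseP (D : ChevalleyDatum) (betas : List ℕ) (γ δ : ℕ) (o : List ℕ) : Prop :=
  (D.IsPosRoot γ ∧ ht D γ < ht D δ ∧ ∃ j ∈ o, add D γ (D.simple j) < D.nroots) ∨
  (∃ β ∈ betas, (∀ s < D.nroots, D.IsPosRoot s → ht D β + 1 ≤ ht D s → γ ≠ s ∧ γ ≠ D.neg s ∧
      add D s γ = D.nroots) ∧ γ ≠ β ∧ γ ≠ D.neg β ∧ D.IsPosRoot (add D β γ) ∧ add D β γ ≠ γ ∧
      add D β γ ≠ D.neg γ ∧ add D γ (add D β γ) = D.nroots ∧
      ∃ j ∈ o, add D (add D β γ) (D.simple j) < D.nroots)

/-- The table condition for a stage of the chain. -/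
def StageP (D : ChevalleyDatum) (rho : ℕ → ℕ) (cl : List (List ℕ)) (betas pre : List ℕ) (δ : ℕ) : Prop :=
  ∀ γ < D.nroots, rho γ = γ → γ ≠ δ → γ ≠ 0 → (∀ d ∈ pre, car D γ d = car D δ d) →
    ∃ o ∈ cl, (∀ j ∈ o, (∀ d ∈ pre, car D (D.simple j) d = 0) ∧ car D (D.simple j) γ < 0) ∧
      CaseP D betas γ δ o

set_option synthInstance.maxHeartbeats 400000 in
set_option synthInstance.maxSize 2000 in
instance decCaseP (D : ChevalleyDatum) (betas : List ℕ) (γ δ : ℕ) (o : List ℕ) :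
    Decidable (CaseP D betas γ δ o) := by
  unfold CaseP
  infer_instance

set_option synthInstance.maxHeartbeats 400000 in
set_option synthInstance.maxSize 2000 in
instance decStageP (D : ChevalleyDatum) (rho : ℕ → ℕ) (cl : List (List ℕ)) (betas pre : List ℕ)
    (δ : ℕ) : Decidable (StageP D rho cl betas pre δ) := by
  unfold StageP
  infer_instance

section Tw

variable {D : ChevalleyDatum} {K : Type u} [Field K] {hD : InList D} {h : SL D} {Lo : List (List ℕ)}
  {rho : ℕ → ℕ} {eps : ℕ → ℤ} {φ : K →+* K} {sg : GL D.Idx K →* GL D.Idx K} {G : Subgroup (GL D.Idx K)}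
  (W : Tw hD h Lo rho eps φ sg G) {ψ : K →+* K}

include W

/-- the coordinates of a class are fixed if one of them is -/
theorem cf_iter (hc : ∀ t, ψ (φ t) = φ (ψ t)) {r : ℕ} (hr : D.IsPosRoot r) (h1 : ht D r = 1) {u : GL D.Idx K}
    (hu : u ∈ D.posUnipotent K) (huG : u ∈ G) (hf : ψ (cf r u) = cf r u) (k : ℕ) :
    D.IsPosRoot (rho^[k] r) ∧ ht D (rho^[k] r) = 1 ∧ ψ (cf (rho^[k] r) u) = cf (rho^[k] r) u := by
  induction k with
  | zero => exact ⟨hr, h1, hf⟩
  | succ k ih =>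
    obtain ⟨i1, i2, i3⟩ := ih
    rw [Function.iterate_succ_apply']
    refine ⟨rho_pos W i1, by rw [W.T.rho_ht _ i1.1, i2], ?_⟩
    have h2 := cf_rho W i1 (g := u) (by rw [i2, Lv_one]; exact hu) (W.G_fix u huG)
    rw [h2, map_mul, map_intCast, hc, i3]

/-- stage with `w⁻¹ δ` positive -/
theorem stage_pos {H : Subgroup (GL D.Idx K)} (hA : ∀ u ∈ H, u ∈ D.posUnipotent K → fr D ψ u = u)
    {δ : ℕ} {m : ℤ} (hδ : D.IsPosRoot δ) (hm : ht D δ = m)
    (huniq : ∀ s, D.IsPosRoot s → ht D s = m → s = δ) (hδH : xG hD δ (1 : K) ∈ H) {b n u : GL D.Idx K} {w : List ℕ}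
    (hb : b ∈ D.borelSubgroup K) (hn : NW rho G n w) (hu : u ∈ D.posUnipotent K) (hg : b * n * u ∈ H)
    (hfix : ∀ s, D.IsPosRoot s → m + 1 ≤ ht D s → wact D w s = s)
    (hγ : D.IsPosRoot (wact D w.reverse δ)) (hγm : ht D (wact D w.reverse δ) < m)
    {j : ℕ} (hj : D.IsPosRoot j) (hj1 : ht D j = 1) (hlt : add D (wact D w.reverse δ) j < D.nroots) :
    ψ (cf j u) = cf j u := by
  have O := ord (K := K) hD h W.T
  obtain ⟨c, hc, τ, hτ, e⟩ := stage1 W hδ hm huniq hb hn hu hfix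
  have hz : (b * n * u)⁻¹ * xG hD δ 1 * (b * n * u) ∈ H := mul_mem (mul_mem (inv_mem hg) hδH) hg
  rw [e] at hz
  have hzU : u⁻¹ * xG hD (wact D w.reverse δ) c * u * τ ∈ D.posUnipotent K :=
    mul_mem (mul_mem (mul_mem (inv_mem hu) (xG_mem_posUnipotent hD hγ c)) hu) hτ.1
  have hf := hA _ hz hzU
  have hp := pos_of_add hD h hγ hj hlt
  refine LS hD h O ψ hγ hj hj1 hlt hu hc (y := 1) (τ := τ) (one_mem _) (Lv_anti hD h (by omega) hτ) (cf_one _)
    ?_ ?_ ?_
  · rw [mul_one, cf_xG hD h hp.1.1 hγ.1, if_neg]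
    intro he
    have := hp.2.1
    rw [he] at this
    omega
  · rw [commutatorElement_one_right, cf_one]
  · rw [mul_one]
    exact hf

/-- stage with `w⁻¹ α` negative, `α` the highest root -/
theorem stage_neg {H : Subgroup (GL D.Idx K)} (hA : ∀ u ∈ H, u ∈ D.posUnipotent K → fr D ψ u = u)
    {α : ℕ} {m : ℤ} (hα : D.IsPosRoot α) (hm : ht D α = m)
    (huniq : ∀ s, D.IsPosRoot s → ht D s = m → s = α) (htop : ∀ s, D.IsPosRoot s → ht D s ≤ m)
    (hαH : xG hD α (1 : K) ∈ H) {b n u : GL D.Idx K} {w : List ℕ}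
    (hb : b ∈ D.borelSubgroup K) (hn : NW rho G n w) (hu : u ∈ D.posUnipotent K) (hg : b * n * u ∈ H)
    {γ β : ℕ} (hγ : wact D w.reverse α = γ) (hβ : D.IsPosRoot β) (hβH : xG hD β (1 : K) ∈ H)
    (hc : ∀ s, D.IsPosRoot s → ht D β + 1 ≤ ht D s → γ ≠ s ∧ γ ≠ D.neg s ∧ add D s γ = D.nroots)
    (h1 : γ ≠ β) (h2 : γ ≠ D.neg β) (h3 : D.IsPosRoot (add D β γ)) (h4 : add D β γ ≠ γ)
    (h5 : add D β γ ≠ D.neg γ) (h6 : add D γ (add D β γ) = D.nroots)
    {j : ℕ} (hj : D.IsPosRoot j) (hj1 : ht D j = 1) (hlt : add D (add D β γ) j < D.nroots) :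
    ψ (cf j u) = cf j u := by
  have O := ord (K := K) hD h W.T
  have Gd := RootComb.good_of_mem hD
  have hγlt : γ < D.nroots := by
    rw [← hγ]
    exact wact_lt Gd (fun a ha => hn.lt a (List.mem_reverse.1 ha)) hα.1
  obtain ⟨c, hc0, τ, hτ, e⟩ := stage1 W hα hm huniq hb hn hu (fun s hs hms => absurd (htop s hs) (by omega))
  have hτ1 : τ = 1 := eq_one_of_high W (fun r hr => by have := htop r hr; omega) hτ
  rw [hτ1, mul_one, hγ] at e
  have hz : (b * n * u)⁻¹ * xG hD α 1 * (b * n * u) ∈ H := mul_mem (mul_mem (inv_mem hg) hαH) hg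
  rw [e] at hz
  have hz2 : ⁅(xG hD β (1 : K) : GL D.Idx K), u⁻¹ * xG hD γ c * u⁆ ∈ H := by
    rw [commutatorElement_def]
    exact mul_mem (mul_mem (mul_mem hβH hz) (inv_mem hβH)) (inv_mem hz)
  have hτ2 : ⁅(xG hD β (1 : K) : GL D.Idx K)⁻¹, u⁆ ∈ Lv K hD h (ht D β + 1) :=
    comm_mem_Lv hD h (inv_mem (xG_mem_Lv hD h hβ 1)) (by rw [Lv_one]; exact hu)
  have hcm := commute_of_Lv W hγlt hc hτ2 c
  have e2 : ⁅(xG hD β (1 : K) : GL D.Idx K), u⁻¹ * xG hD γ c * u⁆ =
      u⁻¹ * ⁅(xG hD β (1 : K) : GL D.Idx K), xG hD γ c⁆ * u := by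
    obtain ⟨y, hy⟩ : ∃ y, y = ⁅(xG hD β (1 : K) : GL D.Idx K)⁻¹, u⁆ := ⟨_, rfl⟩
    rw [← hy] at hcm
    have e3 : u * xG hD β (1 : K) * u⁻¹ = xG hD β (1 : K) * y := by
      rw [hy, commutatorElement_def]; group
    have e4 : ⁅(xG hD β (1 : K) : GL D.Idx K), u⁻¹ * xG hD γ c * u⁆ =
        u⁻¹ * ⁅u * xG hD β (1 : K) * u⁻¹, xG hD γ c⁆ * u := by
      rw [commutatorElement_def, commutatorElement_def]; group
    rw [e4, e3]
    congr 2
    rw [commutatorElement_def, commutatorElement_def, mul_inv_rev]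
    calc xG hD β 1 * y * xG hD γ c * (y⁻¹ * (xG hD β 1)⁻¹) * (xG hD γ c)⁻¹
        = xG hD β 1 * (y * xG hD γ c) * (y⁻¹ * (xG hD β 1)⁻¹) * (xG hD γ c)⁻¹ := by group
      _ = xG hD β 1 * (xG hD γ c * y) * (y⁻¹ * (xG hD β 1)⁻¹) * (xG hD γ c)⁻¹ := by rw [hcm.eq]
      _ = _ := by group
  have e5 : ⁅(xG hD β (1 : K) : GL D.Idx K), xG hD γ c⁆ = xG hD (add D β γ) ((kap D β γ : K) * (1 * c)) := by
    rw [comm_X hD h hβ.1 hγlt h1 h2]
    have h7 : Commute (xG hD γ c : GL D.Idx K) (xG hD (add D β γ) ((kap D β γ : K) * (1 * c))) := by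
      rw [← commutatorElement_eq_one_iff_commute, comm_X hD h hγlt h3.1 h4 h5, h6,
        xG_of_not_lt hD (lt_irrefl _), mul_one, mul_inv_cancel]
    rw [h7.eq]
    group
  rw [e2, e5] at hz2
  have hk : (kap D β γ : K) * (1 * c) ≠ 0 := by
    rcases h.comm β hβ.1 γ hγlt h1 h2 with ⟨-, h8⟩ | ⟨-, -, h8, -⟩
    · have := h3.1
      omega
    · rw [one_mul]
      refine mul_ne_zero ?_ hc0
      rcases h8 with h8 | h8 <;> rw [h8] <;> simp
  generalize (kap D β γ : K) * (1 * c) = c' at hz2 hk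
  have hzU : u⁻¹ * xG hD (add D β γ) c' * u ∈ D.posUnipotent K :=
    mul_mem (mul_mem (inv_mem hu) (xG_mem_posUnipotent hD h3 c')) hu
  have hf := hA _ hz2 hzU
  have hp := pos_of_add hD h h3 hj hlt
  refine LS hD h O ψ h3 hj hj1 hlt hu hk (y := 1) (τ := 1) (one_mem _) (one_mem _) (cf_one _) ?_ ?_ ?_
  · rw [mul_one, cf_xG hD h hp.1.1 h3.1, if_neg]
    intro he
    have := hp.2.1
    rw [he] at this
    omega
  · rw [commutatorElement_one_right, cf_one]
  · rw [mul_one, mul_one]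
    exact hf

/-- a stage of the chain -/
theorem stage {H : Subgroup (GL D.Idx K)} (hcφ : ∀ t, ψ (φ t) = φ (ψ t))
    (hA : ∀ u ∈ H, u ∈ D.posUnipotent K → fr D ψ u = u)
    {cl : List (List ℕ)} {betas pre : List ℕ} {δ : ℕ} (hS : StageP D rho cl betas pre δ)
    (hLP : LP D pre δ) (hcl : ∀ o ∈ cl, ∀ j ∈ o, j < D.rank)
    (horb : ∀ o ∈ cl, ∀ j ∈ o, ∀ j' ∈ o, ∃ k, rho^[k] (D.simple j) = D.simple j')
    (hbetas : ∀ β ∈ betas, D.IsPosRoot β ∧ xG hD β (1 : K) ∈ H) (hb0 : betas ≠ [] → ∀ s, D.IsPosRoot s → ht D s ≤ ht D δ)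
    (hpre : ∀ d ∈ pre, d < D.nroots) (hδ : D.IsPosRoot δ)
    (hrδ : rho δ = δ)
    (huniq : ∀ s, D.IsPosRoot s → ht D s = ht D δ → s = δ) (hδH : xG hD δ (1 : K) ∈ H)
    (hhigh : ∀ s, D.IsPosRoot s → ht D δ + 1 ≤ ht D s → s ∈ pre) {b n u : GL D.Idx K} {w : List ℕ}
    (hb : b ∈ D.borelSubgroup K) (hn : NW rho G n w) (hu : u ∈ D.posUnipotent K) (huG : u ∈ G) (hg : b * n * u ∈ H)
    (hw : ∀ d ∈ pre, wact D w d = d) (hne : wact D w.reverse δ ≠ δ) (hn0 : wact D w.reverse δ ≠ 0) :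
    ∃ o ∈ cl, (∀ j ∈ o, D.IsNegRoot (wact D w (D.simple j))) ∧
      (∀ j ∈ o, ψ (cf (D.simple j) u) = cf (D.simple j) u) ∧
      ∀ j ∈ o, (∀ d ∈ pre, car D (D.simple j) d = 0) ∧ car D (D.simple j) (wact D w.reverse δ) < 0 := by
  have Gd := RootComb.good_of_mem hD
  have hwr : ∀ a ∈ w.reverse, a < D.rank := fun a ha => hn.lt a (List.mem_reverse.1 ha)
  obtain ⟨γ, hγ⟩ : ∃ γ, γ = wact D w.reverse δ := ⟨_, rfl⟩
  have hγlt : γ < D.nroots := by rw [hγ]; exact wact_lt Gd hwr hδ.1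
  have hwγ : wact D w γ = δ := by rw [hγ]; exact wact_reverse' Gd hn.lt hδ.1
  have hγδ : γ ≠ δ := by rw [hγ]; exact hne
  have hργ : rho γ = γ := by
    refine wact_inj Gd hn.lt (W.T.rho_lt γ hγlt) hγlt ?_
    rw [hn.comm γ hγlt, hwγ, hrδ]
  have hpair : ∀ d ∈ pre, car D γ d = car D δ d := by
    intro d hd
    have h1 := car_wact Gd hn.lt hγlt (hpre d hd)
    rw [hwγ, hw d hd] at h1
    exact h1.symm
  obtain ⟨o, ho, hj, hcase⟩ := hS γ hγlt hργ hγδ (by rw [hγ]; exact hn0) hpair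
  refine ⟨o, ho, fun j hjo => ?_, ?_, by rw [← hγ]; exact hj⟩
  · have hjr := hcl o ho j hjo
    have hsl := Gd.simple_lt hjr
    rcases pos_or_neg Gd (wact_lt Gd hn.lt hsl) with hp | hp
    · exfalso
      have h1 := hLP _ (wact_lt Gd hn.lt hsl) hp (fun d hd => by
        have h2 := car_wact Gd hn.lt hsl (hpre d hd)
        rw [hw d hd] at h2
        rw [h2]
        exact (hj j hjo).1 d hd)
      have h2 := car_wact Gd hn.lt hsl hγlt
      rw [hwγ] at h2
      rw [h2] at h1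
      have := (hj j hjo).2
      omega
    · exact hp
  · have hone : (∃ j ∈ o, ψ (cf (D.simple j) u) = cf (D.simple j) u) →
        ∀ j ∈ o, ψ (cf (D.simple j) u) = cf (D.simple j) u := by
      rintro ⟨j, hj1, hj2⟩ j' hj'
      obtain ⟨k, hk⟩ := horb o ho j hj1 j' hj'
      have hjr := hcl o ho j hj1
      have := cf_iter W hcφ (Gd.simple_pos hjr) (h.simple j hjr) hu huG hj2 k
      rw [hk] at this
      exact this.2.2
    apply hone
    rcases hcase with ⟨hp, hlt, j, hjo, hadd⟩ | ⟨β, hβ, hc, h1, h2, h3, h4, h5, h6, j, hjo, hadd⟩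
    · have hjr := hcl o ho j hjo
      refine ⟨j, hjo, ?_⟩
      refine stage_pos W hA hδ rfl huniq hδH hb hn hu hg (fun s hs hms => hw s (hhigh s hs hms)) ?_ ?_
        (Gd.simple_pos hjr) (h.simple j hjr) ?_
      · rw [← hγ]; exact hp
      · rw [← hγ]; exact hlt
      · rw [← hγ]; exact hadd
    · have hjr := hcl o ho j hjo
      refine ⟨j, hjo, ?_⟩
      exact stage_neg W hA hδ rfl huniq (hb0 (by rintro rfl; simp at hβ)) hδH hb hn hu hg hγ.symm (hbetas β hβ).1
        (hbetas β hβ).2 (fun s hs hms => hc s hs.1 hs hms) h1 h2 h3 h4 h5 h6 (Gd.simple_pos hjr) (h.simple j hjr) hadd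

end Tw

/-! ### The Bruhat induction -/

section Ind

variable {D : ChevalleyDatum} {K : Type u} [Field K] (hD : InList D) (rho : ℕ → ℕ) (G : Subgroup (GL D.Idx K))
  (ψ : K →+* K) {ι : Type*} (J : ι → List ℕ) (nh : ι → GL D.Idx K) (H : Subgroup (GL D.Idx K))

/-- the classes of simple roots and the corresponding elements of `N ∩ H` -/
structure ClsP : Prop where
  rho_lt : ∀ r < D.nroots, rho r < D.nroots
  J_ne : ∀ i, J i ≠ []
  J_orth : ∀ i, (J i).Pairwise fun j j' => D.reflectRoot j (D.simple j') = D.simple j' ∧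
    D.reflectRoot j' (D.simple j) = D.simple j
  nhW : ∀ i, NW rho G (nh i) (J i)
  nh_fr : ∀ i, fr D ψ (nh i) = nh i
  nh_mem : ∀ i, nh i ∈ H
  split : ∀ i, ∀ u ∈ D.posUnipotent K, u ∈ G →
    (∀ j ∈ J i, ψ (cf (D.simple j) u) = cf (D.simple j) u) →
    ∃ v x, x ∈ H ∧ fr D ψ x = x ∧ v ∈ G ∧ nh i * v * (nh i)⁻¹ ∈ D.posUnipotent K ∧ u = v * x

variable {rho G ψ J nh H}

include hD in
/-- **The Bruhat induction.** -/
theorem bruhat_ind (C : ClsP rho G ψ J nh H) {top bot : ℕ}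
    (hHG : H ≤ G) (hB : ∀ g ∈ H, g ∈ D.borelSubgroup K → fr D ψ g = g)
    (key : ∀ (w : List ℕ) (b n u : GL D.Idx K), b ∈ D.borelSubgroup K → b ∈ G → NW rho G n w →
      u ∈ D.posUnipotent K → u ∈ G → b * n * u ∈ H →
      (∀ i < D.rank, D.IsPosRoot (wact D w (D.simple i))) ∨ wact D w.reverse top = bot ∨
      ∃ i, (∀ j ∈ J i, D.IsNegRoot (wact D w (D.simple j))) ∧
        (∀ j ∈ J i, ψ (cf (D.simple j) u) = cf (D.simple j) u) ∧ wact D (J i) (wact D w.reverse top) ≠ bot) :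
    ∀ (k : ℕ) (w : List ℕ) (b n u : GL D.Idx K), inv D w ≤ k → b ∈ D.borelSubgroup K → b ∈ G → NW rho G n w →
      u ∈ D.posUnipotent K → u ∈ G → b * n * u ∈ H → fr D ψ (b * n * u) = b * n * u ∨
      wact D w.reverse top = bot := by
  have Gd := RootComb.good_of_mem hD
  have hpos : ∀ (w : List ℕ) (b n u : GL D.Idx K), b ∈ D.borelSubgroup K → NW rho G n w →
      u ∈ D.posUnipotent K → b * n * u ∈ H → (∀ i < D.rank, D.IsPosRoot (wact D w (D.simple i))) →
      fr D ψ (b * n * u) = b * n * u := fun w b n u hb hn hu hg hp =>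
    hB _ hg (mul_mem (mul_mem hb (mem_borel_of_pos hD hn hp)) (Subgroup.mem_sup_left hu))
  intro k
  induction k with
  | zero =>
    intro w b n u hk hb hbG hn hu huG hg
    left
    refine hpos w b n u hb hn hu hg fun i hi => ?_
    exact (inv_eq_zero_iff Gd hn.lt).1 (Nat.le_zero.1 hk) _ (Gd.simple_pos hi)
  | succ k ih =>
    intro w b n u hk hb hbG hn hu huG hg
    rcases key w b n u hb hbG hn hu huG hg with hp | hbot | ⟨i, hi1, hi2, hi3⟩
    · exact Or.inl (hpos w b n u hb hn hu hg hp)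
    · exact Or.inr hbot
    · left
      obtain ⟨v, x, hxH, hxF, hvG, hvU, rfl⟩ := C.split i u hu huG hi2
      have hNi := C.nhW i
      have hw' : inv D (w ++ (J i).reverse) ≤ k := by
        have h1 := inv_append_list Gd (J i).reverse w hn.lt (fun a ha => hNi.lt a (List.mem_reverse.1 ha))
          (by
            rw [List.pairwise_reverse]
            exact (C.J_orth i).imp fun hab => hab.2)
          (fun j hj => hi1 j (List.mem_reverse.1 hj))
        have h2 : 0 < (J i).reverse.length := by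
          rw [List.length_reverse]
          exact List.length_pos_iff.2 (C.J_ne i)
        omega
      have h3 : b * (n * (nh i)⁻¹) * (nh i * v * (nh i)⁻¹) = b * n * (v * x) * x⁻¹ * (nh i)⁻¹ := by group
      have hnH := C.nh_mem i
      have h4 : b * (n * (nh i)⁻¹) * (nh i * v * (nh i)⁻¹) ∈ H := by
        rw [h3]
        exact mul_mem (mul_mem hg (inv_mem hxH)) (inv_mem hnH)
      rcases ih (w ++ (J i).reverse) b (n * (nh i)⁻¹) (nh i * v * (nh i)⁻¹) hw' hb hbG
        (hn.mul Gd (hNi.inv C.rho_lt Gd)) hvU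
        (mul_mem (mul_mem hNi.mem_G hvG) (inv_mem hNi.mem_G)) h4 with h5 | h5
      · rw [h3, map_mul, map_mul, map_inv, map_inv, hxF, C.nh_fr i] at h5
        exact mul_right_cancel (mul_right_cancel h5)
      · exfalso
        apply hi3
        rw [List.reverse_append, List.reverse_reverse, wact_append] at h5
        exact h5

end Ind

end Cfsg.Agent.H28.TwOv
end
end

-- part: H972/Gen/FieldLin
section
set_option linter.all false
open scoped Cfsg.Agent.FastGrp

/-!
# S2187: linear elements in a group of semilinear automorphisms (helper972)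

* `exists_lin` : `Γ` a relation (subgroup of `Aut G × R`, `R` cyclic) between the elements of `E` and their field parts,
  `|E| ≥ p ^ 2`: some `x ∈ E`, `x ≠ 1` has the field part `1`;
* `commutator_top` : simple nonabelian groups are perfect.
-/

set_option autoImplicit false
set_option linter.unusedSectionVars false

namespace Cfsg.Agent.H972.Gen

open Cfsg Subgroup Cfsg.Agent.H818.Gen Cfsg.Agent.H240.GenTwF Cfsg.Agent.CpAut.Fix

theorem exists_lin {X R : Type*} [Group X] [Finite X] [Group R] [IsCyclic R] {p : ℕ} [hp : Fact p.Prime]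
    {E : Subgroup X} (hE : IsElementaryAbelian p E) (hc : p ^ 2 ≤ Nat.card E) (Γ : Subgroup (X × R))
    (h : ∀ e ∈ E, ∃ φ : R, (e, φ) ∈ Γ) : ∃ x ∈ E, x ≠ 1 ∧ ((x, 1) : X × R) ∈ Γ := by
  by_contra hcon
  push Not at hcon
  have hR : ∀ a b : R, a * b = b * a := fun a b => (IsCyclic.isMulCommutative (α := R)).is_comm.comm a b
  let Z : Subgroup R := Γ.comap (MonoidHom.inr X R)
  have hZmem : ∀ φ, φ ∈ Z ↔ ((1, φ) : X × R) ∈ Γ := fun φ => Iff.rfl
  have hZ : Z.Normal := ⟨fun a ha g => by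
    have : g * a * g⁻¹ = a := by rw [hR g a]; group
    rwa [this]⟩
  have hch : ∀ e : ↥E, ∃ φ : R, ((e : X), φ) ∈ Γ := fun e => h e e.2
  choose φ hφ using hch
  have hmk : ∀ {a b : R} {e : X}, (e, a) ∈ Γ → (e, b) ∈ Γ → (QuotientGroup.mk' Z a) = QuotientGroup.mk' Z b := by
    intro a b e ha hb
    rw [QuotientGroup.mk'_apply, QuotientGroup.mk'_apply, QuotientGroup.eq, hZmem]
    have h1 := Γ.mul_mem (Γ.inv_mem ha) hb
    have h2 : ((e, a) : X × R)⁻¹ * (e, b) = (1, a⁻¹ * b) := by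
      rw [Prod.inv_mk, Prod.mk_mul_mk, inv_mul_cancel]
    rwa [h2] at h1
  let f : ↥E →* R ⧸ Z := MonoidHom.mk' (fun e => QuotientGroup.mk' Z (φ e)) fun a b => by
    rw [← map_mul]
    refine hmk (e := (a * b : ↥E)) (hφ _) ?_
    have := Γ.mul_mem (hφ a) (hφ b)
    rwa [Prod.mk_mul_mk] at this
  have hf : Function.Injective f := by
    rw [injective_iff_map_eq_one]
    intro e he
    have h1 : φ e ∈ Z := (QuotientGroup.eq_one_iff (φ e)).1 he
    rw [hZmem] at h1
    have h2 := Γ.mul_mem (hφ e) (Γ.inv_mem h1)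
    have h3 : (((e : X), φ e) : X × R) * (1, φ e)⁻¹ = ((e : X), 1) := by
      rw [Prod.inv_mk, Prod.mk_mul_mk, inv_one, mul_one, mul_inv_cancel]
    rw [h3] at h2
    by_contra hne
    exact hcon e e.2 (fun h => hne (Subtype.ext h)) h2
  have hq : IsCyclic (R ⧸ Z) := isCyclic_of_surjective (QuotientGroup.mk' Z) (QuotientGroup.mk'_surjective Z)
  have hcyc : IsCyclic ↥E := isCyclic_of_injective f hf
  exact not_cyclic_of_sq hE hc hcyc

theorem commutator_top {G : Type*} [Group G] [hs : IsSimpleGroup G] (hc : ¬ IsMulCommutative G) : commutator G = ⊤ :=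
  (quasisimple_of_simple hc).1.commutator_eq_top

end Cfsg.Agent.H972.Gen
end

-- part: H557/Gp/NC
section
set_option linter.all false

/-!
# S2187, classical rows, non-commuting preimage: definitions and statements (helper557)

* `NC p G E` : `E ≤ G` contains the scalars of `G`, is elementary abelian modulo scalars and not commutative;
* `Hyps p G E M` : `M` contains the elements of determinant one of the (honest) centralizers in `G` of the hyperplanes of `E`;
* `LinearNC p`, `UnitaryNC p` : the statements.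
-/

set_option autoImplicit false

namespace Cfsg.Agent.H557.Gp

open Cfsg.Agent.H847.Bs

universe u v

variable {F : Type u} {V : Type v} [Field F] [AddCommGroup V] [Module F V]

/-- `E ≤ G` contains the scalars of `G`, is elementary abelian modulo scalars and not commutative -/
structure NC (p : ℕ) (G E : Subgroup (V ≃ₗ[F] V)) : Prop where
  le : E ≤ G
  scal : ∀ g ∈ G, (∃ c : F, ∀ v, g v = c • v) → g ∈ E
  pow : ∀ x ∈ E, ∃ c : F, ∀ v, (x ^ p) v = c • v
  comm : ∀ x ∈ E, ∀ y ∈ E, ∃ c : F, ∀ v, x (y v) = c • y (x v)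
  nc : ∃ x ∈ E, ∃ y ∈ E, x * y ≠ y * x

/-- `M` contains the elements of determinant one of the centralizers in `G` of the hyperplanes of `E` -/
def Hyps (p : ℕ) (G E M : Subgroup (V ≃ₗ[F] V)) : Prop :=
  ∀ D ≤ E, (∀ g ∈ G, (∃ c : F, ∀ v, g v = c • v) → g ∈ D) → D.relIndex E = p →
    ∀ g ∈ G, LinearMap.det (g : V →ₗ[F] V) = 1 → (∀ f ∈ D, g * f = f * g) → g ∈ M

/-- **the linear row, non-commuting preimage** -/
def LinearNC (p : ℕ) : Prop :=
  ∀ {F : Type u} {V : Type v} [Field F] [Finite F] [AddCommGroup V] [Module F V] [Module.Finite F V],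
    (7 ≤ p ∨ (2 : F) ≠ 0) → ∀ {E M : Subgroup (V ≃ₗ[F] V)}, NC p ⊤ E → Hyps p ⊤ E M →
    (∀ W : Submodule F V, (∀ f ∈ E, ∀ w ∈ W, f w ∈ W) → W = ⊥ ∨ W = ⊤) →
    ∀ g : V ≃ₗ[F] V, LinearMap.det (g : V →ₗ[F] V) = 1 → g ∈ M

/-- **the unitary row, non-commuting preimage** -/
def UnitaryNC (p : ℕ) : Prop :=
  ∀ {F : Type u} {V : Type v} [Field F] [Finite F] [AddCommGroup V] [Module F V] [Module.Finite F V] {r : ℕ}
    {Φ : Frm F V}, IsHerm r Φ → (7 ≤ p ∨ (2 : F) ≠ 0) → ∀ {E M : Subgroup (V ≃ₗ[F] V)}, NC p Φ.Iso E →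
    Hyps p Φ.Iso E M → (∀ W : Submodule F V, (∀ f ∈ E, ∀ w ∈ W, f w ∈ W) → Φ.TI W → W = ⊥) →
    ∀ g ∈ Φ.Iso, LinearMap.det (g : V →ₗ[F] V) = 1 → g ∈ M

end Cfsg.Agent.H557.Gp
end
end
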